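import Cfsg.Agent.H8.PComplement

/-! Thompson's transfer lemma, through the sign of the action on cosets. -/

set_option autoImplicit false

namespace Cfsg.Agent.H8

open Subgroup MulAction

variable {G : Type*} [Group G]

/-- Thompson's transfer lemma: if `M` has index twice an odd number there is a homomorphism to
`ℤˣ` that is `-1` on every element of square one with no conjugate in `M`. -/
theorem exists_hom_thompson_transfer [Finite G] (M : Subgroup G) {k : ℕ} (hk : Odd k)
    (hM : M.index = 2 * k) :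
    ∃ f : G →* ℤˣ, ∀ t : G, t ^ 2 = 1 → (∀ g : G, g * t * g⁻¹ ∉ M) → f t = -1 := by
  classical
  let _ := Fintype.ofFinite (G ⧸ M)
  refine ⟨Equiv.Perm.sign.comp (toPermHom G (G ⧸ M)), fun t ht hc => ?_⟩
  have h2 : (toPermHom G (G ⧸ M) t) ^ 2 = 1 := by rw [← map_pow, ht, map_one]
  have h3 : Fintype.card (Function.fixedPoints (toPermHom G (G ⧸ M) t)) = 0 := by
    rw [Fintype.card_eq_zero_iff]
    refine ⟨fun ⟨x, hx⟩ => ?_⟩
    obtain ⟨g, rfl⟩ := QuotientGroup.mk_surjective x
    have h4 : ((t * g : G) : G ⧸ M) = (g : G ⧸ M) := hx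
    rw [QuotientGroup.eq] at h4
    apply hc g⁻¹
    have := M.inv_mem h4
    simpa [mul_assoc] using this
  rw [MonoidHom.comp_apply, Equiv.Perm.sign_of_pow_two_eq_one h2, h3, ← Nat.card_eq_fintype_card]
  have h5 : Nat.card (G ⧸ M) = 2 * k := hM
  rw [h5, Nat.sub_zero, Nat.mul_div_cancel_left _ two_pos, hk.neg_one_pow]

theorem index_ker_eq_two_of_eq_neg_one (f : G →* ℤˣ) {t : G} (ht : f t = -1) :
    f.ker.index = 2 := by
  rw [index_ker]
  have : f.range = ⊤ := by
    rw [eq_top_iff]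
    intro u _
    rcases Int.units_eq_one_or u with rfl | rfl
    · exact one_mem _
    · exact ⟨t, ht⟩
  rw [this, card_top, Nat.card_eq_fintype_card, Fintype.card_units_int]

/-- Thompson's transfer lemma. -/
theorem exists_normal_index_two_of_not_conj [Finite G] (M : Subgroup G) {k : ℕ} (hk : Odd k)
    (hM : M.index = 2 * k) {t : G} (ht : t ^ 2 = 1) (hc : ∀ g : G, g * t * g⁻¹ ∉ M) :
    ∃ N : Subgroup G, N.Normal ∧ N.index = 2 ∧ t ∉ N := by
  obtain ⟨f, hf⟩ := exists_hom_thompson_transfer M hk hM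
  refine ⟨f.ker, inferInstance, index_ker_eq_two_of_eq_neg_one f (hf t ht hc), fun h => ?_⟩
  rw [MonoidHom.mem_ker, hf t ht hc] at h
  exact absurd h (by decide)

/-- A cyclic Sylow `2`-subgroup has a normal complement. -/
theorem hasNPC_two_of_isCyclic [Finite G] (P : Sylow 2 G) (h : IsCyclic P) :
    HasNormalPComplement 2 G := by
  by_cases h2 : 2 ∣ Nat.card G
  · exact hasNPC_of_isCyclic_minFac ((Nat.minFac_eq_two_iff _).2 h2) P h
  · exact hasNPC_of_not_dvd h2

/-- A `p`-element is conjugate into any given Sylow `p`-subgroup. -/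
theorem exists_conj_le_sylow [Finite G] {p : ℕ} [Fact p.Prime] (P : Sylow p G) {X : Subgroup G}
    (hX : IsPGroup p X) : ∃ g : G, ∀ x ∈ X, g * x * g⁻¹ ∈ (P : Subgroup G) := by
  obtain ⟨Q, hQ⟩ := hX.exists_le_sylow
  obtain ⟨g, rfl⟩ := exists_smul_eq G Q P
  refine ⟨g, fun x hx => ?_⟩
  rw [Sylow.coe_subgroup_smul, mem_smul_pointwise_iff_exists]
  exact ⟨x, hQ hx, rfl⟩

end Cfsg.Agent.H8
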