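import Cfsg.Agent.H8.Icosian
import Cfsg.Agent.L.SL2Model

/-! The automorphism group of `SL₂(5)` acts faithfully on the five quaternion subgroups. -/

set_option autoImplicit false

namespace Cfsg.Agent.H8

/-- `SL₂(5)`. -/
abbrev SL25 := Matrix.SpecialLinearGroup (Fin 2) (ZMod 5)

/-- The label of the quaternion subgroup that contains a matrix of trace zero. -/
def qcls (a b c : ZMod 5) : ZMod 5 := if b = 0 then 3 * a * (c * c * c) else b * (a * a * a)

/-- The central involution. -/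
def zz5 : SL25 := ⟨!![4, 0; 0, 4], by rw [Matrix.det_fin_two_of]; decide⟩

/-- Representatives of the five quaternion subgroups. -/
def qrep (k : ZMod 5) : SL25 :=
  ⟨!![k ^ 4, k + 1 - k ^ 4; 3 * k ^ 3 - 1 + k ^ 4, -k ^ 4], by
    rw [Matrix.det_fin_two_of]; revert k; decide⟩

theorem sl25_ext {M N : SL25} :
    M = N ↔ M 0 0 = N 0 0 ∧ M 0 1 = N 0 1 ∧ M 1 0 = N 1 0 ∧ M 1 1 = N 1 1 := by
  refine ⟨fun h => by simp [h], fun h => ?_⟩
  ext x y
  fin_cases x <;> fin_cases y <;> simp [h.1, h.2.1, h.2.2.1, h.2.2.2]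

theorem sl25_mul (M N : SL25) (x y : Fin 2) :
    (M * N).1 x y = M.1 x 0 * N.1 0 y + M.1 x 1 * N.1 1 y := by
  simp only [Matrix.SpecialLinearGroup.coe_mul, Matrix.mul_apply, Fin.sum_univ_two]

theorem q_check1 : ∀ a b c d : ZMod 5, a * d - b * c = 1 →
    (a * a + b * c = 1 ∧ a * b + b * d = 0 ∧ c * a + d * c = 0 ∧ c * b + d * d = 1) →
      (a = 1 ∧ b = 0 ∧ c = 0 ∧ d = 1) ∨ (a = 4 ∧ b = 0 ∧ c = 0 ∧ d = 4) := by
  decide +kernel

theorem q_check2 : ∀ a b c d : ZMod 5, a * d - b * c = 1 →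
    (a * a + b * c = 4 ∧ a * b + b * d = 0 ∧ c * a + d * c = 0 ∧ c * b + d * d = 4) → d = -a := by
  decide +kernel

theorem q_check3 : ∀ a b c : ZMod 5, a * -a - b * c = 1 → ∀ a' b' c' : ZMod 5,
    a' * -a' - b' * c' = 1 → (qcls a b c = qcls a' b' c' ↔
      (a * a' + b * c' = a' * a + b' * c ∧ a * b' + b * -a' = a' * b + b' * -a ∧
        c * a' + -a * c' = c' * a + -a' * c ∧ c * b' + -a * -a' = c' * b + -a' * -a) ∨
      (a * a' + b * c' = 4 * (a' * a + b' * c) + 0 * (c' * a + -a' * c) ∧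
        a * b' + b * -a' = 4 * (a' * b + b' * -a) + 0 * (c' * b + -a' * -a) ∧
        c * a' + -a * c' = 0 * (a' * a + b' * c) + 4 * (c' * a + -a' * c) ∧
        c * b' + -a * -a' = 0 * (a' * b + b' * -a) + 4 * (c' * b + -a' * -a))) := by
  decide +kernel

theorem q_check4 : ∀ a b c d : ZMod 5, a * d - b * c = 1 →
    (∀ k : ZMod 5, qcls
      ((a * k ^ 4 + b * (3 * k ^ 3 - 1 + k ^ 4)) * d + (a * (k + 1 - k ^ 4) + b * -k ^ 4) * -c)
      ((a * k ^ 4 + b * (3 * k ^ 3 - 1 + k ^ 4)) * -b + (a * (k + 1 - k ^ 4) + b * -k ^ 4) * a)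
      ((c * k ^ 4 + d * (3 * k ^ 3 - 1 + k ^ 4)) * d + (c * (k + 1 - k ^ 4) + d * -k ^ 4) * -c)
        = k) →
      (a = 1 ∧ b = 0 ∧ c = 0 ∧ d = 1) ∨ (a = 4 ∧ b = 0 ∧ c = 0 ∧ d = 4) := by
  decide +kernel

/-- The label of a matrix. -/
def qlab (M : SL25) : ZMod 5 := qcls (M 0 0) (M 0 1) (M 1 0)

theorem qlab_qrep (k : ZMod 5) : qlab (qrep k) = k := by
  revert k; decide

theorem qrep_sq (k : ZMod 5) : qrep k * qrep k = zz5 := by
  rw [sl25_ext]
  simp only [sl25_mul]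
  revert k; decide

theorem zz5_ne_one : zz5 ≠ 1 := fun h => absurd (sl25_ext.1 h).1 (by decide)

theorem zz5_sq : zz5 * zz5 = 1 := by
  rw [sl25_ext]
  simp only [sl25_mul]
  decide

theorem zz5_comm (M : SL25) : zz5 * M = M * zz5 := by
  rw [sl25_ext]
  simp only [sl25_mul]
  simp [zz5, mul_comm]

theorem eq_zz5 {M : SL25} (h : M * M = 1) : M = 1 ∨ M = zz5 := by
  rw [sl25_ext] at h
  simp only [sl25_mul] at h
  exact (q_check1 _ _ _ _ (ic_det M) h).imp sl25_ext.2 sl25_ext.2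

theorem map_zz5 (α : MulAut SL25) : α zz5 = zz5 :=
  (eq_zz5 (by rw [← map_mul, zz5_sq, map_one])).resolve_left (by simpa using zz5_ne_one)

theorem qlab_eq_iff {u v : SL25} (hu : u * u = zz5) (hv : v * v = zz5) :
    qlab u = qlab v ↔ u * v = v * u ∨ u * v = zz5 * (v * u) := by
  rw [sl25_ext] at hu hv
  simp only [sl25_mul] at hu hv
  have e1 := q_check2 _ _ _ _ (ic_det u) hu
  have e2 := q_check2 _ _ _ _ (ic_det v) hv
  have d1 := ic_det u
  have d2 := ic_det v
  rw [sl25_ext, sl25_ext]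
  simp only [sl25_mul]
  rw [e1] at d1 ⊢
  rw [e2] at d2 ⊢
  exact q_check3 _ _ _ d1 _ _ _ d2

theorem qlab_map (α : MulAut SL25) {u : SL25} (hu : u * u = zz5) :
    qlab (α u) = qlab (α (qrep (qlab u))) := by
  have h := (qlab_eq_iff hu (qrep_sq _)).1 (qlab_qrep _).symm
  rw [qlab_eq_iff (by rw [← map_mul, hu, map_zz5]) (by rw [← map_mul, qrep_sq, map_zz5])]
  rw [← map_zz5 α]
  simpa only [← map_mul, EmbeddingLike.apply_eq_iff_eq] using h

/-- The action on labels. -/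
def qact0 : MulAut SL25 →* Function.End (ZMod 5) where
  toFun α k := qlab (α (qrep k))
  map_one' := funext qlab_qrep
  map_mul' α β := funext fun k =>
    qlab_map α (u := β (qrep k)) (by rw [← map_mul, qrep_sq, map_zz5])

/-- The action on labels as permutations. -/
def qact : MulAut SL25 →* Equiv.Perm (Fin 5) := qact0.toHomPerm

theorem qact_conj_eq_one {M : SL25} (h : qact (MulAut.conj M) = 1) : M = 1 ∨ M = zz5 := by
  refine (q_check4 _ _ _ _ (ic_det M) fun k => ?_).imp sl25_ext.2 sl25_ext.2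
  have e : qlab (M * qrep k * M⁻¹) = k := congrArg (fun σ : Equiv.Perm (Fin 5) => σ k) h
  have hi : M⁻¹.1 0 0 = M.1 1 1 ∧ M⁻¹.1 0 1 = -M.1 0 1 ∧ M⁻¹.1 1 0 = -M.1 1 0 ∧
      M⁻¹.1 1 1 = M.1 0 0 := by
    rw [Matrix.SpecialLinearGroup.SL2_inv_expl]
    exact ⟨rfl, rfl, rfl, rfl⟩
  simp only [qlab, sl25_mul, hi.1, hi.2.1, hi.2.2.1, hi.2.2.2] at e
  exact e

theorem icS1_cube : icS1 ^ 3 = 1 := by
  rw [pow_three, sl25_ext]
  simp only [sl25_mul]
  decide

theorem icS2_cube : icS2 ^ 3 = 1 := by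
  rw [pow_three, sl25_ext]
  simp only [sl25_mul]
  decide

theorem orderOf_icS1 : orderOf icS1 = 3 :=
  orderOf_eq_prime icS1_cube fun h => absurd (sl25_ext.1 h).1 (by decide)

theorem orderOf_icS2 : orderOf icS2 = 3 :=
  orderOf_eq_prime icS2_cube fun h => absurd (sl25_ext.1 h).1 (by decide)

theorem qact_injective : Function.Injective qact := by
  refine (injective_iff_map_eq_one qact).2 fun α hα => ?_
  have key : ∀ M : SL25, M ^ 3 = 1 → α M = M := fun M hM => by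
    have h1 : qact (MulAut.conj (α M * M⁻¹)) = 1 := by
      have : MulAut.conj (α M) = α * MulAut.conj M * α⁻¹ := by ext1 x; simp
      rw [map_mul, this]
      simp [hα]
    rcases qact_conj_eq_one h1 with h | h
    · exact mul_inv_eq_one.1 h
    · exfalso
      have h2 : (α M) ^ 3 = 1 := by rw [← map_pow, hM, map_one]
      rw [mul_inv_eq_iff_eq_mul.1 h, Commute.mul_pow (zz5_comm M), hM, mul_one, pow_three, zz5_sq,
        mul_one] at h2
      exact zz5_ne_one h2
  ext1 M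
  exact ic_ind (fun M => α M = M) (map_one α) (fun M h => by rw [map_mul, h, key _ icS1_cube])
    (fun M h => by rw [map_mul, h, key _ icS2_cube]) M

theorem card_SL25 : Nat.card SL25 = 120 := by
  have : Fact (Nat.Prime 5) := ⟨Nat.prime_five⟩
  rw [L.card_SL2, Nat.card_zmod]

theorem card_range_qact_conj : 60 ≤ Nat.card (qact.comp MulAut.conj).range := by
  have h1 := (qact.comp MulAut.conj).ker.card_mul_index
  rw [Subgroup.index_ker, card_SL25] at h1
  have h2 : Nat.card (qact.comp MulAut.conj).ker ≤ 2 := by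
    have : ((qact.comp MulAut.conj).ker : Set SL25) ⊆ {1, zz5} := fun M hM => qact_conj_eq_one hM
    have h3 := Set.ncard_le_ncard this
    rw [Set.ncard_pair zz5_ne_one.symm] at h3
    exact h3
  nlinarith

theorem exists_quat_SL25 : ∃ i j : SL25, orderOf i = 4 ∧ orderOf j = 4 ∧ ¬ Commute i j := by
  have key : ∀ u : SL25, u * u = zz5 → orderOf u = 4 := fun u hu =>
    orderOf_eq_prime_pow (p := 2) (n := 1) (by rw [pow_one, sq, hu]; exact zz5_ne_one)
      (by rw [show 2 ^ (1 + 1) = 2 * 2 from rfl, pow_mul, sq u, hu, sq, zz5_sq])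
  refine ⟨qrep 0, qrep 1, key _ (qrep_sq 0), key _ (qrep_sq 1), fun h => ?_⟩
  have := (qlab_eq_iff (qrep_sq 0) (qrep_sq 1)).2 (Or.inl h)
  rw [qlab_qrep, qlab_qrep] at this
  exact absurd this (by decide)

end Cfsg.Agent.H8
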