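import Mathlib
import Cfsg.Prelude.Def_SolvableStructure
import Cfsg.Agent.H8.Frobenius
import Cfsg.Agent.H1.Coprime
import Cfsg.Agent.H7.Frattini

/-! Minimal non-`p`-nilpotent groups (Itô) and minimal non-nilpotent groups (Schmidt). -/

set_option autoImplicit false

namespace Cfsg.Agent.H8

open Cfsg
open scoped Pointwise commutatorElement

variable {G : Type*} [Group G]

theorem pow_mul_eq_of_central {a b z : G} (h : b * a = a * b * z) (hb : Commute z b) (n : ℕ) :
    b ^ n * a = a * b ^ n * z ^ n := by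
  induction n with
  | zero => simp
  | succ n ih =>
    calc b ^ (n + 1) * a = b * (b ^ n * a) := by rw [pow_succ', mul_assoc]
      _ = (b * a) * b ^ n * z ^ n := by rw [ih]; group
      _ = a * b * (z * b ^ n) * z ^ n := by rw [h]; group
      _ = a * b * (b ^ n * z) * z ^ n := by rw [(hb.pow_right n).eq]
      _ = a * b ^ (n + 1) * z ^ (n + 1) := by group

/-- The class two power identity. -/
theorem mul_pow_eq_of_central {a b z : G} (h : b * a = a * b * z) (ha : Commute z a)
    (hb : Commute z b) (n : ℕ) : (a * b) ^ n = a ^ n * b ^ n * z ^ n.choose 2 := by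
  induction n with
  | zero => simp
  | succ n ih =>
    have h1 := pow_mul_eq_of_central h hb n
    have h2 : (n + 1).choose 2 = n.choose 2 + n := by
      rw [Nat.choose_succ_succ', Nat.choose_one_right, add_comm]
    calc (a * b) ^ (n + 1) = a ^ n * b ^ n * (z ^ n.choose 2 * (a * b)) := by
          rw [pow_succ, ih, mul_assoc]
      _ = a ^ n * (b ^ n * a) * b * z ^ n.choose 2 := by
          rw [((ha.mul_right hb).pow_left _).eq]; group
      _ = a ^ n * a * b ^ n * (z ^ n * b) * z ^ n.choose 2 := by rw [h1]; group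
      _ = a ^ n * a * b ^ n * (b * z ^ n) * z ^ n.choose 2 := by rw [(hb.pow_left n).eq]
      _ = a ^ (n + 1) * b ^ (n + 1) * z ^ (n + 1).choose 2 := by rw [h2]; group

/-- The data describing a minimal non-`p`-nilpotent group. -/
structure ItoData (p : ℕ) (G : Type*) [Group G] (P : Sylow p G) (g : G) (q k : ℕ) : Prop where
  normal : (P : Subgroup G).Normal
  prime : q.Prime
  ne : q ≠ p
  order : orderOf g = q ^ k
  sup : (P : Subgroup G) ⊔ Subgroup.zpowers g = ⊤
  not_mem : g ∉ Subgroup.centralizer ((P : Subgroup G) : Set G)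
  pow_central : g ^ q ∈ Subgroup.center G
  centralizes : ∀ X : Subgroup G, X < P → g ∈ Subgroup.normalizer (X : Set G) →
    g ∈ Subgroup.centralizer (X : Set G)

theorem card_sup_zpowers_dvd [Finite G] (X : Subgroup G) {g : G}
    (hg : g ∈ Subgroup.normalizer (X : Set G)) :
    Nat.card (X ⊔ Subgroup.zpowers g : Subgroup G) ∣ Nat.card X * orderOf g := by
  rw [sup_comm, mul_comm, ← Nat.card_zpowers]
  exact L.card_sup_dvd_mul _ _ ((Subgroup.zpowers_le).2 hg)

/-- **Itô's theorem** on minimal non-`p`-nilpotent groups. -/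
theorem exists_itoData [Finite G] {p : ℕ} [hp : Fact p.Prime] (h : ¬ HasNormalPComplement p G)
    (hmin : ∀ H : Subgroup G, H ≠ ⊤ → HasNormalPComplement p H) (P : Sylow p G) :
    ∃ (g : G) (q k : ℕ), ItoData p G P g q k := by
  obtain ⟨X, hXP, -, g, hg, q, k, hq, hqp, hk, hgX⟩ := exists_primePow_not_centralizes h P
  have hcop : (orderOf g).Coprime p := by
    rw [hk]; exact ((Nat.coprime_primes hq hp.out).2 hqp).pow_left k
  have key : ∀ Y : Subgroup G, Y ≤ P → ∀ y : G, (orderOf y).Coprime p →
      y ∈ Subgroup.normalizer (Y : Set G) → Y ⊔ Subgroup.zpowers y ≠ ⊤ →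
      y ∈ Subgroup.centralizer (Y : Set G) := fun Y hY y hy1 hy2 hy3 =>
    mem_centralizer_of_hasNPC_subgroup (hmin _ hy3) (P.isPGroup'.to_le hY) le_sup_left
      (Subgroup.mem_sup_right (Subgroup.mem_zpowers y)) hy2 hy1
  have hlt : ∀ Y : Subgroup G, Y < P → g ∈ Subgroup.normalizer (Y : Set G) →
      Y ⊔ Subgroup.zpowers g ≠ ⊤ := by
    intro Y hY hgY he
    have h1 := card_sup_zpowers_dvd Y hgY
    rw [he, Subgroup.card_top] at h1
    obtain ⟨m, hm⟩ := IsPGroup.iff_card.1 P.isPGroup'
    have h2 : Nat.card P ∣ Nat.card Y := by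
      apply Nat.Coprime.dvd_of_dvd_mul_right _ ((Subgroup.card_subgroup_dvd_card _).trans h1)
      rw [hm]; exact (hcop.symm).pow_left m
    exact (card_lt_of_lt hY).not_ge (Nat.le_of_dvd Nat.card_pos h2)
  have htop : X ⊔ Subgroup.zpowers g = ⊤ := by
    by_contra hne
    exact hgX (key X hXP g hcop hg hne)
  have hXP' : X = P := by
    by_contra hne
    exact hlt X (lt_of_le_of_ne hXP hne) hg htop
  subst hXP'
  have hnorm : (P : Subgroup G).Normal := by
    rw [← Subgroup.normalizer_eq_top_iff, eq_top_iff, ← htop]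
    exact sup_le Subgroup.le_normalizer ((Subgroup.zpowers_le).2 hg)
  refine ⟨g, q, k, hnorm, hq, hqp, hk, htop, hgX, ?_, fun Y hY hgY => key Y hY.le g hcop hgY
    (hlt Y hY hgY)⟩
  have hk0 : k ≠ 0 := by
    rintro rfl
    rw [pow_zero, orderOf_eq_one_iff] at hk
    exact hgX (hk ▸ one_mem _)
  have h1 : g ^ q ∈ Subgroup.centralizer ((P : Subgroup G) : Set G) := by
    apply key _ le_rfl _ (Nat.Coprime.coprime_dvd_left (orderOf_pow_dvd q) hcop) (pow_mem hg q)
    intro he
    have h1 := card_sup_zpowers_dvd (P : Subgroup G) (pow_mem hg q)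
    rw [he, Subgroup.card_top] at h1
    obtain ⟨m, hm⟩ := IsPGroup.iff_card.1 P.isPGroup'
    have h2 : orderOf g ∣ orderOf (g ^ q) := by
      apply Nat.Coprime.dvd_of_dvd_mul_left _ ((orderOf_dvd_natCard g).trans h1)
      rw [hm]; exact hcop.pow_right m
    rw [orderOf_pow_of_dvd hq.ne_zero (hk ▸ dvd_pow_self q hk0)] at h2
    exact (Nat.div_lt_self (orderOf_pos g) hq.one_lt).not_ge (Nat.le_of_dvd
      (Nat.div_pos (Nat.le_of_dvd (orderOf_pos g) (hk ▸ dvd_pow_self q hk0)) hq.pos) h2)
  rw [← Subgroup.centralizer_univ, ← Subgroup.coe_top, ← htop, ← Subgroup.zpowers_le,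
    Subgroup.le_centralizer_iff]
  refine sup_le (Subgroup.le_centralizer_iff.1 ((Subgroup.zpowers_le).2 h1)) ?_
  exact (Subgroup.zpowers_le).2 fun y ⟨n, hn⟩ => by
    rw [← hn]; exact (((Commute.refl g).pow_left q).zpow_left n).eq

namespace ItoData

variable [Finite G] {p : ℕ} [hp : Fact p.Prime] {P : Sylow p G} {g : G} {q k : ℕ}

omit [Finite G] in
theorem coprime (h : ItoData p G P g q k) : (orderOf g).Coprime p := by
  rw [h.order]; exact ((Nat.coprime_primes h.prime hp.out).2 h.ne).pow_left k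

theorem coprime_card (h : ItoData p G P g q k) :
    (Nat.card (Subgroup.zpowers g)).Coprime (Nat.card P) := by
  obtain ⟨m, hm⟩ := IsPGroup.iff_card.1 P.isPGroup'
  rw [Nat.card_zpowers, hm]
  exact h.coprime.pow_right m

theorem isComplement' (h : ItoData p G P g q k) :
    (P : Subgroup G).IsComplement' (Subgroup.zpowers g) := by
  have := h.normal
  apply Subgroup.isComplement'_of_disjoint_and_mul_eq_univ
    (Subgroup.disjoint_of_coprime_natCard h.coprime_card.symm)
  rw [← Subgroup.normal_mul, h.sup, Subgroup.coe_top]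

theorem index_eq (h : ItoData p G P g q k) : (P : Subgroup G).index = q ^ k := by
  rw [h.isComplement'.symm.index_eq_card, Nat.card_zpowers, h.order]

theorem exists_card_eq (h : ItoData p G P g q k) : ∃ m : ℕ, Nat.card G = p ^ m * q ^ k := by
  obtain ⟨m, hm⟩ := IsPGroup.iff_card.1 P.isPGroup'
  exact ⟨m, by rw [← hm, ← h.index_eq, Subgroup.card_mul_index]⟩

omit [Finite G] hp in
theorem ne_bot (h : ItoData p G P g q k) : (P : Subgroup G) ≠ ⊥ := by
  intro hb
  apply h.not_mem
  rw [hb]
  intro x hx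
  rw [SetLike.mem_coe, Subgroup.mem_bot] at hx
  simp [hx]

theorem isSolvable (h : ItoData p G P g q k) : Group.IsSolvable G := by
  have := h.normal
  have := P.isPGroup'.isNilpotent
  have := Fact.mk h.prime
  have := (isPGroup_quotient_iff_index.2 ⟨k, h.index_eq⟩).isNilpotent
  exact Group.isSolvable_of_ker_le_range (P : Subgroup G).subtype (QuotientGroup.mk' (P : Subgroup G))
    (by rw [QuotientGroup.ker_mk', Subgroup.range_subtype])

theorem hasNPC_of_ne (h : ItoData p G P g q k) {r : ℕ} [hr : Fact r.Prime] (hrp : r ≠ p) :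
    HasNormalPComplement r G := by
  have := h.normal
  obtain ⟨m, hm⟩ := IsPGroup.iff_card.1 P.isPGroup'
  apply hasNPC_of_quotient_coprime (P : Subgroup G)
  · rw [hm]; exact ((Nat.coprime_primes hp.out hr.out).2 hrp.symm).pow_left m
  · have := Fact.mk h.prime
    have := (isPGroup_quotient_iff_index.2 ⟨k, h.index_eq⟩).isNilpotent
    exact hasNPC_of_isNilpotent r

theorem commutator_eq (h : ItoData p G P g q k) : ⁅(P : Subgroup G), Subgroup.zpowers g⁆ = P := by
  have := h.normal
  by_contra hne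
  have hlt : ⁅(P : Subgroup G), Subgroup.zpowers g⁆ < P :=
    lt_of_le_of_ne (Subgroup.commutator_le_left _ _) hne
  have h1 := h.centralizes _ hlt
    (Subgroup.normalizer_commutator_ge_right _ _ (Subgroup.mem_zpowers g))
  apply h.not_mem
  rw [← Subgroup.zpowers_le] at h1 ⊢
  exact H1.le_centralizer_of_commutator_le Subgroup.le_normalizer_of_normal h.coprime_card le_rfl h1

/-- The only normal subgroup containing `g` is `G`. -/
theorem eq_top_of_mem (h : ItoData p G P g q k) (N : Subgroup G) [N.Normal] (hg : g ∈ N) :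
    N = ⊤ := by
  rw [eq_top_iff, ← h.sup]
  refine sup_le ?_ ((Subgroup.zpowers_le).2 hg)
  rw [← h.commutator_eq]
  exact (Subgroup.commutator_mono le_rfl ((Subgroup.zpowers_le).2 hg)).trans
    (Subgroup.commutator_le_right _ _)

theorem commutator_eq_sylow (h : ItoData p G P g q k) : commutator G = P := by
  have := h.normal
  apply le_antisymm
  · rw [← Subgroup.Normal.quotient_commutative_iff_commutator_le]
    have : IsCyclic (G ⧸ (P : Subgroup G)) :=
      isCyclic_of_surjective _ h.isComplement'.symm.QuotientMulEquiv.symm.surjective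
    infer_instance
  · rw [← h.commutator_eq]
    exact Subgroup.commutator_mono le_top le_top

/-- Normal subgroups of `G` properly contained in `P` are central. -/
theorem le_center (h : ItoData p G P g q k) (X : Subgroup G) [X.Normal] (hX : X < P) :
    X ≤ Subgroup.center G := by
  have h1 := h.centralizes X hX (by rw [Subgroup.normalizer_eq_top]; trivial)
  have h2 := h.eq_top_of_mem _ h1
  intro x hx
  rw [Subgroup.mem_center_iff]
  intro y
  exact ((h2 ▸ Subgroup.mem_top y : y ∈ Subgroup.centralizer (X : Set G)) x hx).symm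

theorem frattini_le_center (h : ItoData p G P g q k) :
    (frattini (P : Subgroup G)).map (P : Subgroup G).subtype ≤ Subgroup.center G := by
  have := h.normal
  have : ((frattini (P : Subgroup G)).map (P : Subgroup G).subtype).Normal :=
    ConjAct.normal_of_characteristic_of_normal
  apply h.le_center
  refine lt_of_le_of_ne (Subgroup.map_subtype_le _) fun he => ?_
  have : Nontrivial (P : Subgroup G) := (Subgroup.nontrivial_iff_ne_bot _).2 h.ne_bot
  have h1 : frattini (P : Subgroup G) = ⊤ := by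
    apply Subgroup.map_injective (P : Subgroup G).subtype_injective
    rw [he, ← MonoidHom.range_eq_map, Subgroup.range_subtype]
  have := frattini_nongenerating (G := (P : Subgroup G)) (K := ⊥) (by rw [h1, bot_sup_eq])
  exact bot_ne_top this

theorem pow_mem_center (h : ItoData p G P g q k) {x : G} (hx : x ∈ (P : Subgroup G)) :
    x ^ p ∈ Subgroup.center G :=
  h.frattini_le_center ⟨_, H7.pow_mem_frattini P.isPGroup' ⟨x, hx⟩, rfl⟩

theorem commutatorElement_mem_center (h : ItoData p G P g q k) {x y : G}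
    (hx : x ∈ (P : Subgroup G)) (hy : y ∈ (P : Subgroup G)) : ⁅x, y⁆ ∈ Subgroup.center G := by
  have := P.isPGroup'.isNilpotent
  exact h.frattini_le_center ⟨⁅(⟨x, hx⟩ : (P : Subgroup G)), ⟨y, hy⟩⁆, H7.commutator_le_frattini
    (Subgroup.commutator_mem_commutator (Subgroup.mem_top _) (Subgroup.mem_top _)), rfl⟩

theorem pow_eq_one_of_dvd (h : ItoData p G P g q k) {n : ℕ} (h1 : p ∣ n) (h2 : p ∣ n.choose 2)
    {x : G} (hx : x ∈ (P : Subgroup G)) : x ^ n = 1 := by
  have := h.normal
  have hmul : ∀ a ∈ (P : Subgroup G), ∀ b ∈ (P : Subgroup G), (a * b) ^ n = a ^ n * b ^ n := by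
    intro a ha b hb
    have hz := h.commutatorElement_mem_center (inv_mem hb) (inv_mem ha)
    have he : b * a = a * b * ⁅b⁻¹, a⁻¹⁆ := by simp [commutatorElement_def, mul_assoc]
    have hc : ∀ y, Commute ⁅b⁻¹, a⁻¹⁆ y := fun y => (Subgroup.mem_center_iff.1 hz y).symm
    have hp1 : ⁅b⁻¹, a⁻¹⁆ ^ p = 1 := by
      have := pow_mul_eq_of_central he (hc b) p
      rw [← Subgroup.mem_center_iff.1 (h.pow_mem_center hb) a] at this
      exact (mul_eq_left.1 this.symm)
    obtain ⟨c, hc'⟩ := h2
    rw [mul_pow_eq_of_central he (hc a) (hc b), hc', pow_mul, hp1, one_pow, mul_one]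
  let K : Subgroup G :=
    { carrier := {x | x ∈ (P : Subgroup G) ∧ x ^ n = 1}
      one_mem' := ⟨one_mem _, one_pow n⟩
      mul_mem' := fun {a b} ha hb => ⟨mul_mem ha.1 hb.1, by rw [hmul a ha.1 b hb.1, ha.2, hb.2, mul_one]⟩
      inv_mem' := fun {a} ha => ⟨inv_mem ha.1, by rw [inv_pow, ha.2, inv_one]⟩ }
  have : (P : Subgroup G) ≤ K := by
    rw [← h.commutator_eq, Subgroup.commutator_le]
    intro a ha y hy
    have h3 : y * a⁻¹ * y⁻¹ ∈ (P : Subgroup G) := this.conj_mem _ (inv_mem ha) y
    have h4 : ⁅a, y⁆ = a * (y * a⁻¹ * y⁻¹) := by simp [commutatorElement_def, mul_assoc]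
    refine ⟨h4 ▸ mul_mem ha h3, ?_⟩
    obtain ⟨c, rfl⟩ := h1
    rw [h4, hmul _ ha _ h3, conj_pow, inv_pow, pow_mul,
      Subgroup.mem_center_iff.1 (inv_mem (Subgroup.pow_mem _ (h.pow_mem_center ha) c)) y]
    group
  exact (this hx).2

/-- For odd `p` the Sylow `p`-subgroup has exponent `p`. -/
theorem pow_eq_one_of_odd (h : ItoData p G P g q k) (hp2 : p ≠ 2) {x : G}
    (hx : x ∈ (P : Subgroup G)) : x ^ p = 1 :=
  h.pow_eq_one_of_dvd dvd_rfl (hp.out.dvd_choose_self two_ne_zero
    (lt_of_le_of_ne hp.out.two_le hp2.symm)) hx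

/-- For `p = 2` the Sylow `2`-subgroup has exponent dividing `4`. -/
theorem pow_four_eq_one (h : ItoData p G P g q k) (hp2 : p = 2) {x : G}
    (hx : x ∈ (P : Subgroup G)) : x ^ 4 = 1 :=
  h.pow_eq_one_of_dvd (by rw [hp2]; norm_num) (by rw [hp2]; decide) hx

end ItoData

/-- A minimal non-`p`-nilpotent group is minimal non-nilpotent. -/
theorem isMinimalNonNilpotent_of_minimal_not_hasNPC [Finite G] {p : ℕ} [hp : Fact p.Prime]
    (h : ¬ HasNormalPComplement p G) (hmin : ∀ H : Subgroup G, H ≠ ⊤ → HasNormalPComplement p H) :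
    IsMinimalNonNilpotent G := by
  obtain ⟨P⟩ : Nonempty (Sylow p G) := inferInstance
  obtain ⟨g, q, k, hd⟩ := exists_itoData h hmin P
  refine ⟨fun hn => h (hasNPC_of_isNilpotent p), fun H hH => ?_⟩
  apply isNilpotent_of_forall_hasNPC
  intro r hr _
  have := Fact.mk hr
  by_cases hrp : r = p
  · subst hrp; exact hmin H hH
  · exact hasNPC_subgroup (hd.hasNPC_of_ne hrp) H

/-- **Schmidt's theorem**: the structure of a minimal non-nilpotent group. -/
theorem exists_itoData_of_isMinimalNonNilpotent [Finite G] (h : IsMinimalNonNilpotent G) :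
    ∃ (p : ℕ) (_ : Fact p.Prime) (P : Sylow p G) (g : G) (q k : ℕ), ItoData p G P g q k := by
  have : ∃ p : ℕ, p.Prime ∧ ¬ HasNormalPComplement p G := by
    by_contra hc
    push Not at hc
    exact h.1 (isNilpotent_of_forall_hasNPC fun p hp _ => hc p hp)
  obtain ⟨p, hp, hn⟩ := this
  have := Fact.mk hp
  obtain ⟨P⟩ : Nonempty (Sylow p G) := inferInstance
  obtain ⟨g, q, k, hd⟩ := exists_itoData hn (fun H hH => by
    have := h.2 H hH
    exact hasNPC_of_isNilpotent p) P
  exact ⟨p, this, P, g, q, k, hd⟩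

theorem isSolvable_of_isMinimalNonNilpotent [Finite G] (h : IsMinimalNonNilpotent G) :
    Group.IsSolvable G := by
  obtain ⟨p, _, P, g, q, k, hd⟩ := exists_itoData_of_isMinimalNonNilpotent h
  exact hd.isSolvable

/-- A finite group all of whose proper subgroups are nilpotent is solvable. -/
theorem isSolvable_of_forall_isNilpotent [Finite G]
    (h : ∀ H : Subgroup G, H ≠ ⊤ → Group.IsNilpotent H) : Group.IsSolvable G := by
  by_cases hn : Group.IsNilpotent G
  · infer_instance
  · exact isSolvable_of_isMinimalNonNilpotent ⟨hn, h⟩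

/-- Minimal subgroups failing a property that is read on subgroups of the ambient group. -/
theorem exists_minimal_subgroup_not [Finite G] (Q : Subgroup G → Prop) {K : Subgroup G}
    (hK : ¬ Q K) : ∃ H : Subgroup G, H ≤ K ∧ ¬ Q H ∧ ∀ L : Subgroup G, L < H → Q L := by
  obtain ⟨H, hH⟩ : ∃ H, Minimal (fun H : Subgroup G => H ≤ K ∧ ¬ Q H) H :=
    Set.Finite.exists_minimal (s := {H : Subgroup G | H ≤ K ∧ ¬ Q H}) (Set.toFinite _)
      ⟨K, le_rfl, hK⟩
  refine ⟨H, hH.prop.1, hH.prop.2, fun L hL => ?_⟩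
  by_contra hc
  exact hL.not_ge (hH.le_of_le ⟨hL.le.trans hH.prop.1, hc⟩ hL.le)

theorem map_subtype_lt {H : Subgroup G} {L : Subgroup H} (hL : L ≠ ⊤) : L.map H.subtype < H := by
  refine lt_of_le_of_ne (Subgroup.map_subtype_le _) fun he => hL ?_
  apply Subgroup.map_injective H.subtype_injective
  rw [he, ← MonoidHom.range_eq_map, Subgroup.range_subtype]

/-- A group without a normal `p`-complement contains a minimal non-`p`-nilpotent subgroup. -/
theorem exists_minimal_not_hasNPC [Finite G] {p : ℕ} [Fact p.Prime]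
    (h : ¬ HasNormalPComplement p G) : ∃ H : Subgroup G, ¬ HasNormalPComplement p H ∧
      ∀ L : Subgroup H, L ≠ ⊤ → HasNormalPComplement p L := by
  obtain ⟨H, -, h1, h2⟩ := exists_minimal_subgroup_not (G := G)
    (fun H => HasNormalPComplement p H) (K := ⊤) (by rwa [hasNPC_top_iff])
  exact ⟨H, h1, fun L hL => hasNPC_of_mulEquiv (h2 _ (map_subtype_lt hL))
    (L.equivMapOfInjective _ H.subtype_injective).symm⟩

/-- A group without a normal `p`-complement contains a subgroup with Itô's structure. -/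
theorem exists_subgroup_itoData [Finite G] {p : ℕ} [Fact p.Prime]
    (h : ¬ HasNormalPComplement p G) : ∃ (H : Subgroup G) (P : Sylow p H) (g : H) (q k : ℕ),
      IsMinimalNonNilpotent H ∧ ItoData p H P g q k := by
  obtain ⟨H, h1, h2⟩ := exists_minimal_not_hasNPC h
  obtain ⟨P⟩ : Nonempty (Sylow p H) := inferInstance
  obtain ⟨g, q, k, hd⟩ := exists_itoData h1 h2 P
  exact ⟨H, P, g, q, k, isMinimalNonNilpotent_of_minimal_not_hasNPC h1 h2, hd⟩

/-- A non-nilpotent finite group contains a minimal non-nilpotent subgroup. -/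
theorem exists_isMinimalNonNilpotent_le [Finite G] {K : Subgroup G} (h : ¬ Group.IsNilpotent K) :
    ∃ H : Subgroup G, H ≤ K ∧ IsMinimalNonNilpotent H := by
  obtain ⟨H, h0, h1, h2⟩ := exists_minimal_subgroup_not (G := G)
    (fun H => Group.IsNilpotent H) h
  refine ⟨H, h0, h1, fun L hL => ?_⟩
  have := h2 _ (map_subtype_lt hL)
  exact Group.nilpotent_of_mulEquiv (L.equivMapOfInjective _ H.subtype_injective).symm

/-- Itô: if all elements of order `p` (and of order `4` if `p = 2`) are central, there is a normal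
`p`-complement. -/
theorem hasNPC_of_omega_le_center [Finite G] {p : ℕ} [hp : Fact p.Prime]
    (h : ∀ x : G, x ^ p = 1 ∨ (p = 2 ∧ x ^ 4 = 1) → x ∈ Subgroup.center G) :
    HasNormalPComplement p G := by
  by_contra hc
  obtain ⟨H, P, g, q, k, -, hd⟩ := exists_subgroup_itoData hc
  apply hd.not_mem
  intro x hx
  have : (x : G) ∈ Subgroup.center G := by
    apply h
    by_cases hp2 : p = 2
    · exact Or.inr ⟨hp2, congrArg Subtype.val (hd.pow_four_eq_one hp2 hx)⟩
    · exact Or.inl (congrArg Subtype.val (hd.pow_eq_one_of_odd hp2 hx))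
  exact Subtype.ext (Subgroup.mem_center_iff.1 this g).symm

end Cfsg.Agent.H8
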