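import Cfsg.Agent.H8.Frobenius
import Cfsg.Agent.H7.ClassProd
import Cfsg.Agent.H1.Generation
import Cfsg.Agent.H3.PBasic
import Cfsg.Agent.L.BaerSuzuki

/-! Auxiliary facts on centralizers, `p`-elements and groups `S × K` with `S` a Sylow subgroup. -/

set_option autoImplicit false

namespace Cfsg.Agent.H8

open Subgroup
open scoped commutatorElement

variable {G : Type*} [Group G]

/-- A `p`-element normalizing `J` but outside `J` makes `p` divide the index of `J`. -/
theorem dvd_relIndex_of_not_mem [Finite G] {p k : ℕ} (hp : p.Prime) {t : G}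
    (ht : orderOf t = p ^ k) {J X : Subgroup G} (hn : t ∈ normalizer (J : Set G)) (htJ : t ∉ J)
    (hJX : J ≤ X) (htX : t ∈ X) : p ∣ J.relIndex X := by
  have h1 : J.relIndex (zpowers t ⊔ J) = J.relIndex (zpowers t) :=
    H1.relIndex_sup_of_le_normalizer (zpowers_le.2 hn)
  have h2 : J.relIndex (zpowers t) ∣ p ^ k := by
    rw [← ht, ← Nat.card_zpowers]; exact relIndex_dvd_card _ _
  obtain ⟨j, -, hj⟩ := (Nat.dvd_prime_pow hp).1 h2
  have h3 : j ≠ 0 := by
    rintro rfl
    rw [pow_zero, relIndex_eq_one] at hj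
    exact htJ (hj (mem_zpowers t))
  rw [← relIndex_mul_relIndex J (zpowers t ⊔ J) X le_sup_right (sup_le (zpowers_le.2 htX) hJX),
    h1, hj]
  exact (dvd_pow_self p h3).mul_right _

theorem pow_conj_of_commutator_mem_center {a b : G} (h : a * b * a⁻¹ * b⁻¹ ∈ center G) (n : ℕ) :
    a ^ n * b * (a ^ n)⁻¹ * b⁻¹ = (a * b * a⁻¹ * b⁻¹) ^ n := by
  induction n with
  | zero => simp
  | succ n ih =>
    have h1 := mem_center_iff.1 (pow_mem h n)
    calc a ^ (n + 1) * b * (a ^ (n + 1))⁻¹ * b⁻¹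
        = a * (a ^ n * b * (a ^ n)⁻¹ * b⁻¹) * (b * a⁻¹ * b⁻¹) := by rw [pow_succ']; group
      _ = (a * b * a⁻¹ * b⁻¹) ^ (n + 1) := by
        rw [ih, h1, pow_succ]; group

/-- Elements of coprime orders with central commutator commute. -/
theorem commute_of_commutator_mem_center {a b : G} (h : a * b * a⁻¹ * b⁻¹ ∈ center G)
    (hc : (orderOf a).Coprime (orderOf b)) : Commute a b := by
  have h1 := pow_conj_of_commutator_mem_center h (orderOf a)
  rw [pow_orderOf_eq_one] at h1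
  have h' : b * a * b⁻¹ * a⁻¹ ∈ center G := by
    have := inv_mem h
    simpa [mul_assoc] using this
  have h2 := pow_conj_of_commutator_mem_center h' (orderOf b)
  rw [pow_orderOf_eq_one] at h2
  have h3 : (a * b * a⁻¹ * b⁻¹) ^ orderOf b = 1 := by
    have : a * b * a⁻¹ * b⁻¹ = (b * a * b⁻¹ * a⁻¹)⁻¹ := by group
    rw [this, inv_pow, ← h2]; group
  have h4 : (a * b * a⁻¹ * b⁻¹) ^ orderOf a = 1 := by rw [← h1]; group
  have h5 : orderOf (a * b * a⁻¹ * b⁻¹) = 1 :=
    Nat.eq_one_of_dvd_coprimes hc (orderOf_dvd_of_pow_eq_one h4) (orderOf_dvd_of_pow_eq_one h3)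
  rw [orderOf_eq_one_iff, mul_inv_eq_one, mul_inv_eq_iff_eq_mul] at h5
  exact h5

/-- If every `p'`-element has class size prime to `p`, then `p'`-elements commute with
`p`-elements. -/
theorem commute_of_forall_not_dvd_cs [Finite G] {p : ℕ} [hp : Fact p.Prime]
    (h : ∀ y : G, (orderOf y).Coprime p → ¬ p ∣ (centralizer ({y} : Set G)).index)
    {a b : G} {k : ℕ} (ha : orderOf a = p ^ k) (hb : (orderOf b).Coprime p) : Commute a b := by
  obtain ⟨P⟩ : Nonempty (Sylow p G) := inferInstance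
  have h1 : normalizer ((P : Subgroup G) : Set G) = ⊤ := by
    apply H6.eq_top_of_forall_exists_conj_mem
    intro g
    obtain ⟨u, y, -, -, rfl, huy, ⟨j, hj⟩, hy⟩ := exists_pPart_pPrimePart hp.out g
    obtain ⟨S, hS1, hS2, hS3, hS4⟩ := H1.exists_sylow_of_le
      (H := centralizer ({y} : Set G)) (zpowers_le.2 (mem_centralizer_singleton_iff.2 huy.eq))
      (isPGroup_zpowers_of_orderOf hj)
    have h2 : ¬ p ∣ S.index := by
      rw [← relIndex_mul_index hS2]
      exact fun hd => (hp.out.dvd_mul.1 hd).elim hS4 (h y hy)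
    let Q : Sylow p G := hS3.toSylow h2
    obtain ⟨x, hx⟩ := MulAction.exists_smul_eq G Q P
    refine ⟨x⁻¹, ?_⟩
    have h3 : u * y ∈ normalizer ((Q : Subgroup G) : Set G) := by
      refine mul_mem (le_normalizer (hS1 (mem_zpowers u))) (centralizer_le_normalizer _ ?_)
      intro s hs
      exact mem_centralizer_singleton_iff.1 (hS2 hs)
    have h4 : (u * y) • Q = Q := Sylow.smul_eq_iff_mem_normalizer.2 h3
    refine Sylow.smul_eq_iff_mem_normalizer.1 ?_
    rw [← hx, inv_inv, ← mul_smul, inv_mul_cancel_right, mul_smul, h4]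
  have hN : (P : Subgroup G).Normal := normalizer_eq_top_iff.1 h1
  obtain ⟨Q, hQ⟩ := H9.not_dvd_index_iff_exists_sylow_le.1 (h b hb)
  have := Sylow.unique_of_normal P hN
  rw [Subsingleton.elim Q P] at hQ
  exact mem_centralizer_singleton_iff.1
    (hQ (H9.mem_sylow_of_mem_normalizer P ha (h1 ▸ mem_top a)))

/-- `C = S × K` with `S` the set of `p`-elements and `K` the set of `p'`-elements of `C`. -/
structure Dec (p : ℕ) (C S K : Subgroup G) : Prop where
  memS : ∀ g, g ∈ S ↔ g ∈ C ∧ ∃ k : ℕ, orderOf g = p ^ k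
  memK : ∀ g, g ∈ K ↔ g ∈ C ∧ (orderOf g).Coprime p
  comm : ∀ a ∈ S, ∀ b ∈ K, Commute a b

theorem exists_dec [Finite G] {p : ℕ} [hp : Fact p.Prime] {C : Subgroup G}
    (h : ∀ a ∈ C, ∀ b ∈ C, (∃ k : ℕ, orderOf a = p ^ k) → (orderOf b).Coprime p → Commute a b) :
    ∃ S K, Dec p C S K := by
  obtain ⟨P⟩ : Nonempty (Sylow p C) := inferInstance
  have h' : ∀ a b : C, (∃ k : ℕ, orderOf a = p ^ k) → (orderOf b).Coprime p → a * b = b * a := by
    intro a b ha hb
    exact Subtype.ext (h a a.2 b b.2 (by simpa using ha) (by simpa using hb))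
  have h1 : HasNormalPComplement p C := hasNPC_of_coprime_centralizes P fun X hX _ g _ hg x hx =>
    h' x g (exists_orderOf_eq_pow_of_mem P.isPGroup' (hX hx)) hg
  have h2 : normalizer ((P : Subgroup C) : Set C) = ⊤ := by
    rw [eq_top_iff, ← sylow_sup_pResidual P]
    refine sup_le le_normalizer (le_trans ?_ (centralizer_le_normalizer _))
    rw [pResidual, closure_le]
    intro g hg x hx
    exact h' x g (exists_orderOf_eq_pow_of_mem P.isPGroup' hx) hg
  have hK : ∀ g, g ∈ (pPrimeCore p C).map C.subtype ↔ g ∈ C ∧ (orderOf g).Coprime p := by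
    intro g
    constructor
    · rintro ⟨x, hx, rfl⟩
      refine ⟨x.2, ?_⟩
      rw [orderOf_injective C.subtype C.subtype_injective]
      exact (L.coprime_card_pPrimeCore p).coprime_dvd_left (orderOf_dvd_natCard _ hx)
    · rintro ⟨hg, hc⟩
      exact ⟨⟨g, hg⟩, hasNPC_iff_forall_mem_pPrimeCore.1 h1 _ (by simpa using hc), rfl⟩
  have hS : ∀ g, g ∈ (P : Subgroup C).map C.subtype ↔ g ∈ C ∧ ∃ k : ℕ, orderOf g = p ^ k := by
    intro g
    constructor
    · rintro ⟨x, hx, rfl⟩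
      refine ⟨x.2, ?_⟩
      rw [orderOf_injective C.subtype C.subtype_injective]
      exact exists_orderOf_eq_pow_of_mem P.isPGroup' hx
    · rintro ⟨hg, k, hk⟩
      exact ⟨⟨g, hg⟩, H9.mem_sylow_of_mem_normalizer P (k := k) (by simpa using hk)
        (h2 ▸ mem_top _), rfl⟩
  exact ⟨_, _, hS, hK, fun a ha b hb =>
    h a ((hS a).1 ha).1 b ((hK b).1 hb).1 ((hS a).1 ha).2 ((hK b).1 hb).2⟩

namespace Dec

variable {p : ℕ} {C S K : Subgroup G}

theorem S_le (h : Dec p C S K) : S ≤ C := fun g hg => ((h.memS g).1 hg).1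

theorem K_le (h : Dec p C S K) : K ≤ C := fun g hg => ((h.memK g).1 hg).1

theorem isPGroup [Fact p.Prime] (h : Dec p C S K) : IsPGroup p S :=
  IsPGroup.iff_orderOf.2 fun g => by
    obtain ⟨k, hk⟩ := ((h.memS g).1 g.2).2
    exact ⟨k, by rw [← hk, orderOf_coe]⟩

theorem coprime [Finite G] [hp : Fact p.Prime] (h : Dec p C S K) : (Nat.card K).Coprime p := by
  rw [Nat.coprime_comm, hp.out.coprime_iff_not_dvd]
  intro hd
  obtain ⟨g, hg⟩ := exists_prime_orderOf_dvd_card' p hd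
  have := ((h.memK g).1 g.2).2
  rw [orderOf_coe, hg, Nat.coprime_self] at this
  exact hp.out.ne_one this

theorem le_of_isPGroup [Fact p.Prime] (h : Dec p C S K) {X : Subgroup G} (hX : IsPGroup p X)
    (hXC : X ≤ C) : X ≤ S := fun g hg =>
  (h.memS g).2 ⟨hXC hg, exists_orderOf_eq_pow_of_mem hX hg⟩

theorem not_dvd_relIndex [Finite G] [Fact p.Prime] (h : Dec p C S K) : ¬ p ∣ S.relIndex C :=
  H1.not_dvd_relIndex_of_maximal h.S_le h.isPGroup fun _ h1 h2 h3 =>
    le_antisymm (h.le_of_isPGroup h3 h2) h1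

theorem exists_mul [Finite G] [hp : Fact p.Prime] (h : Dec p C S K) {g : G} (hg : g ∈ C) :
    ∃ a ∈ S, ∃ b ∈ K, g = a * b := by
  obtain ⟨a, b, ha, hb, e, -, h1, h2⟩ := exists_pPart_pPrimePart hp.out g
  exact ⟨a, (h.memS a).2 ⟨zpowers_le.2 hg ha, h1⟩, b, (h.memK b).2 ⟨zpowers_le.2 hg hb, h2⟩, e⟩

theorem sup_eq [Finite G] [Fact p.Prime] (h : Dec p C S K) : S ⊔ K = C := by
  refine le_antisymm (sup_le h.S_le h.K_le) fun g hg => ?_
  obtain ⟨a, ha, b, hb, rfl⟩ := h.exists_mul hg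
  exact mul_mem (mem_sup_left ha) (mem_sup_right hb)

theorem S_le_centralizer (h : Dec p C S K) : S ≤ centralizer (K : Set G) :=
  fun a ha b hb => (h.comm a ha b hb).eq.symm

theorem K_le_centralizer (h : Dec p C S K) : K ≤ centralizer (S : Set G) :=
  fun b hb a ha => (h.comm a ha b hb).eq

theorem relIndex_K [Finite G] [Fact p.Prime] (h : Dec p C S K) :
    ∃ k : ℕ, K.relIndex C = p ^ k := by
  rw [← h.sup_eq, H1.relIndex_sup_of_le_normalizer
    (h.S_le_centralizer.trans (centralizer_le_normalizer _))]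
  exact h.isPGroup.index (K.subgroupOf S)

/-- An element conjugating a subgroup `X` with `K ≤ X ≤ C` into `C` normalizes `K`. -/
theorem mem_normalizer_K [Finite G] (h : Dec p C S K) {g : G}
    (hg : ∀ k ∈ K, g * k * g⁻¹ ∈ C) : g ∈ normalizer (K : Set G) := by
  refine mem_normalizer_fintype fun k hk => (h.memK _).2 ⟨hg k hk, ?_⟩
  rw [show orderOf (g * k * g⁻¹) = orderOf k from (MulAut.conj g).orderOf_eq k]
  exact ((h.memK k).1 hk).2

theorem mem_normalizer_S [Finite G] (h : Dec p C S K) {g : G}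
    (hg : ∀ k ∈ S, g * k * g⁻¹ ∈ C) : g ∈ normalizer (S : Set G) := by
  refine mem_normalizer_fintype fun k hk => (h.memS _).2 ⟨hg k hk, ?_⟩
  rw [show orderOf (g * k * g⁻¹) = orderOf k from (MulAut.conj g).orderOf_eq k]
  exact ((h.memS k).1 hk).2

end Dec

/-- A noncyclic abelian quotient `A / A₀` acting coprimely on `K`. -/
theorem le_of_forall_centralizer_le_rel [Finite G] {A A₀ K H : Subgroup G} (h0 : A₀ ≤ A)
    (hA : ⁅A, A⁆ ≤ A₀) (hnc : ∀ a ∈ A, ¬ A ≤ zpowers a ⊔ A₀)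
    (hAK : A ≤ normalizer (K : Set G)) (hK : K ≤ centralizer (A₀ : Set G))
    (hcop : (Nat.card A).Coprime (Nat.card K))
    (h : ∀ a ∈ A, a ∉ A₀ → K ⊓ centralizer ({a} : Set G) ≤ H) : K ≤ H := by
  have hn : A ⊔ K ≤ normalizer (A₀ : Set G) := by
    refine sup_le ?_ (hK.trans (centralizer_le_normalizer _))
    exact le_normalizer_iff_commutator_le_left.2 ((commutator_mono h0 le_rfl).trans hA)
  have := H1.normal_subgroupOf_of_le hn
  have hbot : K ⊓ A₀ = ⊥ :=
    H1.inf_eq_bot_of_coprime' (H1.coprime_of_le hcop.symm le_rfl h0)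
  have h1 : H1.bar (A ⊔ K) A₀ K ≤ H1.bar (A ⊔ K) A₀ (H ⊓ K) := by
    refine H1.le_of_forall_centralizer_le (A := H1.bar (A ⊔ K) A₀ A) ?_ ?_
      (H1.bar_le_normalizer hAK) (H1.coprime_bar hcop) ?_
    · rw [← le_centralizer_iff_isMulCommutative, H1.bar_le_centralizer_iff le_sup_left le_sup_left]
      exact hA
    · intro hc
      obtain ⟨⟨_, a, ha, rfl⟩, hg⟩ := hc.exists_generator
      apply hnc a ha
      rw [← H1.bar_le_bar_iff (h0.trans le_sup_left) le_sup_left (zpowers_le.2 a.2),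
        H1.bar_zpowers]
      intro x hx
      obtain ⟨k, hk⟩ := hg ⟨x, hx⟩
      exact ⟨k, congrArg Subtype.val hk⟩
    · rintro _ ⟨a, ha, rfl⟩ ha1 _ ⟨⟨k, hk, rfl⟩, hka⟩
      refine H1.qmk_mem_bar (mem_inf.2 ⟨h a ha (fun h2 => ha1 (H1.qmk_eq_one_iff.2 h2))
        (mem_inf.2 ⟨hk, ?_⟩), hk⟩)
      have h2 : H1.qmk (A ⊔ K) A₀ (a * k * a⁻¹ * k⁻¹) = 1 := by
        rw [map_mul, map_mul, map_mul, map_inv, map_inv,
          ← mem_centralizer_singleton_iff.1 hka]
        group
      have h3 : (a : G) * k * (a : G)⁻¹ * (k : G)⁻¹ ∈ K ⊓ A₀ :=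
        ⟨K.mul_mem (H1.conj_mem_of_le_normalizer hAK ha hk) (K.inv_mem hk),
          H1.qmk_eq_one_iff.1 h2⟩
      rw [hbot, mem_bot, mul_inv_eq_one, mul_inv_eq_iff_eq_mul] at h3
      exact mem_centralizer_singleton_iff.2 h3.symm
  rw [H1.bar_le_bar_iff (h0.trans le_sup_left) le_sup_right (inf_le_right.trans le_sup_right)]
    at h1
  intro k hk
  obtain ⟨x, hx, y, hy, rfl⟩ := (H1.mem_sup_iff_of_le_normalizer
    ((inf_le_right.trans le_sup_right).trans hn)).1 (h1 hk)
  have : y ∈ K ⊓ A₀ := ⟨by simpa using K.mul_mem (K.inv_mem hx.2) hk, hy⟩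
  rw [hbot, mem_bot] at this
  rw [this, mul_one]
  exact hx.1

/-- A noncentral subgroup normal in a `p`-subgroup `P` contains an element that is central of
order `p` in `P` modulo the centre of the group. -/
theorem exists_second_center [Finite G] {p : ℕ} [Fact p.Prime] {P V : Subgroup G}
    (hP : IsPGroup p P) (hVP : V ≤ P) (hn : P ≤ normalizer (V : Set G)) (hV : ¬ V ≤ center G) :
    ∃ u ∈ V, u ∉ center G ∧ u ^ p ∈ center G ∧ ∀ s ∈ P, s * u * s⁻¹ * u⁻¹ ∈ center G := by
  let f : P →* G ⧸ center G := (QuotientGroup.mk' (center G)).comp P.subtype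
  have h1 : IsPGroup p f.range := hP.of_surjective f.rangeRestrict f.rangeRestrict_surjective
  have h2 : (V.subgroupOf P).Normal := H1.normal_subgroupOf_of_le hn
  have h3 := h2.map f.rangeRestrict f.rangeRestrict_surjective
  have h4 : (V.subgroupOf P).map f.rangeRestrict ≠ ⊥ := by
    intro h
    refine hV fun v hv => ?_
    have : f.rangeRestrict ⟨v, hVP hv⟩ ∈ (V.subgroupOf P).map f.rangeRestrict := ⟨_, hv, rfl⟩
    rw [h, mem_bot] at this
    exact (QuotientGroup.eq_one_iff v).1 (congrArg Subtype.val this)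
  obtain ⟨_, ⟨u, hu, rfl⟩, hz, ho⟩ := H3.exists_central_orderOf_eq_prime h1 _ h4
  refine ⟨u, hu, fun h => ?_, ?_, fun s hs => ?_⟩
  · have : f.rangeRestrict u = 1 := Subtype.ext ((QuotientGroup.eq_one_iff _).2 h)
    rw [this, orderOf_one] at ho
    exact (Fact.out : p.Prime).ne_one ho.symm
  · have := pow_orderOf_eq_one (f.rangeRestrict u)
    rw [ho, ← map_pow] at this
    exact (QuotientGroup.eq_one_iff _).1 (congrArg Subtype.val this)
  · have h5 : f.rangeRestrict (⟨s, hs⟩ * u * (⟨s, hs⟩ : P)⁻¹ * u⁻¹) = 1 := by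
      rw [map_mul, map_mul, map_mul, map_inv, map_inv, mem_center_iff.1 hz]
      group
    exact (QuotientGroup.eq_one_iff _).1 (congrArg Subtype.val h5)

/-- A noncentral element has a noncentral power of prime power order. -/
theorem exists_primePow_not_mem [Finite G] {H : Subgroup G} {x : G} (hx : x ∉ H) :
    ∃ (q k : ℕ) (y : G), q.Prime ∧ y ∈ zpowers x ∧ orderOf y = q ^ k ∧ y ∉ H := by
  by_contra hc
  push Not at hc
  refine hx (L.mem_of_forall_pPart_mem (isOfFinOrder_of_finite x) fun q hq y hy ⟨k, hk⟩ => ?_)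
  obtain ⟨j, -, hj⟩ := (Nat.dvd_prime_pow hq).1 (orderOf_dvd_of_pow_eq_one hk)
  exact hc q j y hq hy hj

/-- Subgroups of the same order contain noncentral `q`-elements together. -/
theorem exists_not_mem_center_of_card_eq [Finite G] {q k : ℕ} [hq : Fact q.Prime]
    {X Y : Subgroup G} (hc : Nat.card X = Nat.card Y) (hZ : center G ≤ Y) {x : G} (hxY : x ∈ Y)
    (hx : orderOf x = q ^ k) (hxZ : x ∉ center G) :
    ∃ w ∈ X, w ∉ center G ∧ ∃ j : ℕ, orderOf w = q ^ j := by
  obtain ⟨Q, h1, h2, h3⟩ := H1.exists_sylow_le q X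
  by_contra hcon
  push Not at hcon
  have h4 : Q ≤ center G := fun w hw => by
    by_contra h
    obtain ⟨j, hj⟩ := exists_orderOf_eq_pow_of_mem h2 hw
    exact hcon w (h1 hw) h j hj
  have h5 : Q.relIndex X = Q.relIndex Y := by
    have e1 := H1.card_mul_relIndex h1
    have e2 := H1.card_mul_relIndex (h4.trans hZ)
    rw [hc, ← e2] at e1
    exact Nat.eq_of_mul_eq_mul_left Nat.card_pos e1
  have := H3.normal_of_le_center h4
  exact h3 (h5 ▸ dvd_relIndex_of_not_mem hq.out hx (le_normalizer_of_normal (mem_top x))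
    (fun h => hxZ (h4 h)) (h4.trans hZ) hxY)

end Cfsg.Agent.H8
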