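import Mathlib
import Cfsg.Agent.H8.Frobenius
import Cfsg.Agent.H3.PBasic

/-! Tate's transfer theorem. -/

set_option autoImplicit false

namespace Cfsg.Agent.H8

open Cfsg
open scoped Pointwise commutatorElement

variable {G : Type*} [Group G]

section Cocycle

variable {H : Subgroup G} (τ : G ⧸ H → G) (hτ : ∀ ω, (τ ω : G ⧸ H) = ω)

/-- The transfer cocycle attached to a choice of coset representatives. -/
def coc (g : G) (ω : G ⧸ H) : H :=
  ⟨(τ (g • ω))⁻¹ * g * τ ω, by
    rw [mul_assoc, ← QuotientGroup.eq, hτ, ← smul_eq_mul, ← MulAction.Quotient.smul_mk, hτ]⟩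

theorem coe_coc (g : G) (ω : G ⧸ H) : (coc τ hτ g ω : G) = (τ (g • ω))⁻¹ * g * τ ω := rfl

theorem coc_mul (g h : G) (ω : G ⧸ H) :
    coc τ hτ (g * h) ω = coc τ hτ g (h • ω) * coc τ hτ h ω := by
  apply Subtype.ext
  simp only [coe_coc, Subgroup.coe_mul, mul_smul]
  group

theorem coc_one (ω : G ⧸ H) : coc τ hτ 1 ω = 1 := by
  apply Subtype.ext
  simp [coe_coc]

theorem exists_hom_of_twist {K B A : Type*} [Group K] [Group B] [CommGroup A] [Fintype (G ⧸ H)]
    (ι : K →* G) (σ : K →* B) (π : H →* B) (Z : Subgroup B) (hZ : Z ≤ Subgroup.center B)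
    (hmem : ∀ k ω, (σ k)⁻¹ * π (coc τ hτ (ι k) ω) ∈ Z) (e : Z →* A) :
    ∃ μ : K →* A, ∀ k, μ k = ∏ ω, e ⟨(σ k)⁻¹ * π (coc τ hτ (ι k) ω), hmem k ω⟩ := by
  refine ⟨MonoidHom.mk' (fun k => ∏ ω, e ⟨(σ k)⁻¹ * π (coc τ hτ (ι k) ω), hmem k ω⟩) ?_,
    fun _ => rfl⟩
  intro k k'
  rw [← Equiv.prod_comp (MulAction.toPerm (ι k')) (fun ω => e ⟨(σ k)⁻¹ * π (coc τ hτ (ι k) ω),
    hmem k ω⟩), ← Finset.prod_mul_distrib]
  refine Finset.prod_congr rfl fun ω _ => ?_
  rw [← map_mul]
  congr 1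
  apply Subtype.ext
  have hc := Subgroup.mem_center_iff.1 (hZ (hmem k (ι k' • ω))) (σ k')⁻¹
  simp only [map_mul, coc_mul, Subgroup.coe_mul, MulAction.toPerm_apply, mul_inv_rev]
  rw [← mul_assoc, ← mul_assoc, ← hc]
  simp only [mul_assoc]

end Cocycle

/-- The heart of Tate's theorem. -/
theorem tate_exists_hom_aux [Finite G] {p : ℕ} [hp : Fact p.Prime] {H : Subgroup G}
    (hH : ¬ p ∣ H.index) {B A : Type*} [Group B] [CommGroup A] (hA : IsPGroup p A) (π : H →* B)
    (Z : Subgroup B) (hZ : Z ≤ Subgroup.center B)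
    (hπ : ∀ h : H, (h : G) ∈ pResidual p G → π h ∈ Z) (e : Z →* A) :
    ∃ μ : H →* A, ∀ (h : H) (hh : (h : G) ∈ pResidual p G),
      μ h = (e ⟨π h, hπ h hh⟩)⁻¹ ^ H.index := by
  classical
  have := Fintype.ofFinite (G ⧸ H)
  have hex : ∀ ω : G ⧸ H, ∃ t ∈ pResidual p G, (t : G ⧸ H) = ω := by
    intro ω
    obtain ⟨g, rfl⟩ := QuotientGroup.mk_surjective ω
    have h1 : g ∈ pResidual p G ⊔ H := by rw [sup_comm, sup_pResidual_eq_top hH]; trivial
    rw [← SetLike.mem_coe, Subgroup.normal_mul] at h1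
    obtain ⟨n, hn, h, hh, rfl⟩ := h1
    exact ⟨n, hn, QuotientGroup.eq.2 (by simpa using hh)⟩
  choose τ hτ0 hτ using hex
  have hn : (pResidual p G).Normal := inferInstance
  have hmem1 : ∀ (k : pResidual p G) ω,
      ((1 : pResidual p G →* B) k)⁻¹ * π (coc τ hτ ((pResidual p G).subtype k) ω) ∈ Z := by
    intro k ω
    rw [MonoidHom.one_apply, inv_one, one_mul]
    exact hπ _ (mul_mem (mul_mem (inv_mem (hτ0 _)) k.2) (hτ0 _))
  have hmem2 : ∀ (k : H) ω, (π k)⁻¹ * π (coc τ hτ (H.subtype k) ω) ∈ Z := by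
    intro k ω
    rw [← map_inv, ← map_mul]
    apply hπ
    have := mul_mem (hn.conj_mem' _ (inv_mem (hτ0 ((k : G) • ω))) k) (hτ0 ω)
    simpa [coe_coc, mul_assoc] using this
  obtain ⟨V, hV⟩ := exists_hom_of_twist τ hτ (pResidual p G).subtype 1 π Z hZ hmem1 e
  obtain ⟨μ, hμ⟩ := exists_hom_of_twist τ hτ H.subtype π π Z hZ hmem2 e
  refine ⟨μ, fun h hh => ?_⟩
  have h1 : V ⟨h, hh⟩ = 1 := by
    have := pResidual_le_ker hA V
    rw [pResidual_pResidual] at this
    exact this (Subgroup.mem_top _)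
  rw [hμ, ← mul_one (_ ^ H.index), ← h1, hV, Subgroup.index_eq_card, Nat.card_eq_fintype_card,
    ← Finset.card_univ, ← Finset.prod_const, ← Finset.prod_mul_distrib]
  refine Finset.prod_congr rfl fun ω _ => ?_
  rw [← map_inv e, ← map_mul e]
  congr 1
  apply Subtype.ext
  simp

theorem le_center_of_normal_of_card_prime [Group.IsNilpotent G] (Z : Subgroup G) [Z.Normal]
    (h : (Nat.card Z).Prime) : Z ≤ Subgroup.center G := by
  have hZb : Z ≠ ⊥ := by
    intro hb
    rw [hb, Subgroup.card_bot] at h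
    exact h.ne_one rfl
  have : Finite Z := Nat.finite_of_card_ne_zero h.ne_zero
  have h1 := H3.normal_inf_center_ne_bot Z hZb
  have h2 : Nat.card (Z ⊓ Subgroup.center G : Subgroup G) ∣ Nat.card Z :=
    Subgroup.card_dvd_of_le inf_le_left
  rcases (Nat.dvd_prime h).1 h2 with h3 | h3
  · exact absurd (Subgroup.card_eq_one.1 h3) h1
  · rw [← Subgroup.eq_of_le_of_card_ge (inf_le_left : Z ⊓ Subgroup.center G ≤ Z) h3.ge]
    exact inf_le_right

/-- **Tate's theorem**: if `H` has index prime to `p` and `O^p(H) ≠ O^p(G) ∩ H`, then some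
homomorphism from `H` to a group of order `p` is nontrivial on `O^p(G) ∩ H`. -/
theorem tate_exists_hom [Finite G] {p : ℕ} [hp : Fact p.Prime] {H : Subgroup G}
    (hH : ¬ p ∣ H.index) (hne : pResidualOf p H ≠ pResidual p G ⊓ H) :
    ∃ (μ : H →* Multiplicative (ZMod p)) (h : H), (h : G) ∈ pResidual p G ∧ μ h ≠ 1 := by
  set B₀ := H ⧸ pResidual p H
  have hB₀ : IsPGroup p B₀ := isPGroup_quotient_pResidual hp.out
  set π₀ := QuotientGroup.mk' (pResidual p H)
  have hs₀ : Function.Surjective π₀ := QuotientGroup.mk'_surjective _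
  set N := ((pResidual p G).subgroupOf H).map π₀ with hN
  have : N.Normal := Subgroup.Normal.map inferInstance _ hs₀
  have hNb : N ≠ ⊥ := by
    intro hb
    rw [Subgroup.map_eq_bot_iff, QuotientGroup.ker_mk'] at hb
    apply hne
    refine le_antisymm (le_inf (pResidualOf_le_pResidual p H) (pResidualOf_le p H)) fun x hx => ?_
    exact ⟨⟨x, hx.2⟩, hb hx.1, rfl⟩
  obtain ⟨k, hk⟩ := IsPGroup.iff_card.1 (hB₀.to_subgroup N)
  obtain ⟨k, rfl⟩ : ∃ j, k = j + 1 := by
    rcases k with _ | k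
    · exact absurd (Subgroup.card_eq_one.1 (by simpa using hk)) hNb
    · exact ⟨k, rfl⟩
  obtain ⟨M, hM, hMN, hMc⟩ := H3.exists_normal_le_card_eq_pow hB₀ N (k := k)
    (by rw [hk]; exact Nat.pow_le_pow_right hp.out.pos k.le_succ)
  set Z := N.map (QuotientGroup.mk' M) with hZ
  have : Z.Normal := Subgroup.Normal.map inferInstance _ (QuotientGroup.mk'_surjective _)
  have hZc : Nat.card Z = p := by
    have := L.card_eq_card_map_mk'_mul M N hMN
    rw [hk, hMc, pow_succ'] at this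
    exact (Nat.eq_of_mul_eq_mul_right (pow_pos hp.out.pos k) this).symm
  have hZb : Z ≠ ⊥ := by
    intro hb
    rw [hb, Subgroup.card_bot] at hZc
    exact hp.out.ne_one hZc.symm
  have hZcent : Z ≤ Subgroup.center (B₀ ⧸ M) := by
    have := (hB₀.to_quotient M).isNilpotent
    exact le_center_of_normal_of_card_prime Z (by rw [hZc]; exact hp.out)
  let e : Z ≃* Multiplicative (ZMod p) := mulEquivOfPrimeCardEq hZc (by simp)
  let π : H →* B₀ ⧸ M := (QuotientGroup.mk' M).comp π₀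
  have hπ : ∀ h : H, (h : G) ∈ pResidual p G → π h ∈ Z := fun h hh => ⟨_, ⟨h, hh, rfl⟩, rfl⟩
  have hA : IsPGroup p (Multiplicative (ZMod p)) := IsPGroup.of_card (n := 1) (by simp)
  obtain ⟨μ, hμ⟩ := tate_exists_hom_aux hH hA π Z hZcent hπ e.toMonoidHom
  obtain ⟨⟨_, _, ⟨h, hh, rfl⟩, rfl⟩, hz⟩ := (Subgroup.ne_bot_iff_exists_ne_one).1 hZb
  refine ⟨μ, h, hh, ?_⟩
  rw [hμ h hh]
  intro h1
  have h2 : e ⟨π h, hπ h hh⟩ = 1 := (hA.powEquiv' hH).injective (by simpa using h1)
  exact hz (e.injective (by rw [map_one]; exact h2))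

/-- **Tate's theorem**, normal subgroups of index `p`. -/
theorem tate_of_forall_index [Finite G] {p : ℕ} [hp : Fact p.Prime] {H : Subgroup G}
    (hH : ¬ p ∣ H.index) (h : ∀ M : Subgroup H, M.Normal → M.index = p →
      (pResidual p G).subgroupOf H ≤ M) : pResidualOf p H = pResidual p G ⊓ H := by
  by_contra hne
  obtain ⟨μ, x, hx, hx1⟩ := tate_exists_hom hH hne
  refine hx1 (h μ.ker inferInstance ?_ hx)
  rw [Subgroup.index_ker]
  have h2 : Nat.card μ.range ∣ p := by simpa using Subgroup.card_subgroup_dvd_card μ.range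
  refine ((Nat.dvd_prime hp.out).1 h2).resolve_left fun h3 => hx1 ?_
  have : μ x ∈ μ.range := ⟨x, rfl⟩
  rwa [Subgroup.card_eq_one.1 h3] at this

/-- If `P ∩ O^p(G) ≤ Φ(P)` then `G` has a normal `p`-complement. -/
theorem hasNPC_of_inf_pResidual_le_frattini [Finite G] {p : ℕ} [hp : Fact p.Prime] (P : Sylow p G)
    (h : (pResidual p G).subgroupOf P ≤ frattini (P : Subgroup G)) : HasNormalPComplement p G := by
  rw [hasNPC_iff_inf_pResidual_eq_bot P, inf_comm, ← tate_of_forall_index P.not_dvd_index,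
    pResidualOf, (pResidual_eq_bot_iff hp.out).2 P.isPGroup', Subgroup.map_bot]
  intro M _ hM
  exact h.trans (frattini_le_coatom (H3.isCoatom_of_index_prime (by rw [hM]; exact hp.out)))

/-- If `N` is normal, `G/N` has a normal `p`-complement, and `N ∩ P ≤ Φ(P)` then `G` has a normal
`p`-complement. -/
theorem hasNPC_of_quotient_of_le_frattini [Finite G] {p : ℕ} [hp : Fact p.Prime] (P : Sylow p G)
    (N : Subgroup G) [N.Normal] (hq : HasNormalPComplement p (G ⧸ N))
    (h : N.subgroupOf P ≤ frattini (P : Subgroup G)) : HasNormalPComplement p G := by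
  apply hasNPC_of_inf_pResidual_le_frattini P
  refine le_trans (fun x hx => ?_) h
  have hs := QuotientGroup.mk'_surjective N
  have h1 := (hasNPC_iff_inf_pResidual_eq_bot (P.mapSurjective hs)).1 hq
  have h2 : QuotientGroup.mk' N x ∈ ((P.mapSurjective hs : Sylow p (G ⧸ N)) : Subgroup (G ⧸ N)) ⊓
      pResidual p (G ⧸ N) := ⟨⟨x, x.2, rfl⟩, map_pResidual_le p (QuotientGroup.mk' N) ⟨(x : G), hx, rfl⟩⟩
  rw [h1, Subgroup.mem_bot] at h2
  exact (QuotientGroup.eq_one_iff (x : G)).1 h2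

/-- If `N` is normal and `N ∩ P ≤ Φ(P)` then `N` has a normal `p`-complement. -/
theorem hasNPC_of_normal_of_le_frattini [Finite G] {p : ℕ} [hp : Fact p.Prime] (P : Sylow p G)
    (N : Subgroup G) [N.Normal] (h : N.subgroupOf P ≤ frattini (P : Subgroup G)) :
    HasNormalPComplement p N := by
  set K := (P : Subgroup G) ⊔ N with hK
  refine hasNPC_of_le (K := K) ?_ le_sup_right
  let Q : Sylow p K := P.subtype le_sup_left
  let e : (Q : Subgroup K) ≃* (P : Subgroup G) := Subgroup.subgroupOfEquivOfLe le_sup_left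
  apply hasNPC_of_quotient_of_le_frattini Q (N.subgroupOf K)
  · apply hasNPC_of_isPGroup
    apply P.isPGroup'.of_surjective
      ((QuotientGroup.mk' (N.subgroupOf K)).comp (Subgroup.inclusion le_sup_left))
    intro x
    obtain ⟨⟨x, hx⟩, rfl⟩ := QuotientGroup.mk'_surjective _ x
    have hx' := hx
    rw [hK, ← SetLike.mem_coe, Subgroup.mul_normal] at hx'
    obtain ⟨u, hu, n, hn, rfl⟩ := hx'
    refine ⟨⟨u, hu⟩, QuotientGroup.eq.2 ?_⟩
    rw [Subgroup.mem_subgroupOf]
    simpa using hn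
  · intro x hx
    have h1 : e x ∈ frattini (P : Subgroup G) := h hx
    have := frattini_le_comap_frattini_of_surjective (φ := e.symm.toMonoidHom) e.symm.surjective h1
    simpa using this

theorem sylow_inf_pResidual_le_commutator [Finite G] {p : ℕ} [hp : Fact p.Prime] {X : Subgroup G}
    (hX : IsPGroup p X) : X ⊓ pResidual p G ≤ commutator G := by
  intro x hx
  have h1 := hasNPC_iff_coprime_pResidual.1 (hasNPC_of_isNilpotent (G := Abelianization G) p)
  obtain ⟨k, hk⟩ := exists_orderOf_eq_pow_of_mem hX hx.1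
  rw [← Abelianization.ker_of, MonoidHom.mem_ker, ← orderOf_eq_one_iff]
  exact Nat.eq_one_of_dvd_coprimes (h1.pow_right k)
    (Subgroup.orderOf_dvd_natCard _ (map_pResidual_le p _ ⟨x, hx.2, rfl⟩))
    (hk ▸ orderOf_map_dvd _ x)

/-- **Tate's theorem**, classical form: control of the abelian `p`-transfer implies control of
`O^p`. -/
theorem tate_of_inf_commutator_le [Finite G] {p : ℕ} [hp : Fact p.Prime] (P : Sylow p G)
    {H : Subgroup G} (hPH : (P : Subgroup G) ≤ H) (h : (P : Subgroup G) ⊓ commutator G ≤ ⁅H, H⁆) :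
    pResidualOf p H = pResidual p G ⊓ H := by
  have hH : ¬ p ∣ H.index := fun hd => P.not_dvd_index (hd.trans (Subgroup.index_dvd_of_le hPH))
  by_contra hne
  obtain ⟨μ, x, hx, hx1⟩ := tate_exists_hom hH hne
  have hA : IsPGroup p (Multiplicative (ZMod p)) := IsPGroup.of_card (n := 1) (by simp)
  obtain ⟨a, b, ha, -, rfl, -, ⟨k, hk⟩, hb⟩ := exists_pPart_pPrimePart hp.out x
  have hb1 : μ b = 1 := pResidual_le_ker hA μ (mem_pResidual_of_coprime hb)
  have ha1 : a ∈ (pResidual p G).subgroupOf H :=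
    (Subgroup.zpowers_le (H := (pResidual p G).subgroupOf H)).2 hx ha
  obtain ⟨T, hT⟩ := (isPGroup_zpowers_of_orderOf hk).exists_le_sylow
  obtain ⟨g, hg⟩ := MulAction.exists_smul_eq H T (P.subtype hPH)
  have h2 := conj_mem_conj_smul g (hT (Subgroup.mem_zpowers a))
  rw [← Sylow.coe_subgroup_smul, hg] at h2
  have h3 : g * a * g⁻¹ ∈ (pResidual p G).subgroupOf H :=
    (inferInstance : ((pResidual p G).subgroupOf H).Normal).conj_mem _ ha1 g
  have h4 : ((g * a * g⁻¹ : H) : G) ∈ ⁅H, H⁆ :=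
    h ⟨h2, sylow_inf_pResidual_le_commutator P.isPGroup' ⟨h2, h3⟩⟩
  rw [← Subgroup.map_subtype_commutator] at h4
  obtain ⟨y, hy, he⟩ := h4
  have h5 : μ (g * a * g⁻¹) = 1 := by
    rw [← Subtype.ext he]
    exact Abelianization.commutator_subset_ker μ hy
  apply hx1
  rw [map_mul, hb1, mul_one]
  simpa using h5

end Cfsg.Agent.H8
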