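import Cfsg.Agent.H8.ClassMN

/-! Groups whose class sizes are `1`, `m`, `m * n` with `m`, `n` coprime: the impossible cases. -/

set_option autoImplicit false

namespace Cfsg.Agent.H8

open Subgroup H7
open scoped commutatorElement

variable {G : Type*} [Group G] [Finite G] {m n : ℕ}

theorem orderOf_conj' {G : Type*} [Group G] (g x : G) : orderOf (g * x * g⁻¹) = orderOf x :=
  (MulAut.conj g).orderOf_eq x

namespace MNHyp

theorem not_sq_dvd_of_forall (H : MNHyp G m n) {p : ℕ} [hp : Fact p.Prime] (hpm : p ∣ m)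
    (h : ∀ (u : G) (k : ℕ), u ∉ center G → orderOf u = p ^ k →
      ∃ w ∈ centralizer ({u} : Set G), w ∉ center G ∧ (orderOf w).Coprime p) : ¬ p ^ 2 ∣ m := by
  obtain ⟨P⟩ : Nonempty (Sylow p G) := inferInstance
  obtain ⟨u, hu, h1, h2, h3⟩ := exists_second_center P.isPGroup' le_rfl le_normalizer
    (H.not_sylow_le_center (hpm.mul_right n) P)
  obtain ⟨k, hk⟩ := exists_orderOf_eq_pow_of_mem P.isPGroup' hu
  obtain ⟨w, hw, h4, h5⟩ := h u k h1 hk
  exact H.not_sq_dvd hpm P hu h1 h2 h3 hw h4 h5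

theorem not_sq_dvd_of_two (H : MNHyp G m n) {p r : ℕ} [hp : Fact p.Prime] [hr : Fact r.Prime]
    (hpm : p ∣ m) (hrm : r ∣ m) (hpr : p ≠ r) : ¬ p ^ 2 ∣ m := by
  refine H.not_sq_dvd_of_forall hpm fun u k hu _ => ?_
  obtain ⟨w, hw, h1, j, hj⟩ := H.exists_of_big hrm (H.big hrm hu)
  exact ⟨w, hw, h1, hj ▸ ((Nat.coprime_primes hr.out hp.out).2 hpr.symm).pow_left j⟩

/-- If an element of `p`-power order with `p ∣ m` has class size `m`, then `p` is the only prime
dividing `m`. -/
theorem false_of_two_primes (H : MNHyp G m n) {p r k : ℕ} [hp : Fact p.Prime] [hr : Fact r.Prime]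
    (hpm : p ∣ m) (hrm : r ∣ m) (hpr : p ≠ r) {x : G} (hx : cs x = m) (ho : orderOf x = p ^ k) :
    False := by
  have hxZ := H.not_mem_of_eq_m hx
  obtain ⟨v, hv, hvZ, j, hj⟩ := H.exists_of_big hrm (H.big hrm hxZ)
  have hDv := H.eq_of_eq_m hx hvZ (H.le_of_two_primes hpm hrm hpr hxZ ho hv hj)
  have hcen : ∀ (s i : ℕ) (y : G), s.Prime → s ∣ m → y ∈ centralizer ({x} : Set G) →
      orderOf y = s ^ i → centralizer ({x} : Set G) ≤ centralizer ({y} : Set G) := by
    intro s i y hs hsm hy hyo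
    have := Fact.mk hs
    by_cases hsp : s = p
    · subst hsp
      rw [hDv] at hy ⊢
      exact H.le_of_two_primes hrm hpm hpr.symm hvZ hj hy hyo
    · exact H.le_of_two_primes hpm hsm (Ne.symm hsp) hxZ ho hy hyo
  have heq : ∀ (s i : ℕ) (y : G), s.Prime → s ∣ m → y ∈ centralizer ({x} : Set G) →
      orderOf y = s ^ i → y ∉ center G → centralizer ({x} : Set G) = centralizer ({y} : Set G) :=
    fun s i y hs hsm hy hyo hyZ => H.eq_of_eq_m hx hyZ (hcen s i y hs hsm hy hyo)
  have hnorm : (centralizer ({x} : Set G)).Normal := by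
    rw [← normalizer_eq_top_iff, ← index_eq_one]
    by_contra hne
    obtain ⟨s, hs, hd⟩ := Nat.exists_prime_and_dvd hne
    have := Fact.mk hs
    have hsm : s ∣ m := hx ▸ hd.trans (index_dvd_of_le le_normalizer)
    have hsq : ¬ s ^ 2 ∣ m := by
      by_cases hsp : s = p
      · subst hsp; exact H.not_sq_dvd_of_two hpm hrm hpr
      · exact H.not_sq_dvd_of_two hsm hpm hsp
    obtain ⟨S, h1, h2, h3⟩ := H1.exists_sylow_le s (centralizer ({x} : Set G))
    obtain ⟨y, hy, hyZ, i, hi⟩ := H.exists_of_big hsm ((H.big hsm hxZ).of_not_dvd hs h1 h3)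
    have h4 : centralizer (S : Set G) = centralizer ({x} : Set G) := by
      apply le_antisymm
      · rw [heq s i y hs hsm (h1 hy) hi hyZ]
        exact centralizer_le (Set.singleton_subset_iff.2 hy)
      · intro g hg a ha
        obtain ⟨l, hl⟩ := exists_orderOf_eq_pow_of_mem h2 ha
        exact (mem_centralizer_singleton_iff.1 (hcen s l a hs hsm (h1 ha) hl hg)).symm
    refine H.not_dvd_index_normalizer hsm hsq h2 h1 h3 (hd.trans (index_dvd_of_le ?_))
    rw [← h4]
    exact H1.normalizer_le_normalizer_centralizer S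
  obtain ⟨P⟩ : Nonempty (Sylow p G) := inferInstance
  have hPD : ¬ (P : Subgroup G) ≤ centralizer ({x} : Set G) := fun h =>
    P.not_dvd_index ((hx ▸ hpm : p ∣ cs x).trans (index_dvd_of_le h))
  obtain ⟨t, htP, htD⟩ := SetLike.not_le_iff_exists.1 hPD
  obtain ⟨a, ha⟩ := exists_orderOf_eq_pow_of_mem P.isPGroup' htP
  have htZ : t ∉ center G := fun h => htD (center_le_cent x h)
  obtain ⟨t', ht', ht'Z, b, hb⟩ := H.exists_of_big hrm (H.big hrm htZ)
  have ht'D : t' ∉ centralizer ({x} : Set G) := fun h =>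
    htD (heq r b t' hr.out hrm h hb ht'Z ▸ mem_cent_comm.1 ht')
  obtain ⟨S, K, hD⟩ := H.exists_dec hrm hvZ hj
  rw [← hDv] at hD
  have hSn : S.Normal := by
    rw [← normalizer_eq_top_iff, eq_top_iff]
    exact fun g _ => hD.mem_normalizer_S fun s hs => hnorm.conj_mem _ (hD.S_le hs) g
  obtain ⟨R, hR⟩ := (isPGroup_zpowers_of_orderOf hb).exists_le_sylow
  obtain ⟨u, hu, huZ, -, hc⟩ := exists_second_center R.isPGroup'
    (hD.isPGroup.le_sylow_of_normal R) le_normalizer_of_normal
    (fun h => hvZ (h ((hD.memS v).2 ⟨hv, j, hj⟩)))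
  have h1 := hc t' (hR (mem_zpowers t'))
  have htt : t * t' = t' * t := (mem_centralizer_singleton_iff.1 ht').symm
  have h2 : u⁻¹ * (t * u * t⁻¹) ∈ S := S.mul_mem (S.inv_mem hu) (hSn.conj_mem _ hu t)
  have h3 : t' ∈ centralizer ({u⁻¹ * (t * u * t⁻¹)} : Set G) := by
    rw [mem_centralizer_singleton_iff]
    have e1 := mem_center_iff.1 h1
    have e2 : t' * u = (t' * u * t'⁻¹ * u⁻¹) * u * t' := by group
    generalize t' * u * t'⁻¹ * u⁻¹ = z at e1 e2
    have e3 : t' * u⁻¹ = u⁻¹ * z⁻¹ * t' := by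
      have : u = t'⁻¹ * (z * u * t') := by rw [← e2]; group
      calc t' * u⁻¹ = t' * (t'⁻¹ * (z * u * t'))⁻¹ := by rw [← this]
        _ = u⁻¹ * z⁻¹ * t' := by group
    have e4 : t' * t⁻¹ = t⁻¹ * t' := by
      calc t' * t⁻¹ = t⁻¹ * (t * t') * t⁻¹ := by group
        _ = t⁻¹ * t' := by rw [htt]; group
    calc t' * (u⁻¹ * (t * u * t⁻¹)) = (t' * u⁻¹) * t * u * t⁻¹ := by group
      _ = u⁻¹ * z⁻¹ * (t' * t) * u * t⁻¹ := by rw [e3]; group
      _ = u⁻¹ * z⁻¹ * t * (t' * u) * t⁻¹ := by rw [← htt]; group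
      _ = u⁻¹ * z⁻¹ * (t * z) * u * (t' * t⁻¹) := by rw [e2]; group
      _ = u⁻¹ * (t * u * t⁻¹) * t' := by rw [e1 t, e4]; group
  have h4 : u⁻¹ * (t * u * t⁻¹) ∈ center G := by
    by_contra hc
    obtain ⟨hy, l, hl⟩ := (hD.memS _).1 h2
    exact ht'D (heq r l _ hr.out hrm hy hl hc ▸ h3)
  obtain ⟨huD, l, hl⟩ := (hD.memS _).1 hu
  have h5 : Commute u⁻¹ t := by
    refine commute_of_commutator_mem_center (by simpa [mul_assoc] using h4) ?_
    rw [orderOf_inv, hl, ha]
    exact ((Nat.coprime_primes hr.out hp.out).2 hpr.symm).pow l a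
  refine htD ?_
  rw [heq r l u hr.out hrm huD hl huZ, mem_centralizer_singleton_iff]
  exact (Commute.inv_left_iff.1 h5).eq.symm

section caseII

variable (H : MNHyp G m n)
  (hII : ∀ (p k : ℕ) (u : G), p.Prime → p ∣ m → orderOf u = p ^ k → u ∉ center G → cs u = m * n)
include H hII

theorem exists_q_elt {q k : ℕ} [Fact q.Prime] {x : G} (hx : cs x = m) (ho : orderOf x = q ^ k)
    {t : G} (ht : cs t = m * n) :
    ∃ w ∈ centralizer ({t} : Set G), w ∉ center G ∧ ∃ j : ℕ, orderOf w = q ^ j := by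
  obtain ⟨p, hp, hpm⟩ := Nat.exists_prime_and_dvd H.hm.ne'
  have := Fact.mk hp
  obtain ⟨u, hu, huZ, j, hj⟩ := H.exists_of_big hpm (H.big hpm (H.not_mem_of_eq_m hx))
  refine exists_not_mem_center_of_card_eq (Y := centralizer ({u} : Set G)) ?_ (center_le_cent u)
    (mem_cent_comm.1 hu) ho (H.not_mem_of_eq_m hx)
  have h1 := (centralizer ({t} : Set G)).card_mul_index
  have h2 := (centralizer ({u} : Set G)).card_mul_index
  change _ * cs t = _ at h1
  change _ * cs u = _ at h2
  rw [hII p j u hp hpm hj huZ, ← h1, ht] at h2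
  exact (Nat.eq_of_mul_eq_mul_right (Nat.mul_pos (lt_trans one_pos H.hm) (lt_trans one_pos H.hn))
    h2).symm

theorem not_sq_dvd_II {q k : ℕ} [hq : Fact q.Prime] (hqm : ¬ q ∣ m) {x : G} (hx : cs x = m)
    (ho : orderOf x = q ^ k) {r : ℕ} (hr : r.Prime) (hrm : r ∣ m) : ¬ r ^ 2 ∣ m := by
  have := Fact.mk hr
  refine H.not_sq_dvd_of_forall hrm fun u j hu hj => ?_
  obtain ⟨w, hw, h1, i, hi⟩ := H.exists_q_elt hII hx ho (hII r j u hr hrm hj hu)
  exact ⟨w, hw, h1, hi ▸ ((Nat.coprime_primes hq.out hr).2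
    fun h => hqm (h ▸ hrm)).pow_left i⟩

theorem le_normalCore {q k : ℕ} [hq : Fact q.Prime] (hqm : ¬ q ∣ m) {x : G} (hx : cs x = m)
    (ho : orderOf x = q ^ k) {p j : ℕ} (hp : p.Prime) (hpm : p ∣ m) {u : G}
    (hu : u ∈ centralizer ({x} : Set G)) (huZ : u ∉ center G) (hj : orderOf u = p ^ j) :
    centralizer ({u} : Set G) ≤ (centralizer ({x} : Set G)).normalCore := by
  have := Fact.mk hp
  have hub := hII p j u hp hpm hj huZ
  obtain ⟨S, A, hD⟩ := H.exists_dec hpm huZ hj
  have hA : ∀ a ∈ A, centralizer ({u} : Set G) ≤ centralizer ({a} : Set G) := fun a ha =>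
    H.le_of_eq_mn hub (mem_centralizer_singleton_iff.1 (hD.K_le ha)).symm
      (hj ▸ ((hD.memK a).1 ha).2.symm.pow_left j)
  have hxA : x ∈ A := (hD.memK x).2 ⟨mem_cent_comm.1 hu, ho ▸
    ((Nat.coprime_primes hq.out hp).2 fun h => hqm (h ▸ hpm)).pow_left k⟩
  have hcop : (normalizer (A : Set G)).index.Coprime (centralizer ({x} : Set G)).index := by
    change Nat.Coprime _ (cs x)
    rw [hx]
    refine Nat.Coprime.symm (Nat.coprime_of_dvd fun r hr hrm hd => ?_)
    have := Fact.mk hr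
    obtain ⟨T, h1, h2, h3⟩ := H1.exists_sylow_le r (centralizer ({u} : Set G))
    have h4 : centralizer (T : Set G) ≤ centralizer ({u} : Set G) := by
      by_cases hrp : r = p
      · subst hrp
        have : u ∈ T := by
          rw [← H1.sylow_maximal h3 (hD.le_of_isPGroup h2 h1) hD.S_le hD.isPGroup]
          exact (hD.memS u).2 ⟨mem_cent_self u, j, hj⟩
        exact centralizer_le (Set.singleton_subset_iff.2 this)
      · obtain ⟨v, hv, hvZ, i, hi⟩ := H.exists_of_big hrm ((H.big hrm huZ).of_not_dvd hr h1 h3)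
        have e : centralizer ({u} : Set G) = centralizer ({v} : Set G) :=
          eq_of_le_of_index_eq (H.le_of_two_primes hpm hrm (Ne.symm hrp) huZ hj (h1 hv) hi)
            (hub.trans (hII r i v hr hrm hi hvZ).symm)
        rw [e]
        exact centralizer_le (Set.singleton_subset_iff.2 hv)
    refine H.not_dvd_index_normalizer hrm (H.not_sq_dvd_II hII hqm hx ho hr hrm) h2 h1 h3
      (hd.trans (index_dvd_of_le fun g hg => hD.mem_normalizer_K fun a ha => h4 ?_))
    refine (mem_normalizer_iff.1 (H1.normalizer_le_normalizer_centralizer T hg) a).1 ?_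
    intro s hs
    exact mem_centralizer_singleton_iff.1 (hA a ha (h1 hs))
  intro g hg b
  obtain ⟨a, ha, c, hc, e⟩ := H9.exists_mul_eq_of_coprime_index hcop b⁻¹
  have h1 := mem_centralizer_singleton_iff.1 (hA _ ((mem_normalizer_iff.1 ha x).1 hxA) hg)
  have h2 := mem_centralizer_singleton_iff.1 hc
  have h3 : b = c⁻¹ * a⁻¹ := by rw [← mul_inv_rev, e, inv_inv]
  rw [mem_centralizer_singleton_iff, h3]
  have h4 : x = c * x * c⁻¹ := by rw [h2]; group
  calc c⁻¹ * a⁻¹ * g * (c⁻¹ * a⁻¹)⁻¹ * x = c⁻¹ * a⁻¹ * g * a * (c * x) := by group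
    _ = c⁻¹ * a⁻¹ * (g * (a * x * a⁻¹)) * a * c := by rw [h2]; group
    _ = c⁻¹ * (x * c) * (c⁻¹ * a⁻¹ * g * a * c) := by rw [h1]; group
    _ = x * (c⁻¹ * a⁻¹ * g * (c⁻¹ * a⁻¹)⁻¹) := by rw [← h2]; group

theorem false_of_II {q k : ℕ} [hq : Fact q.Prime] (hqm : ¬ q ∣ m) {x : G} (hx : cs x = m)
    (ho : orderOf x = q ^ k) : False := by
  have hxZ := H.not_mem_of_eq_m hx
  obtain ⟨p, hp, hpm⟩ := Nat.exists_prime_and_dvd H.hm.ne'
  have := Fact.mk hp
  have hpq : p.Coprime q := (Nat.coprime_primes hp hq.out).2 fun h => hqm (h ▸ hpm)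
  obtain ⟨P⟩ : Nonempty (Sylow p G) := inferInstance
  have hPD : ¬ (P : Subgroup G) ≤ centralizer ({x} : Set G) := fun h =>
    P.not_dvd_index ((hx ▸ hpm : p ∣ cs x).trans (index_dvd_of_le h))
  obtain ⟨t, htP, htD⟩ := SetLike.not_le_iff_exists.1 hPD
  obtain ⟨a, ha⟩ := exists_orderOf_eq_pow_of_mem P.isPGroup' htP
  have htZ : t ∉ center G := fun h => htD (center_le_cent x h)
  have htb := hII p a t hp hpm ha htZ
  obtain ⟨w, hw, hwZ, j, hj⟩ := H.exists_q_elt hII hx ho htb
  have htw : centralizer ({t} : Set G) ≤ centralizer ({w} : Set G) :=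
    H.le_of_eq_mn htb (mem_centralizer_singleton_iff.1 hw).symm (ha ▸ hj ▸ hpq.pow a j)
  have hrel : (centralizer ({x} : Set G) ⊓ centralizer ({t} : Set G)).relIndex
      (centralizer ({t} : Set G)) = m := by
    apply le_antisymm
    · rw [inf_relIndex_right, ← hx]
      have := relIndex_le_of_le_right (H := centralizer ({x} : Set G))
        (le_top : centralizer ({t} : Set G) ≤ ⊤)
        (by rw [relIndex_top_right]; exact index_ne_zero_of_finite)
      rwa [relIndex_top_right] at this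
    · refine Nat.le_of_dvd (Nat.pos_of_ne_zero FiniteIndex.index_ne_zero) ?_
      rw [Nat.dvd_iff_prime_pow_dvd_dvd]
      intro r i hr hi
      rcases i with _ | _ | i
      · simp
      · have := Fact.mk hr
        rw [zero_add, pow_one] at hi ⊢
        by_contra hd
        obtain ⟨v, hv, hvZ, l, hl⟩ := H.exists_of_big hi
          ((H.big hi htZ).of_not_dvd hr inf_le_right hd)
        exact htD (normalCore_le _ (H.le_normalCore hII hqm hx ho hr hi hv.1 hvZ hl
          (mem_cent_comm.1 hv.2)))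
      · exact absurd ((pow_dvd_pow r (by omega)).trans hi) (H.not_sq_dvd_II hII hqm hx ho hr
          ((dvd_pow_self r (by omega)).trans hi))
  have hwx : w ∈ centralizer ({x} : Set G) := by
    by_contra hc
    refine hqm (hrel ▸ dvd_relIndex_of_not_mem hq.out hj (centralizer_le_normalizer _ ?_)
      (fun h => hc h.1) inf_le_right hw)
    intro s hs
    exact mem_centralizer_singleton_iff.1 (htw hs.2)
  have hwa : cs w = m := by
    refine (H.cases hwZ).resolve_right fun h => htD ?_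
    rw [mem_cent_comm, eq_of_le_of_index_eq htw (htb.trans h.symm), mem_cent_comm]
    exact hwx
  have hxw : Commute x w := (mem_centralizer_singleton_iff.1 hwx).symm
  have htw' : t * w = w * t := (mem_centralizer_singleton_iff.1 hw).symm
  have hxwZ : x * w ∉ center G := by
    intro h
    apply htD
    rw [mem_centralizer_singleton_iff]
    have := mem_center_iff.1 h t
    calc t * x = t * (x * w) * w⁻¹ := by group
      _ = x * t := by rw [this, mul_assoc x, ← htw']; group
  obtain ⟨s, hs, hsZ, b, hb⟩ := H.exists_of_big hpm (H.big hpm hxwZ)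
  have hs' := mem_centralizer_singleton_iff.1 hs
  have hcore : ∀ (y g h : G), g ∈ (centralizer ({y} : Set G)).normalCore →
      Commute g (h * y * h⁻¹) := by
    intro y g h hg
    have := mem_centralizer_singleton_iff.1 (hg h⁻¹)
    calc g * (h * y * h⁻¹) = h * (h⁻¹ * g * h⁻¹⁻¹ * y) * h⁻¹ := by group
      _ = h * y * h⁻¹ * g := by rw [this]; group
  have htKw : t ∈ (centralizer ({w} : Set G)).normalCore :=
    H.le_normalCore hII hqm hwa hj hp hpm (mem_cent_comm.1 hw) htZ ha (mem_cent_self t)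
  have hy : x⁻¹ * (s * x * s⁻¹) = w * (s * w * s⁻¹)⁻¹ := by
    calc x⁻¹ * (s * x * s⁻¹) = x⁻¹ * (s * (x * w)) * w⁻¹ * s⁻¹ := by group
      _ = w * (s * w * s⁻¹)⁻¹ := by rw [hs']; group
  have hyZ : x⁻¹ * (s * x * s⁻¹) ∈ center G := by
    by_contra hc
    obtain ⟨u, hu, huZ, l, hl⟩ := H.exists_of_big hpm (H.big hpm hxZ)
    have h1 : Big p (centralizer ({x} : Set G)).normalCore :=
      (H.big hpm huZ).mono (H.le_normalCore hII hqm hx ho hp hpm hu huZ hl)
    refine htD (normalCore_le _ (h1.mem hp ha (le_normalizer_of_normal (mem_top t)) hc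
      (fun g hg => ?_) ?_))
    · rw [mem_centralizer_singleton_iff]
      have e1 : Commute g x := mem_centralizer_singleton_iff.1 (normalCore_le _ hg)
      exact (e1.inv_right.mul_right (hcore x g s hg)).eq
    · rw [mem_centralizer_singleton_iff, hy]
      exact (Commute.mul_right htw' (hcore w t s htKw).inv_right).eq
  have hsx : s ∈ centralizer ({x} : Set G) := by
    have : Commute x⁻¹ s := by
      refine commute_of_commutator_mem_center (by simpa [mul_assoc] using hyZ) ?_
      rw [orderOf_inv, ho, hb]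
      exact hpq.symm.pow k b
    exact mem_centralizer_singleton_iff.2 (Commute.inv_left_iff.1 this).eq.symm
  have hsw : s ∈ centralizer ({w} : Set G) := by
    have : Commute w s := by
      refine commute_of_commutator_mem_center (by rw [hy] at hyZ; simpa [mul_assoc] using hyZ) ?_
      rw [hj, hb]
      exact hpq.symm.pow j b
    exact mem_centralizer_singleton_iff.2 this.eq.symm
  have h1 : Big p ((centralizer ({x} : Set G)).normalCore ⊓
      (centralizer ({w} : Set G)).normalCore) :=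
    (H.big hpm hsZ).mono (le_inf (H.le_normalCore hII hqm hx ho hp hpm hsx hsZ hb)
      (H.le_normalCore hII hqm hwa hj hp hpm hsw hsZ hb))
  exact htD (normalCore_le _ (h1.mem hp ha (le_normalizer_of_normal (mem_top t)) hwZ
    (inf_le_right.trans (normalCore_le _)) (mem_cent_comm.1 hw)).1)

end caseII

/-- `m` is a power of a prime `p` and some `p`-element has class size `m`. -/
theorem exists_pow (H : MNHyp G m n) (hx : ∃ x : G, cs x = m) :
    ∃ (p a k : ℕ) (x : G), p.Prime ∧ m = p ^ a ∧ cs x = m ∧ orderOf x = p ^ k := by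
  by_cases h : ∃ (p k : ℕ) (x : G), p.Prime ∧ p ∣ m ∧ cs x = m ∧ orderOf x = p ^ k
  · obtain ⟨p, k, x, hp, hpm, h1, h2⟩ := h
    have := Fact.mk hp
    refine ⟨p, _, k, x, hp, Nat.eq_prime_pow_of_unique_prime_dvd (lt_trans one_pos H.hm).ne'
      fun {r} hr hrm => ?_, h1, h2⟩
    by_contra hne
    have := Fact.mk hr
    exact H.false_of_two_primes hpm hrm (Ne.symm hne) h1 h2
  · exfalso
    obtain ⟨x, hx⟩ := hx
    obtain ⟨q, k, y, hq, hy, ho, hyZ⟩ := exists_primePow_not_mem (H.not_mem_of_eq_m hx)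
    have hya : cs y = m := by
      have := H.eq_of_eq_m hx hyZ (H9.centralizer_le_of_mem_zpowers hy)
      rw [← hx, cs, cs, this]
    have := Fact.mk hq
    refine H.false_of_II (fun p j u hp hpm hj hu => (H.cases hu).resolve_left fun e =>
      h ⟨p, j, u, hp, hpm, e, hj⟩) (fun hqm => h ⟨q, k, y, hq, hqm, hya, ho⟩) hya ho

end MNHyp

end Cfsg.Agent.H8
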