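import Cfsg.Agent.H8.Frobenius
import Cfsg.Agent.H3.RankOne
import Cfsg.Agent.H6.ZAction
import Cfsg.Agent.H4.FrobOrder
import Cfsg.Agent.L.MinNormal
import Cfsg.Agent.S3742
import Cfsg.Agent.S4189

/-! Finite groups all of whose abelian subgroups are cyclic. -/

set_option autoImplicit false

namespace Cfsg.Agent.H8

open Subgroup

/-- All abelian subgroups are cyclic. -/
def AC (G : Type*) [Group G] : Prop := ∀ X : Subgroup G, IsMulCommutative X → IsCyclic X

variable {G : Type*} [Group G]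

theorem AC.of_injective {H : Type*} [Group H] (h : AC G) (f : H →* G) (hf : Function.Injective f) :
    AC H := fun X hX => by
  have := h (X.map f) inferInstance
  exact isCyclic_of_injective (X.equivMapOfInjective f hf).toMonoidHom (MulEquiv.injective _)

theorem AC.subgroup (h : AC G) (H : Subgroup G) : AC H := h.of_injective _ H.subtype_injective

theorem AC.isCyclic_of_odd [Finite G] (h : AC G) {p : ℕ} (hp : p.Prime) (hp2 : p ≠ 2)
    {P : Subgroup G} (hP : IsPGroup p P) : IsCyclic P :=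
  have := Fact.mk hp
  (H3.isCyclic_or_quaternion_of_abelian_cyclic hP (h.subgroup P)).resolve_right fun e => hp2 e.1

theorem AC.isZGroup_of_two [Finite G] (h : AC G)
    (h2 : ∀ P : Subgroup G, IsPGroup 2 P → IsCyclic P) : IsZGroup G := ⟨fun p hp P => by
  by_cases hp2 : p = 2
  · subst hp2; exact h2 _ P.2
  · exact h.isCyclic_of_odd hp hp2 P.2⟩

theorem AC.isZGroup_of_not_four_dvd [Finite G] (h : AC G) (h4 : ¬ 4 ∣ Nat.card G) : IsZGroup G :=
  h.isZGroup_of_two fun P hP => by
    obtain ⟨k, hk⟩ := IsPGroup.iff_card.1 hP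
    apply isCyclic_of_card_dvd_prime (p := 2)
    have : k ≤ 1 := by
      by_contra hc
      exact h4 ((show 4 ∣ 2 ^ k from pow_dvd_pow 2 (show 2 ≤ k by omega)).trans
        (hk ▸ P.card_subgroup_dvd_card))
    rw [hk]
    simpa using pow_dvd_pow 2 this

theorem AC.mem_zpowers_of_commute [Finite G] (h : AC G) {x y : G} (hc : Commute x y)
    (hd : orderOf x ∣ orderOf y) : x ∈ zpowers y := by
  have := h (closure {x, y}) (isMulCommutative_closure (by
    rintro a (rfl | rfl) b (rfl | rfl)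
    exacts [rfl, hc.eq, hc.eq.symm, rfl]))
  exact H6.mem_zpowers_of_orderOf_dvd (P := closure {x, y}) (subset_closure (by simp))
    (subset_closure (by simp)) hd

theorem AC.not_four_dvd [Finite G] (h : AC G) {i j : G} (hi : orderOf i = 4) (hj : orderOf j = 4)
    (hij : ¬ Commute i j) {K : Subgroup G} (hK : ∀ x ∈ K, Commute i x ∧ Commute j x) :
    ¬ 4 ∣ Nat.card K := fun h4 => by
  obtain ⟨U, hU⟩ := Sylow.exists_subgroup_card_pow_prime (G := K) 2 (n := 2) h4
  have := h.subgroup K U (IsPGroup.isMulCommutative_of_card_eq_prime_sq hU)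
  obtain ⟨u, hu⟩ := IsCyclic.exists_ofOrder_eq_natCard (α := U)
  rw [hU, ← Subgroup.orderOf_coe, ← Subgroup.orderOf_coe] at hu
  obtain ⟨a, ha⟩ := mem_zpowers_iff.1 (h.mem_zpowers_of_commute (hK _ u.1.2).1 (by rw [hi, hu]; rfl))
  obtain ⟨b, hb⟩ := mem_zpowers_iff.1 (h.mem_zpowers_of_commute (hK _ u.1.2).2 (by rw [hj, hu]; rfl))
  exact hij (ha ▸ hb ▸ Commute.zpow_zpow_self _ a b)

theorem AC.aut_two [Finite G] (h : AC G) (hG : IsPGroup 2 G) :
    IsPGroup 2 (MulAut G) ∨ Nonempty (G ≃* QuaternionGroup 2) := by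
  rcases H3.abelian_cyclic_cases hG (fun A hA => h A hA.1) with hc | ⟨-, n, x, y, hn, hx, hidx, hy, h1, h2⟩
  · left
    obtain ⟨k, hk⟩ := IsPGroup.iff_card.1 hG
    rcases k with _ | k
    · exact IsPGroup.of_card (n := 0) (by rw [IsCyclic.card_mulAut, hk]; rfl)
    · exact IsPGroup.of_card (n := k) (by
        rw [IsCyclic.card_mulAut, hk, Nat.totient_prime_pow_succ Nat.prime_two]; simp)
  · by_cases h3 : n = 2
    · subst h3
      exact Or.inr (H3.nonempty_mulEquiv_quaternion (by rw [hx]; rfl) hidx hy h1 h2)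
    · refine Or.inl (S4189.isPGroup_aut (by omega) hx hidx hy fun g hg hc => ?_)
      obtain ⟨i, rfl⟩ := H3.exists_eq_zpow_mul_of_index_two hidx hy hg
      have e1 : (x ^ i * y) ^ 2 = y ^ 2 := by
        rw [sq, sq]
        nth_rewrite 2 [H3.zpow_mul_of_conj_inv h2]
        calc x ^ i * y * (y * x ^ (-i)) = x ^ i * y ^ 2 * x ^ (-i) := by rw [sq]; group
          _ = y * y := by rw [← sq, h1]; group
      have e2 : (x ^ i * y) ^ 2 ^ 2 = 1 := by
        rw [show 2 ^ 2 = 2 * 2 from rfl, pow_mul, e1, h1, ← pow_mul, ← pow_succ,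
          Nat.sub_add_cancel (by omega), ← hx, pow_orderOf_eq_one]
      have := orderOf_dvd_of_pow_eq_one e2
      rw [hc, Nat.pow_dvd_pow_iff_le_right one_lt_two] at this
      omega

theorem card_mulAut_of_quat (e : G ≃* QuaternionGroup 2) : Nat.card (MulAut G) = 24 := by
  obtain ⟨f⟩ := S3742.result
  rw [Nat.card_congr ((MulAut.congr e).trans f).toEquiv, Nat.card_perm]
  simp [Nat.factorial]

theorem mem_centralizer_of_normalizerMonoidHom {X : Subgroup G} {g : G}
    (hg : g ∈ normalizer (X : Set G)) (h : X.normalizerMonoidHom ⟨g, hg⟩ = 1) :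
    g ∈ centralizer (X : Set G) := by
  have : (⟨g, hg⟩ : normalizer (X : Set G)) ∈ X.normalizerMonoidHom.ker := h
  rwa [normalizerMonoidHom_ker] at this

/-- An element of odd prime power order acting nontrivially on a `2`-subgroup. -/
theorem AC.quat_of_not_centralizes [Finite G] (h : AC G) {X : Subgroup G} (hX : IsPGroup 2 X)
    {g : G} (hg : g ∈ normalizer (X : Set G)) {q k : ℕ} (hq : q.Prime) (hq2 : q ≠ 2)
    (hgq : orderOf g = q ^ k) (hc : g ∉ centralizer (X : Set G)) :
    q = 3 ∧ Nonempty (X ≃* QuaternionGroup 2) := by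
  have h1 : orderOf (X.normalizerMonoidHom ⟨g, hg⟩) ∣ q ^ k := by
    rw [← hgq, ← Subgroup.orderOf_mk g hg]
    exact orderOf_map_dvd _ _
  obtain ⟨m, -, hm⟩ := (Nat.dvd_prime_pow hq).1 h1
  have hm0 : m ≠ 0 := by
    rintro rfl
    exact hc (mem_centralizer_of_normalizerMonoidHom hg (orderOf_eq_one_iff.1 hm))
  have h2 : q ∣ orderOf (X.normalizerMonoidHom ⟨g, hg⟩) := hm ▸ dvd_pow_self q hm0
  rcases (h.subgroup X).aut_two hX with h3 | ⟨⟨e⟩⟩
  · obtain ⟨r, hr⟩ := IsPGroup.iff_orderOf.1 h3 (X.normalizerMonoidHom ⟨g, hg⟩)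
    rw [hr] at h2
    exact absurd ((Nat.prime_dvd_prime_iff_eq hq Nat.prime_two).1 (hq.dvd_of_dvd_pow h2)) hq2
  · refine ⟨?_, ⟨e⟩⟩
    have h4 := h2.trans (orderOf_dvd_natCard _)
    rw [card_mulAut_of_quat e, show 24 = 2 ^ 3 * 3 from rfl, hq.dvd_mul] at h4
    rcases h4 with h4 | h4
    · exact absurd ((Nat.prime_dvd_prime_iff_eq hq Nat.prime_two).1 (hq.dvd_of_dvd_pow h4)) hq2
    · exact (Nat.prime_dvd_prime_iff_eq hq Nat.prime_three).1 h4

theorem AC.isSolvable_of_hasNPC [Finite G] (h : AC G) (h2 : HasNormalPComplement 2 G) :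
    Group.IsSolvable G := by
  obtain ⟨N, hN, h1, h3⟩ := hasNPC_iff_exists.1 h2
  have : IsZGroup N := (h.subgroup N).isZGroup_of_not_four_dvd fun h4 => by
    have := Nat.Coprime.coprime_dvd_left h4 h1
    norm_num at this
  have := (isPGroup_quotient_iff_index.2 h3).isNilpotent
  exact (Group.isSolvable_iff_subgroup_quotient N).2 ⟨inferInstance, inferInstance⟩

theorem AC.isSolvable_of_not_three_dvd [Finite G] (h : AC G) (h3 : ∀ x : G, orderOf x ≠ 3) :
    Group.IsSolvable G := by
  refine h.isSolvable_of_hasNPC ?_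
  by_contra hc
  obtain ⟨P⟩ : Nonempty (Sylow 2 G) := inferInstance
  obtain ⟨X, hX, -, g, hg, q, k, hq, hq2, hgq, hgc⟩ := exists_primePow_not_centralizes hc P
  obtain ⟨rfl, -⟩ := h.quat_of_not_centralizes (P.2.to_le hX) hg hq hq2 hgq hgc
  rcases k with _ | k
  · rw [orderOf_eq_one_iff.1 hgq] at hgc
    exact hgc (one_mem _)
  · refine h3 (g ^ 3 ^ k) ?_
    rw [orderOf_pow_of_dvd (by positivity) (hgq ▸ pow_dvd_pow 3 k.le_succ), hgq, pow_succ,
      Nat.mul_div_cancel_left _ (by positivity)]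

open scoped IsMulCommutative in
theorem AC.isSolvable_of_central_three [Finite G] (h : AC G)
    (h3 : ∀ x : G, orderOf x = 3 → x ∈ center G) : Group.IsSolvable G := by
  obtain ⟨P⟩ : Nonempty (Sylow 3 G) := inferInstance
  have hP := h.isCyclic_of_odd Nat.prime_three (by norm_num) P.2
  let τ : G →* P := MonoidHom.transfer (MonoidHom.id P)
  have : Group.IsSolvable τ.ker := (h.subgroup _).isSolvable_of_not_three_dvd fun x hx => by
    rw [← Subgroup.orderOf_coe] at hx
    have hz := h3 _ hx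
    have e := MonoidHom.transfer_eq_pow (MonoidHom.id P) (x : G) fun k g _ => by
      rw [mul_assoc, ← mem_center_iff.1 (pow_mem hz k) g, inv_mul_cancel_left]
    have e1 : (x : G) ^ (P : Subgroup G).index = 1 := congrArg Subtype.val (e.symm.trans x.2)
    have e2 := orderOf_dvd_of_pow_eq_one e1
    rw [hx] at e2
    exact P.not_dvd_index e2
  exact Group.isSolvable_of_ker_le_range τ.ker.subtype τ (range_subtype _).ge

theorem AC.isSolvable_of_three_le [Finite G] (h : AC G) {c : G}
    (h3 : ∀ x : G, orderOf x = 3 → x ∈ zpowers c) (hc : orderOf c = 3) : Group.IsSolvable G := by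
  have hn : (zpowers c).Normal := ⟨by
    rintro _ ⟨k, rfl⟩ g
    simp only
    rw [← conj_zpow]
    exact zpow_mem (h3 _ (((MulAut.conj g).orderOf_eq c).trans hc)) k⟩
  let π : G →* MulAut (zpowers c) := MulAut.conjNormal
  have := H4.isSolvable_mulAut_of_isCyclic (zpowers c)
  have : Group.IsSolvable π.ker := (h.subgroup _).isSolvable_of_central_three fun x hx => by
    rw [← Subgroup.orderOf_coe] at hx
    rw [mem_center_iff]
    intro g
    have e := congrArg (fun φ : MulAut (zpowers c) => ((φ ⟨x, h3 _ hx⟩ : zpowers c) : G))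
      (show π g = 1 from g.2)
    simp only [π, MulAut.conjNormal_apply, MulAut.one_apply] at e
    exact Subtype.ext (mul_inv_eq_iff_eq_mul.1 e)
  exact Group.isSolvable_of_ker_le_range π.ker.subtype π (range_subtype _).ge

/-- A solvable group with cyclic abelian subgroups and without normal `2`-complement has a normal
quaternion subgroup of order eight on which a `3`-element acts nontrivially. -/
theorem AC.exists_normal_quat [Finite G] [Group.IsSolvable G] (h : AC G)
    (h2 : ¬ HasNormalPComplement 2 G) : ∃ T : Subgroup G, T.Normal ∧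
      Nonempty (T ≃* QuaternionGroup 2) ∧ ∃ (g : G) (k : ℕ), orderOf g = 3 ^ k ∧
        g ∉ centralizer (T : Set G) := by
  obtain ⟨P⟩ : Nonempty (Sylow 2 G) := inferInstance
  obtain ⟨X, hX, -, g, hg, q, k, hq, hq2, hgq, hgc⟩ := exists_primePow_not_centralizes h2 P
  have hgT : g ∉ centralizer (pCore 2 G : Set G) := fun hc => hgc fun x hx => by
    have hy : x * g * x⁻¹ * g⁻¹ ∈ X := by
      rw [show x * g * x⁻¹ * g⁻¹ = x * (g * x⁻¹ * g⁻¹) by group]
      exact mul_mem hx ((mem_normalizer_iff.1 hg _).1 (inv_mem hx))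
    obtain ⟨m, hm⟩ := exists_orderOf_eq_pow_of_mem P.2 (hX hy)
    have h1 : x * g * x⁻¹ * g⁻¹ ∈ fittingSubgroup G := by
      apply L.centralizer_fittingSubgroup_le
      have : fittingSubgroup G ≤ centralizer (zpowers (x * g * x⁻¹ * g⁻¹) : Set G) := by
        rw [L.fittingSubgroup_eq_iSup_pCore]
        refine iSup_le fun r => ?_
        rw [le_centralizer_iff, zpowers_le]
        by_cases hr : (r : ℕ) = 2
        · rw [hr]
          exact mul_mem ((inferInstance : (centralizer (pCore 2 G : Set G)).Normal).conj_mem g hc x)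
            (inv_mem hc)
        · have := h.isCyclic_of_odd r.2 hr (L.isPGroup_pCore (G := G) r)
          exact H6.commutatorElement_mem_centralizer_of_isCyclic
            (le_normalizer_of_normal (mem_top x)) (le_normalizer_of_normal (mem_top g))
      exact le_centralizer_iff.1 this (mem_zpowers _)
    have h3 := L.mem_pCore_of_mem_fittingSubgroup Nat.prime_two (hm ▸ pow_orderOf_eq_one _) h1
    have h4 : Commute (x * g * x⁻¹ * g⁻¹) g := hc _ h3
    have h5 : (x * g * x⁻¹ * g⁻¹) ^ q ^ k = 1 := by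
      have e1 : (x * g * x⁻¹ * g⁻¹ * g) ^ q ^ k = 1 := by
        rw [inv_mul_cancel_right, conj_pow, ← hgq, pow_orderOf_eq_one]; simp
      rwa [h4.mul_pow, ← hgq, pow_orderOf_eq_one, mul_one, hgq] at e1
    have h6 : x * g * x⁻¹ * g⁻¹ = 1 := eq_one_of_orderOf_pow_of_coprime hm
      (Nat.Coprime.coprime_dvd_left (orderOf_dvd_of_pow_eq_one h5)
        (((Nat.coprime_primes hq Nat.prime_two).2 hq2).pow_left k))
    rw [mul_inv_eq_one, mul_inv_eq_iff_eq_mul] at h6
    exact h6
  obtain ⟨rfl, e⟩ := h.quat_of_not_centralizes (L.isPGroup_pCore (G := G) 2)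
    (le_normalizer_of_normal (mem_top g)) hq hq2 hgq hgT
  exact ⟨pCore 2 G, inferInstance, e, g, k, hgq, hgT⟩

end Cfsg.Agent.H8
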