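import Cfsg.Agent.H8.CentAux

/-! Groups whose class sizes are `1`, `m`, `m * n` with `m`, `n` coprime: local analysis. -/

set_option autoImplicit false

namespace Cfsg.Agent.H8

open Subgroup H7
open scoped commutatorElement

/-- The class sizes are `1`, `m` and `m * n`. -/
structure MNHyp (G : Type*) [Group G] (m n : ℕ) : Prop where
  hm : 1 < m
  hn : 1 < n
  cop : m.Coprime n
  sizes : ∀ z : G, cs z = 1 ∨ cs z = m ∨ cs z = m * n
  exb : ∃ y : G, cs y = m * n

/-- `J` has order divisible by the `p`-part of the order of the centralizer of a noncentral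
element. -/
def Big {G : Type*} [Group G] (p : ℕ) (J : Subgroup G) : Prop :=
  ∀ (k : ℕ) (z : G), z ∉ center G → p ^ k ∣ Nat.card (centralizer ({z} : Set G)) →
    p ^ k ∣ Nat.card J

variable {G : Type*} [Group G] [Finite G] {m n : ℕ}

omit [Finite G] in
theorem Big.mono {p : ℕ} {J J' : Subgroup G} (h : Big p J) (hJ : J ≤ J') : Big p J' :=
  fun k z hz hk => (h k z hz hk).trans (card_dvd_of_le hJ)

omit [Finite G] in
theorem Big.of_not_dvd {p : ℕ} (hp : p.Prime) {J S : Subgroup G} (h : Big p J) (hS : S ≤ J)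
    (hd : ¬ p ∣ S.relIndex J) : Big p S := by
  intro k z hz hk
  have := h k z hz hk
  rw [← H1.card_mul_relIndex hS] at this
  exact ((hp.coprime_iff_not_dvd.2 hd).pow_left k).dvd_of_dvd_mul_right this

theorem Big.not_dvd {p : ℕ} (hp : p.Prime) {J X : Subgroup G} (h : Big p J) (hJX : J ≤ X) {z : G}
    (hz : z ∉ center G) (hX : X ≤ centralizer ({z} : Set G)) : ¬ p ∣ J.relIndex X := by
  intro hd
  have key : ∀ k, p ^ k ∣ Nat.card (centralizer ({z} : Set G)) := by
    intro k
    induction k with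
    | zero => simp
    | succ k ih =>
      refine dvd_trans ?_ (card_dvd_of_le hX)
      rw [← H1.card_mul_relIndex hJX, pow_succ]
      exact Nat.mul_dvd_mul (h k z hz ih) hd
  have h1 := Nat.le_of_dvd Nat.card_pos (key (Nat.card (centralizer ({z} : Set G))))
  exact absurd (Nat.lt_pow_self hp.one_lt) (not_lt.2 h1)

theorem Big.mem {p k : ℕ} (hp : p.Prime) {J : Subgroup G} (h : Big p J) {t z : G}
    (ht : orderOf t = p ^ k) (hn : t ∈ normalizer (J : Set G)) (hz : z ∉ center G)
    (hJ : J ≤ centralizer ({z} : Set G)) (htz : t ∈ centralizer ({z} : Set G)) : t ∈ J := by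
  by_contra hc
  exact h.not_dvd hp hJ hz le_rfl (dvd_relIndex_of_not_mem hp ht hn hc hJ htz)

omit [Finite G] in
theorem mem_cent_comm {a b : G} :
    a ∈ centralizer ({b} : Set G) ↔ b ∈ centralizer ({a} : Set G) := by
  rw [mem_centralizer_singleton_iff, mem_centralizer_singleton_iff, eq_comm]

omit [Finite G] in
theorem mem_cent_self (a : G) : a ∈ centralizer ({a} : Set G) :=
  mem_centralizer_singleton_iff.2 rfl

omit [Finite G] in
theorem center_le_cent (a : G) : center G ≤ centralizer ({a} : Set G) := center_le_centralizer _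

theorem eq_of_le_of_index_eq {A B : Subgroup G} (h : A ≤ B) (hi : A.index = B.index) : A = B := by
  refine le_antisymm h (relIndex_eq_one.1 ?_)
  have := relIndex_mul_index h
  rw [hi] at this
  exact Nat.eq_of_mul_eq_mul_right (Nat.pos_of_ne_zero index_ne_zero_of_finite)
    (this.trans (one_mul _).symm)

namespace MNHyp

omit [Finite G] in
theorem cases (H : MNHyp G m n) {z : G} (hz : z ∉ center G) : cs z = m ∨ cs z = m * n :=
  (H.sizes z).resolve_left fun h => hz (H9.index_centralizer_eq_one_iff.1 h)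

omit [Finite G] in
theorem not_mem_of_eq_m (H : MNHyp G m n) {z : G} (hz : cs z = m) : z ∉ center G := fun h => by
  rw [← H9.index_centralizer_eq_one_iff] at h
  have := H.hm
  change cs z = 1 at h
  omega

omit [Finite G] in
theorem not_mem_of_eq_mn (H : MNHyp G m n) {z : G} (hz : cs z = m * n) : z ∉ center G :=
  fun h => by
    rw [← H9.index_centralizer_eq_one_iff] at h
    have := H.hm
    have := H.hn
    change cs z = 1 at h
    nlinarith

omit [Finite G] in
theorem m_dvd (H : MNHyp G m n) {z : G} (hz : z ∉ center G) : m ∣ cs z := by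
  rcases H.cases hz with h | h <;> rw [h]
  exact dvd_mul_right _ _

omit [Finite G] in
theorem dvd_mn (H : MNHyp G m n) (z : G) : cs z ∣ m * n := by
  rcases H.sizes z with h | h | h <;> rw [h]
  · exact one_dvd _
  · exact dvd_mul_right _ _

omit [Finite G] in
theorem exists_eq_mul (H : MNHyp G m n) {z : G} (hz : z ∉ center G) :
    ∃ e, cs z = m * e ∧ e.Coprime m := by
  rcases H.cases hz with h | h
  · exact ⟨1, by rw [h, mul_one], Nat.coprime_one_left _⟩
  · exact ⟨n, h, H.cop.symm⟩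

omit [Finite G] in
theorem big (H : MNHyp G m n) {p : ℕ} (hpm : p ∣ m) {z : G} (hz : z ∉ center G) :
    Big p (centralizer ({z} : Set G)) := by
  intro k z' hz' hk
  obtain ⟨e, he, hc⟩ := H.exists_eq_mul hz
  obtain ⟨e', he', -⟩ := H.exists_eq_mul hz'
  have h1 := (centralizer ({z} : Set G)).card_mul_index
  have h2 := (centralizer ({z'} : Set G)).card_mul_index
  change _ * cs z = _ at h1
  change _ * cs z' = _ at h2
  rw [he] at h1
  rw [he', ← h1] at h2
  have h3 : Nat.card (centralizer ({z'} : Set G)) * e' = Nat.card (centralizer ({z} : Set G)) * e :=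
    Nat.eq_of_mul_eq_mul_left (lt_trans one_pos H.hm) (by linarith)
  exact ((hc.symm.coprime_dvd_left hpm).pow_left k).dvd_of_dvd_mul_right (h3 ▸ hk.mul_right e')

theorem not_sylow_le_center (H : MNHyp G m n) {p : ℕ} [Fact p.Prime] (hp : p ∣ m * n)
    (P : Sylow p G) : ¬ (P : Subgroup G) ≤ center G := by
  intro h
  obtain ⟨y, hy⟩ := H.exb
  exact P.not_dvd_index ((hy ▸ hp : p ∣ cs y).trans (index_dvd_of_le (h.trans (center_le_cent y))))

theorem exists_of_big (H : MNHyp G m n) {p : ℕ} [hp : Fact p.Prime] (hpm : p ∣ m)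
    {J : Subgroup G} (hJ : Big p J) : ∃ u ∈ J, u ∉ center G ∧ ∃ k : ℕ, orderOf u = p ^ k := by
  obtain ⟨S, h1, h2, h3⟩ := H1.exists_sylow_le p J
  have h4 := hJ.of_not_dvd hp.out h1 h3
  by_contra hc
  push Not at hc
  have h5 : S ≤ center G := fun w hw => by
    by_contra h
    obtain ⟨j, hj⟩ := exists_orderOf_eq_pow_of_mem h2 hw
    exact hc w (h1 hw) h j hj
  obtain ⟨P⟩ : Nonempty (Sylow p G) := inferInstance
  obtain ⟨u, hu, huZ⟩ := SetLike.not_le_iff_exists.1 (H.not_sylow_le_center (hpm.mul_right n) P)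
  obtain ⟨j, hj⟩ := exists_orderOf_eq_pow_of_mem P.isPGroup' hu
  have := H3.normal_of_le_center h5
  exact huZ (h5 (h4.mem hp.out hj (le_normalizer_of_normal (mem_top u)) huZ
    (h5.trans (center_le_cent u)) (mem_cent_self u)))

omit [Finite G] in
theorem not_mem_mul {x y : G} (hx : x ∉ center G) (hxy : Commute x y)
    (hc : (orderOf x).Coprime (orderOf y)) : x * y ∉ center G := fun h =>
  hx (zpowers_le.2 h (H9.mem_zpowers_mul_of_coprime hxy hc))

theorem le_of_eq_mn (H : MNHyp G m n) {y u : G} (hy : cs y = m * n) (hyu : Commute y u)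
    (hc : (orderOf y).Coprime (orderOf u)) :
    centralizer ({y} : Set G) ≤ centralizer ({u} : Set G) := by
  have h1 := H9.centralizer_mul_of_coprime hyu hc
  have h2 : centralizer ({y * u} : Set G) ≤ centralizer ({y} : Set G) := h1 ▸ inf_le_left
  have h3 : centralizer ({y * u} : Set G) = centralizer ({y} : Set G) :=
    eq_of_le_of_index_eq h2 (Nat.dvd_antisymm (by
      change cs (y * u) ∣ cs y
      rw [hy]; exact H.dvd_mn _) (index_dvd_of_le h2))
  rw [← h3, h1]
  exact inf_le_right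

theorem eq_of_eq_m (H : MNHyp G m n) {x w : G} (hx : cs x = m) (hw : w ∉ center G)
    (h : centralizer ({x} : Set G) ≤ centralizer ({w} : Set G)) :
    centralizer ({x} : Set G) = centralizer ({w} : Set G) :=
  eq_of_le_of_index_eq h (Nat.dvd_antisymm (by
    change cs x ∣ cs w
    rw [hx]; exact H.m_dvd hw) (index_dvd_of_le h))

omit [Finite G] in
theorem coprime_relIndex (H : MNHyp G m n) {x y : G} (hx : cs x = m) (hxy : Commute x y)
    (hc : (orderOf x).Coprime (orderOf y)) :
    ((centralizer ({y} : Set G)).relIndex (centralizer ({x} : Set G))).Coprime m := by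
  obtain ⟨e, he, hce⟩ := H.exists_eq_mul (not_mem_mul (H.not_mem_of_eq_m hx) hxy hc)
  have h1 := relIndex_mul_index (inf_le_left :
    centralizer ({x} : Set G) ⊓ centralizer ({y} : Set G) ≤ centralizer ({x} : Set G))
  rw [inf_relIndex_left, ← H9.centralizer_mul_of_coprime hxy hc] at h1
  change _ * cs x = cs (x * y) at h1
  rw [he, hx, mul_comm] at h1
  rw [Nat.eq_of_mul_eq_mul_left (lt_trans one_pos H.hm) h1]
  exact hce

theorem exists_dec (H : MNHyp G m n) {p k : ℕ} [hp : Fact p.Prime] (hpm : p ∣ m) {u : G}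
    (hu : u ∉ center G) (ho : orderOf u = p ^ k) :
    ∃ S K, Dec p (centralizer ({u} : Set G)) S K := by
  refine H8.exists_dec fun a ha b hb ⟨j, hj⟩ hbc => ?_
  have hcop : ∀ y : G, (orderOf y).Coprime p → (orderOf u).Coprime (orderOf y) :=
    fun y hy => ho ▸ (hy.symm.pow_left k)
  rcases H.cases hu with h | h
  · have := commute_of_forall_not_dvd_cs (G := centralizer ({u} : Set G)) (p := p)
      (fun y hy => ?_) (a := ⟨a, ha⟩) (b := ⟨b, hb⟩) (k := j) (by simpa using hj)
      (by simpa using hbc)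
    · exact congrArg Subtype.val this.eq
    · rw [H9.centralizer_coe_subgroupOf]
      have h2 := H.coprime_relIndex h (mem_centralizer_singleton_iff.1 y.2).symm
        (hcop y (by simpa using hy))
      exact hp.out.coprime_iff_not_dvd.1 (h2.symm.coprime_dvd_left hpm)
  · exact mem_centralizer_singleton_iff.1
      (H.le_of_eq_mn h (mem_centralizer_singleton_iff.1 hb).symm (hcop b hbc) ha)

theorem le_of_two_primes (H : MNHyp G m n) {p r k j : ℕ} [hp : Fact p.Prime] [hr : Fact r.Prime]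
    (hpm : p ∣ m) (hrm : r ∣ m) (hpr : p ≠ r) {u v : G} (hu : u ∉ center G)
    (ho : orderOf u = p ^ k) (hv : v ∈ centralizer ({u} : Set G)) (hvo : orderOf v = r ^ j) :
    centralizer ({u} : Set G) ≤ centralizer ({v} : Set G) := by
  have hc : p.Coprime r := (Nat.coprime_primes hp.out hr.out).2 hpr
  rcases H.cases hu with h | h
  · obtain ⟨S, K, hD⟩ := H.exists_dec hpm hu ho
    have h1 : ∀ g : centralizer ({u} : Set G),
        ¬ r ∣ (centralizer ({g} : Set (centralizer ({u} : Set G)))).index := by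
      intro g
      rw [H9.centralizer_coe_subgroupOf]
      obtain ⟨a, ha, b, hb, e⟩ := hD.exists_mul g.2
      have h2 := H.coprime_relIndex h (mem_centralizer_singleton_iff.1 (hD.K_le hb)).symm
        (ho ▸ (((hD.memK b).1 hb).2.symm.pow_left k))
      obtain ⟨R, h3, h4, h5⟩ := H1.exists_sylow_le r
        (centralizer ({b} : Set G) ⊓ centralizer ({u} : Set G))
      have h6 : ¬ r ∣ R.relIndex (centralizer ({u} : Set G)) := by
        rw [← relIndex_mul_relIndex R _ _ h3 inf_le_right, inf_relIndex_right]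
        exact fun hd => (hr.out.dvd_mul.1 hd).elim h5
          (hr.out.coprime_iff_not_dvd.1 (h2.symm.coprime_dvd_left hrm))
      refine fun hd => h6 (hd.trans (relIndex_dvd_of_le_left _ fun x hx => ?_))
      obtain ⟨i, hi⟩ := exists_orderOf_eq_pow_of_mem h4 hx
      have h7 : x ∈ K := (hD.memK x).2 ⟨(h3 hx).2, hi ▸ hc.symm.pow_left i⟩
      rw [e, mem_centralizer_singleton_iff]
      exact ((hD.comm a ha x h7).symm.mul_right
        (mem_centralizer_singleton_iff.1 (h3 hx).1)).eq
    obtain ⟨R, hR⟩ := (isPGroup_zpowers_of_orderOf (g := (⟨v, hv⟩ : centralizer ({u} : Set G)))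
      (by simpa using hvo)).exists_le_sylow
    have h2 := sylow_le_center_of_not_dvd_class h1 R (hR (mem_zpowers _))
    intro g hg
    exact mem_centralizer_singleton_iff.2 (congrArg Subtype.val (mem_center_iff.1 h2 ⟨g, hg⟩))
  · exact H.le_of_eq_mn h (mem_centralizer_singleton_iff.1 hv).symm
      (ho ▸ hvo ▸ (hc.pow k j))

omit [Finite G] in
theorem conj_mem_cent {s u g : G} (h : s⁻¹ * u * s⁻¹⁻¹ * u⁻¹ ∈ center G)
    (hg : g ∈ centralizer ({u} : Set G)) : s * g * s⁻¹ ∈ centralizer ({u} : Set G) := by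
  rw [mem_centralizer_singleton_iff] at hg ⊢
  have h1 := mem_center_iff.1 h g
  calc s * g * s⁻¹ * u = s * (g * (s⁻¹ * u * s⁻¹⁻¹ * u⁻¹)) * u * s⁻¹ := by group
    _ = s * (s⁻¹ * u * s⁻¹⁻¹ * u⁻¹) * (g * u) * s⁻¹ := by rw [h1]; group
    _ = u * (s * g * s⁻¹) := by rw [hg]; group

omit [Finite G] in
theorem comm_mem_cent {a b u : G} (ha : a * u * a⁻¹ * u⁻¹ ∈ center G)
    (hb : b * u * b⁻¹ * u⁻¹ ∈ center G) :
    (b * a)⁻¹ * (a * b) ∈ centralizer ({u} : Set G) := by
  have h1 := mem_center_iff.1 ha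
  have h2 := mem_center_iff.1 hb
  have h3 : a * b * u * (a * b)⁻¹ = b * a * u * (b * a)⁻¹ := by
    calc a * b * u * (a * b)⁻¹ = a * (b * u * b⁻¹ * u⁻¹) * u * a⁻¹ := by group
      _ = (b * u * b⁻¹ * u⁻¹) * (a * u * a⁻¹ * u⁻¹) * u := by rw [h2 a]; group
      _ = (a * u * a⁻¹ * u⁻¹) * (b * u * b⁻¹ * u⁻¹) * u := by rw [h1 (b * u * b⁻¹ * u⁻¹)]
      _ = (a * u * a⁻¹ * u⁻¹) * b * u * b⁻¹ := by group
      _ = b * a * u * (b * a)⁻¹ := by rw [← h1 b]; group
  rw [mem_centralizer_singleton_iff]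
  calc (b * a)⁻¹ * (a * b) * u = (b * a)⁻¹ * (a * b * u * (a * b)⁻¹) * (a * b) := by group
    _ = u * ((b * a)⁻¹ * (a * b)) := by rw [h3]; group

omit [Finite G] in
theorem pow_mem_cent {s u : G} {p : ℕ} (hs : s * u * s⁻¹ * u⁻¹ ∈ center G)
    (hup : u ^ p ∈ center G) : s ^ p ∈ centralizer ({u} : Set G) := by
  have h1 : u * s * u⁻¹ * s⁻¹ ∈ center G := by
    have := inv_mem hs
    simpa [mul_assoc] using this
  have h2 := pow_conj_of_commutator_mem_center h1 p
  rw [← mem_center_iff.1 hup s, mul_inv_cancel_right, mul_inv_cancel] at h2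
  have h3 := pow_conj_of_commutator_mem_center hs p
  have : s * u * s⁻¹ * u⁻¹ = (u * s * u⁻¹ * s⁻¹)⁻¹ := by group
  rw [this, inv_pow, ← h2, inv_one, mul_inv_eq_one, mul_inv_eq_iff_eq_mul] at h3
  exact mem_centralizer_singleton_iff.2 h3

omit [Finite G] in
theorem relIndex_zpowers_dvd {A : Subgroup G} {a : G} {p : ℕ} (h : a ^ p ∈ A) :
    A.relIndex (zpowers a) ∣ p := by
  have hn : (A.subgroupOf (zpowers a)).Normal := inferInstance
  have hc : IsCyclic (zpowers a ⧸ A.subgroupOf (zpowers a)) :=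
    isCyclic_of_surjective _ (QuotientGroup.mk'_surjective _)
  change Nat.card (zpowers a ⧸ A.subgroupOf (zpowers a)) ∣ p
  rw [← hc.exponent_eq_card, Monoid.exponent_dvd_iff_forall_pow_eq_one]
  intro x
  obtain ⟨⟨_, k, rfl⟩, rfl⟩ := QuotientGroup.mk_surjective x
  rw [← QuotientGroup.mk_pow, QuotientGroup.eq_one_iff, mem_subgroupOf]
  change (a ^ k) ^ p ∈ A
  rw [← zpow_natCast, ← zpow_mul, mul_comm, zpow_mul, zpow_natCast]
  exact zpow_mem h k

/-- If an element of the second centre of a Sylow `p`-subgroup centralizes a noncentral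
`p'`-element then `p ^ 2` does not divide `m`. -/
theorem not_sq_dvd (H : MNHyp G m n) {p : ℕ} [hp : Fact p.Prime] (hpm : p ∣ m) (Q : Sylow p G)
    {u w : G} (huP : u ∈ (Q : Subgroup G)) (hu : u ∉ center G) (hup : u ^ p ∈ center G)
    (hc : ∀ s ∈ (Q : Subgroup G), s * u * s⁻¹ * u⁻¹ ∈ center G)
    (hw : w ∈ centralizer ({u} : Set G)) (hwZ : w ∉ center G) (hwo : (orderOf w).Coprime p) :
    ¬ p ^ 2 ∣ m := by
  intro hsq
  have hP := Q.isPGroup'
  have hPi := Q.not_dvd_index
  generalize (Q : Subgroup G) = P at *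
  obtain ⟨k, ho⟩ := exists_orderOf_eq_pow_of_mem hP huP
  obtain ⟨S, K, hD⟩ := H.exists_dec hpm hu ho
  have hconj : ∀ s ∈ P, ∀ g ∈ centralizer ({u} : Set G),
      s * g * s⁻¹ ∈ centralizer ({u} : Set G) :=
    fun s hs g hg => conj_mem_cent (hc _ (P.inv_mem hs)) hg
  have hcomm0 : ∀ a ∈ P, ∀ b ∈ P, (b * a)⁻¹ * (a * b) ∈ centralizer ({u} : Set G) :=
    fun a ha b hb => comm_mem_cent (hc a ha) (hc b hb)
  have hpow0 : ∀ s ∈ P, s ^ p ∈ centralizer ({u} : Set G) :=
    fun s hs => pow_mem_cent (hc s hs) hup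
  have hbig0 := H.big hpm hu
  have hidx : m ∣ (centralizer ({u} : Set G)).index := H.m_dvd hu
  generalize centralizer ({u} : Set G) = C at *
  have hPC : P ≤ normalizer (C : Set G) := le_normalizer_iff.2 hconj
  have hPK : P ≤ normalizer (K : Set G) := fun s hs =>
    hD.mem_normalizer_K fun g hg => hconj s hs g (hD.K_le hg)
  have hbig : Big p (P ⊓ C) := by
    refine hbig0.of_not_dvd hp.out inf_le_right ?_
    rw [inf_relIndex_right, relIndex_eq_relIndex_sup _ _ hPC]
    exact fun hd => hPi (hd.trans (relIndex_dvd_index_of_le le_sup_left))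
  have hcomm : ⁅P, P⁆ ≤ P ⊓ C := by
    rw [commutator_le]
    intro a ha b hb
    refine mem_inf.2 ⟨P.mul_mem (P.mul_mem (P.mul_mem ha hb) (P.inv_mem ha)) (P.inv_mem hb), ?_⟩
    have := hconj _ (P.mul_mem hb ha) _ (hcomm0 a ha b hb)
    have e : b * a * ((b * a)⁻¹ * (a * b)) * (b * a)⁻¹ = ⁅a, b⁆ := by
      rw [commutatorElement_def]; group
    exact e ▸ this
  have hnA : P ≤ normalizer ((P ⊓ C : Subgroup G) : Set G) :=
    H1.le_normalizer_inf le_normalizer hPC
  have hS : P ⊓ C ≤ S := hD.le_of_isPGroup (hP.to_le inf_le_left) inf_le_right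
  have hKc : K ≤ centralizer ((P ⊓ C : Subgroup G) : Set G) :=
    hD.K_le_centralizer.trans (centralizer_le hS)
  refine hwZ (le_of_forall_centralizer_le_rel (A := P) (A₀ := P ⊓ C) (K := K)
    inf_le_left hcomm (fun a ha hle => ?_) hPK hKc ?_ (fun a ha haC g hg => ?_)
    ((hD.memK w).2 ⟨hw, hwo⟩))
  · have h1 : (P ⊓ C).relIndex P ∣ p := by
      have e : P = zpowers a ⊔ (P ⊓ C) :=
        le_antisymm hle (sup_le (zpowers_le.2 ha) inf_le_left)
      have h2 := H1.relIndex_sup_of_le_normalizer ((zpowers_le.2 ha).trans hnA)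
      rw [← e] at h2
      rw [h2]
      exact relIndex_zpowers_dvd (mem_inf.2 ⟨P.pow_mem ha p, hpow0 a ha⟩)
    have h2 : p ^ 2 ∣ p * P.index := by
      refine (hsq.trans hidx).trans ((index_dvd_of_le (inf_le_right : P ⊓ C ≤ C)).trans ?_)
      rw [← relIndex_mul_index (inf_le_left : P ⊓ C ≤ P)]
      exact Nat.mul_dvd_mul_right h1 _
    rw [sq] at h2
    exact hPi (Nat.dvd_of_mul_dvd_mul_left hp.out.pos h2)
  · obtain ⟨j, hj⟩ := IsPGroup.iff_card.1 hP
    rw [hj]
    exact hD.coprime.symm.pow_left j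
  · by_contra hgZ
    obtain ⟨j, hj⟩ := exists_orderOf_eq_pow_of_mem hP ha
    refine haC (hbig.mem hp.out hj (hnA ha) hgZ (fun x hx => ?_) (mem_cent_comm.1 hg.2))
    exact mem_centralizer_singleton_iff.2 (hKc hg.1 x hx)

/-- When `p ^ 2` does not divide `m`, a Sylow subgroup of a centralizer is normal in a Sylow
subgroup of the group. -/
theorem not_dvd_index_normalizer (H : MNHyp G m n) {p : ℕ} [hp : Fact p.Prime] (hpm : p ∣ m)
    (hsq : ¬ p ^ 2 ∣ m) {z : G} {S : Subgroup G} (hS : IsPGroup p S)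
    (hSz : S ≤ centralizer ({z} : Set G)) (hd : ¬ p ∣ S.relIndex (centralizer ({z} : Set G))) :
    ¬ p ∣ (normalizer (S : Set G)).index := by
  obtain ⟨P, hP⟩ := hS.exists_le_sylow
  refine H9.not_dvd_index_iff_exists_sylow_le.2 ⟨P, ?_⟩
  obtain ⟨j, hj⟩ := P.isPGroup'.index (S.subgroupOf P)
  have h1 : p ^ j ∣ m := by
    have h2 : p ^ j ∣ S.index := hj ▸ relIndex_dvd_index_of_le hP
    rw [← relIndex_mul_index hSz] at h2
    have h3 := (((hp.out.coprime_iff_not_dvd.2 hd).pow_left j).dvd_of_dvd_mul_left h2).trans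
      (H.dvd_mn z)
    exact ((H.cop.coprime_dvd_left hpm).pow_left j).dvd_of_dvd_mul_right h3
  rcases j with _ | _ | j
  · have : (P : Subgroup G) ≤ S := relIndex_eq_one.1 hj
    exact this.trans le_normalizer
  · have := H3.normal_of_index_eq_prime P.isPGroup' (M := S.subgroupOf P) (by simpa using hj)
    exact le_normalizer_of_normal_subgroupOf hP
  · exact absurd ((pow_dvd_pow p (by omega)).trans h1) hsq

end MNHyp

end Cfsg.Agent.H8
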