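import Cfsg.Agent.H8.SL25Aut
import Cfsg.Agent.H8.ACGroup
import Cfsg.Agent.H6.Burnside

/-! Zassenhaus's theorem on the structure of Frobenius complements. -/

set_option autoImplicit false

namespace Cfsg.Agent.H8

open Subgroup

theorem conj_mem_of_closure {G : Type*} [Group G] {S : Set G} {K : Subgroup G} {g : G}
    (h : ∀ s ∈ S, g * s * g⁻¹ ∈ K) {x : G} (hx : x ∈ closure S) : g * x * g⁻¹ ∈ K :=
  (closure_le (K.comap (MulAut.conj g).toMonoidHom)).2 h hx

section frame

variable {A R : Type*} [Group A] [Ring R] [Algebra ℚ R] [Nontrivial R] {ρ : A →* R} {a i j : A}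

theorem ZHyp.orderOf_eq_four (H : ZHyp ρ) {g : A} (h : ρ g * ρ g = -1) : orderOf g = 4 :=
  orderOf_eq_prime_pow (p := 2) (n := 1) (fun e => by
    rw [← map_mul, ← sq, show g ^ 2 = 1 from e, map_one] at h
    exact false_of_nsmul_one (R := R) 2 two_ne_zero (by
      linear_combination (norm := noncomm_ring) h))
    (H.eq_one (by rw [map_pow, show 2 ^ (1 + 1) = 2 * 2 from rfl, pow_mul, sq (ρ g), h]; simp))

theorem Frame.rel (H : ZHyp ρ) (F : Frame ρ a i j) : orderOf i = 4 ∧ orderOf j = 4 ∧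
    j * i * j⁻¹ = i⁻¹ ∧ a * i * a⁻¹ = i * j ∧ a * j * a⁻¹ = i := by
  have h1 : 2 • ρ a = ρ i + ρ j + ρ i * ρ j - 1 := by
    have := F.hx
    rw [zx] at this
    linear_combination (norm := noncomm_ring) this
  have P := F.pair
  refine ⟨H.orderOf_eq_four P.II, H.orderOf_eq_four P.JJ, H.inj ?_, ?_, ?_⟩
  · rw [map_mul, map_mul, ZHyp.inv4 P.II, ZHyp.inv4 P.JJ]
    noncomm_ring [P.II, P.JJ, P.JI, P.II', P.JJ', P.JI']
  · rw [mul_inv_eq_iff_eq_mul]
    refine H.inj (eq_of_nsmul 2 two_ne_zero ?_)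
    rw [map_mul, map_mul, map_mul, ← smul_mul_assoc, ← mul_smul_comm, h1]
    noncomm_ring [P.II, P.JJ, P.JI, P.II', P.JJ', P.JI']
  · rw [mul_inv_eq_iff_eq_mul]
    refine H.inj (eq_of_nsmul 2 two_ne_zero ?_)
    rw [map_mul, map_mul, ← smul_mul_assoc, ← mul_smul_comm, h1]
    noncomm_ring [P.II, P.JJ, P.JI, P.II', P.JJ', P.JI']

end frame

variable {G : Type*} [Group G]

theorem exists_normal_quat_of_rel [Finite G] (h : AC G) {a b i j : G} (ha : orderOf a = 3)
    (hb : orderOf b = 3) (ei : i = b⁻¹ * a * b⁻¹) (ej : j = b⁻¹ * a⁻¹) (hi : orderOf i = 4)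
    (hj : orderOf j = 4) (h1 : j * i * j⁻¹ = i⁻¹) (h2 : a * i * a⁻¹ = i * j) (h3 : a * j * a⁻¹ = i)
    (hL : ∀ c : G, orderOf c = 3 → c ∈ closure {a, i, j}) :
    ∃ T : Subgroup G, T.Normal ∧ Nonempty (T ≃* QuaternionGroup 2) ∧
      ∃ (g : G) (k : ℕ), orderOf g = 3 ^ k ∧ g ∉ centralizer (T : Set G) := by
  have hiT : i ∈ closure ({i, j} : Set G) := subset_closure (by simp)
  have hjT : j ∈ closure ({i, j} : Set G) := subset_closure (by simp)
  have haT : a ∈ normalizer (closure ({i, j} : Set G) : Set G) := by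
    apply mem_normalizer_fintype
    intro n hn
    refine conj_mem_of_closure ?_ hn
    rintro s (rfl | rfl)
    · exact h2 ▸ mul_mem hiT hjT
    · exact h3 ▸ hiT
  have hT : IsPGroup 2 (closure ({i, j} : Set G)) := by
    have e : closure ({i, j} : Set G) = zpowers i ⊔ zpowers j := by
      rw [zpowers_eq_closure, zpowers_eq_closure, ← Subgroup.closure_union]; rfl
    rw [e]
    refine (isPGroup_zpowers_of_orderOf (k := 2) hi).to_sup_of_normal_left'
      (isPGroup_zpowers_of_orderOf (k := 2) hj) ?_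
    rw [zpowers_le]
    apply mem_normalizer_fintype
    rintro _ ⟨k, rfl⟩
    simp only
    rw [← conj_zpow, h1]
    exact zpow_mem (inv_mem (mem_zpowers i)) k
  have haC : a ∉ centralizer (closure ({i, j} : Set G) : Set G) := fun hc => by
    have := hc i hiT
    rw [← this, mul_inv_cancel_right, left_eq_mul] at h2
    rw [h2, orderOf_one] at hj
    omega
  have key : ∀ x ∈ closure ({a, i, j} : Set G), orderOf x = 4 → x ∈ closure ({i, j} : Set G) := by
    intro x hx hx4
    have hle : closure ({a, i, j} : Set G) ≤ closure ({i, j} : Set G) ⊔ zpowers a := by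
      rw [closure_le]
      rintro s (rfl | rfl | rfl)
      exacts [mem_sup_right (mem_zpowers _), mem_sup_left hiT, mem_sup_left hjT]
    have hx' : x ∈ ((closure ({i, j} : Set G) ⊔ zpowers a : Subgroup G) : Set G) := hle hx
    rw [coe_mul_of_right_le_normalizer_left _ _ (zpowers_le.2 haT)] at hx'
    obtain ⟨t, ht, u, hu, rfl⟩ := hx'
    have hu' := zpowers_le.2 haT hu
    have hu3 : u ^ 3 = 1 := by
      obtain ⟨k, rfl⟩ := hu
      simp only
      rw [← zpow_natCast, ← zpow_mul, mul_comm, zpow_mul, zpow_natCast, ← ha, pow_orderOf_eq_one,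
        one_zpow]
    refine mem_of_pow_mem_of_coprime (n := 3) (by simp only [hx4]; norm_num) ?_
    have e : (t * u) ^ 3 = t * (u * t * u⁻¹) * (u * (u * t * u⁻¹) * u⁻¹) * u ^ 3 := by
      rw [pow_three, pow_three]; group
    simp only
    rw [e, hu3, mul_one]
    have c1 := (mem_normalizer_iff.1 hu' t).1 ht
    exact mul_mem (mul_mem ht c1) ((mem_normalizer_iff.1 hu' _).1 c1)
  refine ⟨closure {i, j}, ⟨fun n hn g => conj_mem_of_closure ?_ hn⟩,
    (h.quat_of_not_centralizes hT haT Nat.prime_three (by norm_num) (k := 1) ha haC).2,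
    a, 1, ha, haC⟩
  have ca := hL _ (((MulAut.conj g).orderOf_eq a).trans ha)
  have cb := hL _ (((MulAut.conj g).orderOf_eq b).trans hb)
  rw [MulAut.conj_apply] at ca cb
  rintro s (rfl | rfl)
  · refine key _ ?_ (((MulAut.conj g).orderOf_eq s).trans hi)
    rw [ei, show g * (b⁻¹ * a * b⁻¹) * g⁻¹ = (g * b * g⁻¹)⁻¹ * (g * a * g⁻¹) * (g * b * g⁻¹)⁻¹ by group]
    rw [← ei]
    exact mul_mem (mul_mem (inv_mem cb) ca) (inv_mem cb)
  · refine key _ ?_ (((MulAut.conj g).orderOf_eq s).trans hj)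
    nth_rewrite 2 [ej]
    rw [show g * (b⁻¹ * a⁻¹) * g⁻¹ = (g * b * g⁻¹)⁻¹ * (g * a * g⁻¹)⁻¹ by group]
    exact mul_mem (inv_mem cb) (inv_mem ca)

theorem IsFC.ac (h : IsFC G) : AC G := by
  obtain ⟨N, _, _, _, φ, hφ, -⟩ := h.exists_action
  exact fun X _ => hφ.isCyclic_subgroup_of_comm X

/-- Zassenhaus: a Frobenius complement has a normal `2`-complement, a normal quaternion subgroup
of order eight on which a `3`-element acts nontrivially, or a normal subgroup `SL₂(5)`. -/
theorem IsFC.structure [Finite G] (h : IsFC G) : HasNormalPComplement 2 G ∨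
    (∃ T : Subgroup G, T.Normal ∧ Nonempty (T ≃* QuaternionGroup 2) ∧
      ∃ (g : G) (k : ℕ), orderOf g = 3 ^ k ∧ g ∉ centralizer (T : Set G)) ∨
    ∃ f : SL25 →* G, Function.Injective f ∧ f.range.Normal := by
  have hac := h.ac
  by_cases hs : Group.IsSolvable G
  · by_cases h2 : HasNormalPComplement 2 G
    · exact Or.inl h2
    · exact Or.inr (Or.inl (hac.exists_normal_quat h2))
  right
  obtain ⟨c, hc⟩ : ∃ c : G, orderOf c = 3 := by
    by_contra hc
    exact hs (hac.isSolvable_of_not_three_dvd fun x hx => hc ⟨x, hx⟩)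
  obtain ⟨c', hc', hcc⟩ : ∃ c' : G, orderOf c' = 3 ∧ c' ∉ zpowers c := by
    by_contra hc'
    push Not at hc'
    exact hs (hac.isSolvable_of_three_le hc' hc)
  obtain ⟨R, _, _, _, ρ, H⟩ := h.exists_zhyp
  obtain ⟨a, b, hb, F⟩ := H.exists_frame hc hc' (fun e => hcc (e ▸ mem_zpowers c))
    (fun e => hcc (e ▸ inv_mem (mem_zpowers c)))
  rcases F.dichotomy H with hL | ⟨f, hf, -, -, -, h3⟩
  · obtain ⟨hi, hj, h1, h2, h3⟩ := F.rel H
    exact Or.inl (exists_normal_quat_of_rel hac F.ha hb rfl rfl hi hj h1 h2 h3 hL)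
  · refine Or.inr ⟨f, hf, ⟨?_⟩⟩
    rintro _ ⟨M, rfl⟩ g
    have key : ∀ s : SL25, orderOf s = 3 → ∀ M : SL25, g * f M * g⁻¹ ∈ f.range →
        g * f (M * s) * g⁻¹ ∈ f.range := fun s hs M hM => by
      rw [map_mul, show g * (f M * f s) * g⁻¹ = g * f M * g⁻¹ * (g * f s * g⁻¹) by group]
      exact mul_mem hM (h3 _ (((MulAut.conj g).orderOf_eq _).trans
        ((orderOf_injective f hf s).trans hs)))
    exact ic_ind (fun M => g * f M * g⁻¹ ∈ f.range) (by simp) (key _ orderOf_icS1)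
      (key _ orderOf_icS2) M

theorem AC.exists_perm_four [Finite G] (h : AC G) {T : Subgroup G} [T.Normal]
    (e : T ≃* QuaternionGroup 2) {g : G} {k : ℕ} (hg : orderOf g = 3 ^ k)
    (hgT : g ∉ centralizer (T : Set G)) :
    ∃ π : G →* Equiv.Perm (Fin 4), IsZGroup π.ker ∧ π.range.index ≤ 2 := by
  obtain ⟨f⟩ := S3742.result
  let π : G →* Equiv.Perm (Fin 4) :=
    ((MulAut.congr e).trans f).toMonoidHom.comp (MulAut.conjNormal : G →* MulAut T)
  have hker : ∀ x, π x = 1 → x ∈ centralizer (T : Set G) := fun x hx t ht => by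
    have h1 : (MulAut.conjNormal x : MulAut T) = 1 :=
      (EmbeddingLike.map_eq_one_iff (f := (MulAut.congr e).trans f)).1 hx
    have h2 := congrArg (fun φ : MulAut T => ((φ ⟨t, ht⟩ : T) : G)) h1
    simp only [MulAut.conjNormal_apply, MulAut.one_apply] at h2
    exact (mul_inv_eq_iff_eq_mul.1 h2).symm
  have h4 : ¬ 4 ∣ Nat.card π.ker := by
    refine h.not_four_dvd (i := e.symm (.a 1)) (j := e.symm (.xa 0)) ?_ ?_ (fun hc => ?_)
      fun x hx => ⟨hker x hx _ (e.symm (.a 1)).2, hker x hx _ (e.symm (.xa 0)).2⟩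
    · rw [Subgroup.orderOf_coe, MulEquiv.orderOf_eq, QuaternionGroup.orderOf_a_one]
    · rw [Subgroup.orderOf_coe, MulEquiv.orderOf_eq, QuaternionGroup.orderOf_xa]
    · have h1 : e.symm (.a 1) * e.symm (.xa 0) = e.symm (.xa 0) * e.symm (.a 1) := Subtype.ext hc
      rw [← map_mul, ← map_mul, EmbeddingLike.apply_eq_iff_eq] at h1
      exact absurd h1 (by decide)
  refine ⟨π, (h.subgroup _).isZGroup_of_not_four_dvd h4, ?_⟩
  have h8 : 8 ∣ Nat.card π.ker * Nat.card π.range := by
    rw [← index_ker, card_mul_index]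
    have := T.card_subgroup_dvd_card
    rwa [Nat.card_congr e.toEquiv, H3.quaternion_nat_card] at this
  have h3 : 3 ∣ Nat.card π.range := by
    obtain ⟨m, -, hm⟩ := (Nat.dvd_prime_pow Nat.prime_three).1 (hg ▸ orderOf_map_dvd π g)
    have hm0 : m ≠ 0 := by
      rintro rfl
      exact hgT (hker g (orderOf_eq_one_iff.1 hm))
    exact (hm ▸ dvd_pow_self 3 hm0 : 3 ∣ orderOf (π g)).trans
      (π.range.orderOf_dvd_natCard ⟨g, rfl⟩)
  have h24 := π.range.index_mul_card
  rw [Nat.card_perm, Nat.card_fin, show Nat.factorial 4 = 24 from rfl] at h24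
  generalize Nat.card π.range = r at *
  generalize π.range.index = s at *
  generalize Nat.card π.ker = m at *
  have : r ≤ 24 := Nat.le_of_dvd (by norm_num) (Dvd.intro_left _ h24)
  interval_cases r <;> omega

theorem AC.exists_perm_five [Finite G] (h : AC G) {f : SL25 →* G} (hf : Function.Injective f)
    [f.range.Normal] :
    ∃ π : G →* Equiv.Perm (Fin 5), IsZGroup π.ker ∧ π.range.index ≤ 2 := by
  let e : SL25 ≃* f.range := MonoidHom.ofInjective hf
  let χ : G →* MulAut SL25 :=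
    (MulAut.congr e.symm).toMonoidHom.comp (MulAut.conjNormal : G →* MulAut f.range)
  have hχ : ∀ x M, f (χ x M) = x * f M * x⁻¹ := fun x M =>
    congrArg Subtype.val (e.apply_symm_apply (MulAut.conjNormal x (e M)))
  have hker : ∀ x ∈ (qact.comp χ).ker, ∀ M, Commute (f M) x := fun x hx M => by
    have h1 : χ x = 1 := (injective_iff_map_eq_one qact).1 qact_injective _ hx
    have h2 := hχ x M
    rw [h1, MulAut.one_apply, eq_mul_inv_iff_mul_eq] at h2
    exact h2
  obtain ⟨i, j, hi, hj, hij⟩ := exists_quat_SL25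
  refine ⟨qact.comp χ, (h.subgroup _).isZGroup_of_not_four_dvd (h.not_four_dvd
    ((orderOf_injective f hf i).trans hi) ((orderOf_injective f hf j).trans hj)
    (fun hc => hij (hf (by rw [map_mul, map_mul]; exact hc))) fun x hx =>
      ⟨hker x hx i, hker x hx j⟩), ?_⟩
  have h1 : (qact.comp MulAut.conj).range ≤ (qact.comp χ).range := by
    rintro _ ⟨M, rfl⟩
    refine ⟨f M, congrArg qact ?_⟩
    ext1 x
    exact hf (by rw [hχ, MulAut.conj_apply, map_mul, map_mul, map_inv])
  have h2 := card_range_qact_conj.trans (card_le_of_le h1)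
  have h3 := (qact.comp χ).range.index_mul_card
  rw [Nat.card_perm, Nat.card_fin, show Nat.factorial 5 = 120 from rfl] at h3
  nlinarith

/-- A Frobenius complement that is not solvable has a normal subgroup `SL₂(5)`. -/
theorem IsFC.exists_SL25 [Finite G] (h : IsFC G) (hs : ¬ Group.IsSolvable G) :
    ∃ f : Matrix.SpecialLinearGroup (Fin 2) (ZMod 5) →* G,
      Function.Injective f ∧ f.range.Normal := by
  rcases h.structure with h1 | ⟨T, _, ⟨e⟩, g, k, hg, hgT⟩ | h1
  · exact absurd (h.ac.isSolvable_of_hasNPC h1) hs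
  · obtain ⟨π, h1, -⟩ := h.ac.exists_perm_four e hg hgT
    have : Group.IsSolvable (Equiv.Perm (Fin 4)) := H6.isSolvable_of_primes_two 2 3 fun r hr h => by
      rw [Nat.card_perm, Nat.card_fin, show Nat.factorial 4 = 2 ^ 3 * 3 from rfl, hr.dvd_mul] at h
      exact h.imp (fun h => (Nat.prime_dvd_prime_iff_eq hr Nat.prime_two).1 (hr.dvd_of_dvd_pow h))
        (Nat.prime_dvd_prime_iff_eq hr Nat.prime_three).1
    exact absurd (Group.isSolvable_of_ker_le_range π.ker.subtype π (range_subtype _).ge) hs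
  · exact h1

end Cfsg.Agent.H8
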