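import Cfsg.Agent.H8.FpfRep

/-! A Frobenius complement has a fixed-point-free complex module; products of two elements of
order three. -/

set_option autoImplicit false

namespace Cfsg.Agent.H8

open scoped MonoidAlgebra

universe u

variable {A : Type u} [Group A]

theorem IsFC.exists_fun [Finite A] (h : IsFC A) :
    ∃ F : A → ℚ, F 1 ≠ 0 ∧ ∀ a : A, a ≠ 1 → ∀ g k : A,
      ∑ i ∈ Finset.range (Nat.card A), F (g * a ^ i * k) = 0 := by
  classical
  let W : Submodule ℚ (A → ℚ) := Submodule.span ℚ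
    {y | ∃ a : A, a ≠ 1 ∧ ∃ g k : A,
      y = ∑ i ∈ Finset.range (Nat.card A), Pi.single (g * a ^ i * k) 1}
  have key : ∀ y ∈ W, ∃ d : ℤ, d ≠ 0 ∧ ∃ z ∈ normIdeal ℤ A, ∀ g, (z.coeff g : ℚ) = d * y g := by
    intro y hy
    induction hy using Submodule.span_induction with
    | mem y hy =>
      obtain ⟨a, ha, g, k, rfl⟩ := hy
      refine ⟨1, one_ne_zero, MonoidAlgebra.of ℤ A g * (nrm ℤ a * MonoidAlgebra.of ℤ A k),
        Ideal.mul_mem_left _ _ (nrm_mul_mem ℤ ha _), fun x => ?_⟩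
      rw [nrm, Finset.sum_mul, Finset.mul_sum]
      simp only [← map_mul, ← mul_assoc]
      simp [Finsupp.single_apply, Pi.single_apply, eq_comm]
    | zero => exact ⟨1, one_ne_zero, 0, zero_mem _, fun g => by simp⟩
    | add y y' _ _ h1 h2 =>
      obtain ⟨d, hd, z, hz, e⟩ := h1
      obtain ⟨d', hd', z', hz', e'⟩ := h2
      refine ⟨d * d', mul_ne_zero hd hd', d' • z + d • z',
        add_mem (zsmul_mem hz _) (zsmul_mem hz' _), fun g => ?_⟩
      rw [MonoidAlgebra.coeff_add, MonoidAlgebra.coeff_smul, MonoidAlgebra.coeff_smul]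
      simp [e, e']
      ring
    | smul c y _ h1 =>
      obtain ⟨d, hd, z, hz, e⟩ := h1
      refine ⟨d * c.den, mul_ne_zero hd (by exact_mod_cast c.den_nz), c.num • z,
        zsmul_mem hz _, fun g => ?_⟩
      rw [MonoidAlgebra.coeff_smul]
      simp [e]
      rw [← Rat.mul_den_eq_num]
      ring
  have h1 : (Pi.single 1 1 : A → ℚ) ∉ W := by
    intro hm
    obtain ⟨d, hd, z, hz, e⟩ := key _ hm
    have : z = (d : ℤ[A]) := by
      ext g
      have := e g
      rw [Pi.single_apply] at this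
      have h2 : ((d : ℤ[A]).coeff g : ℚ) = d * if g = 1 then 1 else 0 := by
        rw [MonoidAlgebra.intCast_def]
        simp [Finsupp.single_apply, eq_comm]
      exact_mod_cast this.trans h2.symm
    exact hd (h.eq_zero_of_mem_normIdeal (this ▸ hz))
  obtain ⟨f, hf, hfW⟩ := W.exists_dual_map_eq_bot_of_notMem h1 inferInstance
  refine ⟨fun g => f (Pi.single g 1), hf, fun a ha g k => ?_⟩
  rw [← map_sum]
  have : f (∑ i ∈ Finset.range (Nat.card A), Pi.single (g * a ^ i * k) 1) ∈ W.map f :=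
    ⟨_, Submodule.subset_span ⟨a, ha, g, k, rfl⟩, rfl⟩
  rwa [hfW, Submodule.mem_bot] at this

/-- A Frobenius complement has a fixed-point-free complex module. -/
theorem IsFC.exists_complex [Finite A] (h : IsFC A) :
    ∃ (V : Type u) (_ : AddCommGroup V) (_ : Module ℂ V) (_ : FiniteDimensional ℂ V)
      (_ : Nontrivial V) (ρ : A →* Module.End ℂ V),
      ∀ a : A, a ≠ 1 → ∀ v, ρ a v = v → v = 0 := by
  obtain ⟨F, hF1, hF⟩ := h.exists_fun
  let V : Submodule ℂ (A → ℂ) :=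
    { carrier := {f | ∀ a : A, a ≠ 1 → ∀ g k : A,
        ∑ i ∈ Finset.range (Nat.card A), f (g * a ^ i * k) = 0}
      zero_mem' := fun a _ g k => by simp
      add_mem' := fun {f f'} hf hf' a ha g k => by
        simp [Finset.sum_add_distrib, hf a ha g k, hf' a ha g k]
      smul_mem' := fun c f hf a ha g k => by
        simp [← Finset.mul_sum, hf a ha g k] }
  let ρ : A →* Module.End ℂ V :=
    { toFun := fun b =>
        { toFun := fun f => ⟨fun x => f.1 (x * b), fun a ha g k => by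
            simpa [mul_assoc] using f.2 a ha g (k * b)⟩
          map_add' := fun _ _ => rfl
          map_smul' := fun _ _ => rfl }
      map_one' := by ext f x; simp
      map_mul' := fun a b => by ext f x; simp [mul_assoc] }
  have hρ : ∀ b (f : V) x, (ρ b f).1 x = f.1 (x * b) := fun _ _ _ => rfl
  refine ⟨V, inferInstance, inferInstance, inferInstance, ⟨⟨⟨fun g => (F g : ℂ), ?_⟩, 0, ?_⟩⟩, ρ,
    fun a ha v hv => ?_⟩
  · intro a ha g k
    have := congrArg (fun q : ℚ => (q : ℂ)) (hF a ha g k)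
    simpa using this
  · intro h0
    have : (F 1 : ℂ) = 0 := congrFun (congrArg Subtype.val h0) 1
    exact hF1 (by exact_mod_cast this)
  · have h1 : ∀ x i, v.1 (x * a ^ i) = v.1 x := by
      intro x i
      induction i with
      | zero => simp
      | succ i ih => rw [pow_succ, ← mul_assoc, ← hρ, hv, ih]
    ext x
    have h2 := v.2 a ha x 1
    simp only [mul_one, h1, Finset.sum_const, Finset.card_range, nsmul_eq_mul, mul_eq_zero,
      Nat.cast_eq_zero] at h2
    exact h2.resolve_left Nat.card_pos.ne'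

theorem exists_coprime_third {n : ℕ} (hn : n ≠ 0) (h1 : n ≠ 1) (h3 : n ≠ 3) (h4 : n ≠ 4)
    (h6 : n ≠ 6) (h10 : n ≠ 10) : ∃ k : ℕ, k.Coprime n ∧ n < 3 * k ∧ 2 * k ≤ n := by
  rcases Nat.even_or_odd' n with ⟨m, rfl | rfl⟩
  · rcases Nat.even_or_odd' m with ⟨l, rfl | rfl⟩
    · obtain ⟨l, rfl⟩ : ∃ l', l = l' + 1 := ⟨l - 1, by omega⟩
      refine ⟨2 * l + 1, ?_, by omega, by omega⟩
      refine Nat.Coprime.mul_right (by simp) ?_
      rw [show 2 * (l + 1) = 2 * l + 1 + 1 by ring]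
      simp
    · by_cases hl : l = 0
      · subst hl
        exact ⟨1, by simp, by omega, by omega⟩
      obtain ⟨l, rfl⟩ : ∃ l', l = l' + 1 := ⟨l - 1, by omega⟩
      refine ⟨2 * l + 1, ?_, by omega, by omega⟩
      refine Nat.Coprime.mul_right (by simp) ?_
      rw [show 2 * (l + 1) + 1 = 2 + (2 * l + 1) by ring, Nat.coprime_add_self_right]
      simp
  · refine ⟨m, ?_, by omega, by omega⟩
    rw [show 2 * m + 1 = 1 + m * 2 by ring, Nat.coprime_add_mul_left_right]
    simp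

theorem eq_of_root_sum {lam mu : ℂ} {n m : ℕ} (hn : n ≠ 0) (hm : m ≠ 0)
    (hl : IsPrimitiveRoot lam n) (hmu : mu ^ m = 1) (h : lam + lam⁻¹ + mu + mu⁻¹ = 1) :
    n = 1 ∨ n = 3 ∨ n = 4 ∨ n = 6 ∨ n = 10 := by
  by_contra hc
  push Not at hc
  obtain ⟨k, hk, hk1, hk2⟩ := exists_coprime_third hn hc.1 hc.2.1 hc.2.2.1 hc.2.2.2.1 hc.2.2.2.2
  have hz := Complex.isPrimitiveRoot_exp_of_coprime k n hn hk
  have hint : ∀ s ∈ ({lam, mu} : Set ℂ), IsIntegral ℚ s ∧
      ((minpoly ℚ s).map (algebraMap ℚ ℂ)).Splits := by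
    intro s hs
    refine ⟨?_, IsAlgClosed.splits _⟩
    rcases hs with rfl | rfl
    · exact (IsIntegral.of_pow (Nat.pos_of_ne_zero hn) (by rw [hl.pow_eq_one]; exact isIntegral_one))
    · exact (IsIntegral.of_pow (Nat.pos_of_ne_zero hm) (by rw [hmu]; exact isIntegral_one))
  have hlm : lam ∈ IntermediateField.adjoin ℚ ({lam, mu} : Set ℂ) :=
    IntermediateField.subset_adjoin _ _ (by simp)
  have hmm : mu ∈ IntermediateField.adjoin ℚ ({lam, mu} : Set ℂ) :=
    IntermediateField.subset_adjoin _ _ (by simp)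
  obtain ⟨φ, hφ⟩ := IntermediateField.exists_algHom_adjoin_of_splits_of_aeval hint hlm
    (y := Complex.exp (2 * Real.pi * Complex.I * (k / n))) (by
      rw [← Polynomial.cyclotomic_eq_minpoly_rat hl (Nat.pos_of_ne_zero hn),
        Polynomial.aeval_def, ← Polynomial.eval_map, Polynomial.map_cyclotomic]
      exact hz.isRoot_cyclotomic (Nat.pos_of_ne_zero hn))
  have h2 : (⟨lam, hlm⟩ + (⟨lam, hlm⟩)⁻¹ + ⟨mu, hmm⟩ + (⟨mu, hmm⟩)⁻¹ :
      IntermediateField.adjoin ℚ ({lam, mu} : Set ℂ)) = 1 := Subtype.ext h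
  have h3 := congrArg φ h2
  rw [map_add, map_add, map_add, map_inv₀, map_inv₀, map_one, hφ] at h3
  have h4 : φ ⟨mu, hmm⟩ ^ m = 1 := by
    rw [← map_pow, ← map_one φ]
    congr 1
    exact Subtype.ext hmu
  have h5 := Complex.norm_eq_one_of_pow_eq_one h4 hm
  generalize φ ⟨mu, hmm⟩ = ν at h3 h5
  have h6 : ν.re ≤ 1 := h5 ▸ Complex.re_le_norm ν
  have h7 : (ν⁻¹).re ≤ 1 := by
    have := Complex.re_le_norm ν⁻¹
    rwa [norm_inv, h5, inv_one] at this
  have h8 : (2 * Real.pi * Complex.I * (k / n) : ℂ) = ((2 * Real.pi * (k / n) : ℝ) : ℂ) * Complex.I := by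
    push_cast; ring
  rw [← Complex.exp_neg, h8, ← neg_mul, ← Complex.ofReal_neg] at h3
  have h9 := congrArg Complex.re h3
  rw [Complex.add_re, Complex.add_re, Complex.add_re, Complex.exp_ofReal_mul_I_re,
    Complex.exp_ofReal_mul_I_re, Real.cos_neg, Complex.one_re] at h9
  have hnp : (0 : ℝ) < n := by exact_mod_cast Nat.pos_of_ne_zero hn
  have e1 : (1 : ℝ) / 3 < k / n := by
    rw [div_lt_div_iff₀ (by norm_num) hnp]
    have : (n : ℝ) < 3 * k := by exact_mod_cast hk1
    linarith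
  have e2 : (k : ℝ) / n ≤ 1 / 2 := by
    rw [div_le_div_iff₀ hnp (by norm_num)]
    have : (2 : ℝ) * k ≤ n := by exact_mod_cast hk2
    linarith
  have e3 : Real.cos (2 * Real.pi * (k / n)) < Real.cos (Real.pi - Real.pi / 3) :=
    Real.cos_lt_cos_of_nonneg_of_le_pi (by linarith [Real.pi_pos])
      (by nlinarith [Real.pi_pos]) (by nlinarith [Real.pi_pos])
  rw [Real.cos_pi_sub, Real.cos_pi_div_three] at e3
  linarith

section

variable {V : Type*} [AddCommGroup V] [Module ℂ V] (ρ : A →* Module.End ℂ V)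
  (hρ : ∀ a : A, a ≠ 1 → ∀ v, ρ a v = v → v = 0)
include hρ

theorem eq_zero_of_sub_one_mul {a : A} (ha : a ≠ 1) {x : Module.End ℂ V}
    (h : (ρ a - 1) * x = 0) : x = 0 := by
  ext v
  apply hρ a ha
  have := congrArg (fun f : Module.End ℂ V => f v) h
  simpa [sub_eq_zero] using this

theorem exists_eigen [FiniteDimensional ℂ V] [Finite A] (g : A) (W : Submodule ℂ V) (hW : W ≠ ⊥)
    (hg : ∀ v ∈ W, ρ g v ∈ W) :
    ∃ lam : ℂ, IsPrimitiveRoot lam (orderOf g) ∧ ∃ v ∈ W, v ≠ 0 ∧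
      ρ g v = lam • v ∧ ρ g⁻¹ v = lam⁻¹ • v := by
  have := Submodule.nontrivial_iff_ne_bot.2 hW
  obtain ⟨lam, hl⟩ := Module.End.exists_eigenvalue ((ρ g).restrict hg)
  obtain ⟨v, hv⟩ := hl.exists_hasEigenvector
  have h1 : ρ g v = lam • (v : V) := congrArg Subtype.val hv.apply_eq_smul
  have hv0 : (v : V) ≠ 0 := fun h => hv.2 (Subtype.ext h)
  have h2 : ∀ k : ℕ, ρ (g ^ k) v = lam ^ k • (v : V) := by
    intro k
    induction k with
    | zero => simp
    | succ k ih => rw [pow_succ, map_mul, Module.End.mul_apply, h1, map_smul, ih, smul_smul,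
        pow_succ']
  have h3 : lam ^ orderOf g = 1 := by
    have := h2 (orderOf g)
    rw [pow_orderOf_eq_one, map_one, Module.End.one_apply] at this
    exact smul_left_injective ℂ hv0 (this.symm.trans (one_smul ℂ _).symm)
  have hl0 : lam ≠ 0 := by
    rintro rfl
    rw [zero_pow (orderOf_pos g).ne'] at h3
    exact zero_ne_one h3
  refine ⟨lam, ⟨h3, fun k hk => ?_⟩, v, v.2, hv0, h1, ?_⟩
  · by_contra hd
    refine hv0 (hρ (g ^ k) (fun h => hd (orderOf_dvd_of_pow_eq_one h)) _ ?_)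
    rw [h2, hk, one_smul]
  · have : ρ g⁻¹ (ρ g v) = v := by
      rw [← Module.End.mul_apply, ← map_mul, inv_mul_cancel, map_one, Module.End.one_apply]
    rw [h1, map_smul] at this
    rw [eq_inv_smul_iff₀ hl0, this]

theorem sq_add_of_orderOf_three {a : A} (ha : orderOf a = 3) : ρ a * ρ a + ρ a + 1 = 0 := by
  have h1 : a ≠ 1 := by rintro rfl; simp at ha
  have h2 : ρ a * ρ a * ρ a = 1 := by
    rw [← map_mul, ← map_mul, ← map_one ρ, ← pow_orderOf_eq_one a, ha, pow_three']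
  refine eq_zero_of_sub_one_mul ρ hρ h1 ?_
  linear_combination (norm := noncomm_ring) h2

theorem inv_of_orderOf_three {a : A} (ha : orderOf a = 3) : ρ a⁻¹ = -1 - ρ a := by
  have h2 : a⁻¹ = a * a := by
    rw [inv_eq_iff_mul_eq_one, ← pow_orderOf_eq_one a, ha, pow_three]
  rw [h2, map_mul]
  linear_combination (norm := noncomm_ring) sq_add_of_orderOf_three ρ hρ ha

/-- The product of two elements of order three has order `1`, `3`, `4`, `6` or `10`. -/
theorem orderOf_mul_of_orderOf_three [FiniteDimensional ℂ V] [Nontrivial V] [Finite A] {a b : A}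
    (ha : orderOf a = 3) (hb : orderOf b = 3) :
    orderOf (a * b) = 1 ∨ orderOf (a * b) = 3 ∨ orderOf (a * b) = 4 ∨ orderOf (a * b) = 6 ∨
      orderOf (a * b) = 10 := by
  have ha1 := sq_add_of_orderOf_three ρ hρ ha
  have hb1 := sq_add_of_orderOf_three ρ hρ hb
  have ha2 := inv_of_orderOf_three ρ hρ ha
  have hb2 := inv_of_orderOf_three ρ hρ hb
  obtain ⟨σ, hσ⟩ := Module.End.exists_eigenvalue (ρ (a * b) + ρ (a * b)⁻¹)
  have hs : ρ (a * b) + ρ (a * b)⁻¹ = ρ a * ρ b + ρ b * ρ a + ρ a + ρ b + 1 := by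
    rw [mul_inv_rev, map_mul, map_mul, ha2, hb2]; noncomm_ring
  have hs' : ρ (a * b⁻¹) + ρ (a * b⁻¹)⁻¹ = 1 - (ρ (a * b) + ρ (a * b)⁻¹) := by
    rw [hs, mul_inv_rev, inv_inv, map_mul, map_mul, ha2, hb2]; noncomm_ring
  have hinv : ∀ x : Module.End ℂ V, (ρ (a * b) + ρ (a * b)⁻¹) * x = x * (ρ (a * b) + ρ (a * b)⁻¹) →
      ∀ v ∈ Module.End.eigenspace (ρ (a * b) + ρ (a * b)⁻¹) σ,
        x v ∈ Module.End.eigenspace (ρ (a * b) + ρ (a * b)⁻¹) σ := by
    intro x hx v hv
    rw [Module.End.mem_eigenspace_iff] at hv ⊢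
    rw [← Module.End.mul_apply, hx, Module.End.mul_apply, hv, map_smul]
  have hca := hinv (ρ a) (by
    rw [hs]; linear_combination (norm := noncomm_ring) ρ b * ha1 - ha1 * ρ b)
  have hcb := hinv (ρ b) (by
    rw [hs]; linear_combination (norm := noncomm_ring) ρ a * hb1 - hb1 * ρ a)
  obtain ⟨lam, hl, v, hv, hv0, e1, e2⟩ := exists_eigen ρ hρ (a * b) _ hσ fun v hv => by
    have : ρ (a * b) v = ρ a (ρ b v) := by rw [map_mul]; rfl
    rw [this]; exact hca _ (hcb v hv)
  obtain ⟨mu, hm, w, hw, hw0, e3, e4⟩ := exists_eigen ρ hρ (a * b⁻¹) _ hσ fun v hv => by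
    have : ρ (a * b⁻¹) v = ρ a (-v - ρ b v) := by rw [map_mul, hb2]; rfl
    rw [this]
    exact hca _ (Submodule.sub_mem _ (Submodule.neg_mem _ hv) (hcb v hv))
  rw [Module.End.mem_eigenspace_iff] at hv hw
  have e5 : lam + lam⁻¹ = σ := by
    rw [LinearMap.add_apply, e1, e2, ← add_smul] at hv
    exact smul_left_injective ℂ hv0 hv
  have e6 : mu + mu⁻¹ = 1 - σ := by
    have := congrArg (fun f : Module.End ℂ V => f w) hs'
    simp only [LinearMap.sub_apply, hw] at this
    rw [LinearMap.add_apply, e3, e4, ← add_smul, Module.End.one_apply] at this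
    exact smul_left_injective ℂ hw0 (this.trans (by simp [sub_smul]))
  exact eq_of_root_sum (orderOf_pos _).ne' (orderOf_pos _).ne' hl hm.pow_eq_one
    (by linear_combination e5 + e6)

end

end Cfsg.Agent.H8
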