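import Mathlib
import Cfsg.Agent.H9.FrobCompl
import Cfsg.Agent.H5.Kegel
import Cfsg.Agent.H6.Induction

/-! Frobenius complements and fixed-point-free modules in every characteristic prime to the
order. -/

set_option autoImplicit false

namespace Cfsg.Agent.H8

open Cfsg
open scoped MonoidAlgebra

universe u

/-- `A` occurs as a Frobenius complement. -/
def IsFC (A : Type*) [Group A] : Prop :=
  ∃ (L : Type) (_ : Group L) (_ : Finite L) (H : Subgroup L),
    IsFrobeniusComplement H ∧ Nonempty (A ≃* H)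

theorem isFC_of_action {N A : Type*} [Group N] [Group A] [Finite N] [Nontrivial N] [Nontrivial A]
    {φ : A →* MulAut N} (hφ : H9.IsFrobAction φ) : IsFC A := by
  have := hφ.finite
  have : Finite (N ⋊[φ] A) := Finite.of_equiv _ SemidirectProduct.equivProd.symm
  obtain ⟨L, _, _, ⟨e⟩⟩ := Finite.exists_type_univ_nonempty_mulEquiv.{_, 0} (N ⋊[φ] A)
  exact ⟨L, inferInstance, inferInstance, _, H9.frob_map_equiv e (H9.frob_semidirect φ hφ),
    ⟨(MonoidHom.ofInjective SemidirectProduct.inr_injective).trans (e.subgroupMap _)⟩⟩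

theorem isFC_of_rep {k A V : Type*} [Semiring k] [Group A] [Nontrivial A] [AddCommGroup V]
    [Module k V] [Finite V] [Nontrivial V] (ρ : Representation k A V)
    (h : ∀ a : A, a ≠ 1 → ∀ v, ρ a v = v → v = 0) : IsFC A := by
  let φ : A →* MulAut (Multiplicative V) :=
    { toFun := fun a =>
        { toFun := fun v => Multiplicative.ofAdd (ρ a v.toAdd)
          invFun := fun v => Multiplicative.ofAdd (ρ a⁻¹ v.toAdd)
          left_inv := fun v => by simp
          right_inv := fun v => by simp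
          map_mul' := fun v w => by simp }
      map_one' := by ext; simp
      map_mul' := fun a b => by ext; simp }
  exact isFC_of_action (φ := φ) fun a ha v hv => h a ha v.toAdd hv

theorem IsFC.exists_action {A : Type*} [Group A] (h : IsFC A) :
    ∃ (N : Type) (_ : Group N) (_ : Finite N) (_ : Nontrivial N) (φ : A →* MulAut N),
      H9.IsFrobAction φ ∧ Group.IsNilpotent N := by
  obtain ⟨L, _, _, H, hH, ⟨e⟩⟩ := h
  obtain ⟨K, hKn, hK, -⟩ := H6.exists_frobeniusKernel hH
  exact ⟨K, inferInstance, inferInstance,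
    (Subgroup.nontrivial_iff_ne_bot K).2 (H9.frob_kernel_ne_bot hH hK), _,
    (H9.frob_isFrobAction hH hK).comp e.toMonoidHom e.injective, H5.isNilpotent_frobeniusKernel hH hK⟩

/-- A Frobenius complement has a fixed-point-free module of prime exponent. -/
theorem IsFC.exists_rep {A : Type*} [Group A] (h : IsFC A) :
    ∃ (p : ℕ) (_ : p.Prime) (V : Type) (_ : AddCommGroup V) (_ : Nontrivial V)
      (ρ : Representation ℤ A V), ¬ p ∣ Nat.card A ∧ (∀ v : V, (p : ℤ) • v = 0) ∧
        ∀ a : A, a ≠ 1 → ∀ v, ρ a v = v → v = 0 := by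
  obtain ⟨N, _, _, _, φ, hφ, hN⟩ := h.exists_action
  have hZ : Nontrivial (Subgroup.center N) :=
    (Subgroup.nontrivial_iff_ne_bot _).2 (Group.IsNilpotent.center_ne_bot N)
  obtain ⟨p, hp, hd⟩ := Nat.exists_prime_and_dvd (Finite.one_lt_card (α := Subgroup.center N)).ne'
  have := Fact.mk hp
  obtain ⟨z, hz⟩ := exists_prime_orderOf_dvd_card' p hd
  let V : Subgroup N :=
    { carrier := {x | x ∈ Subgroup.center N ∧ x ^ p = 1}
      one_mem' := ⟨one_mem _, one_pow p⟩
      mul_mem' := fun {x y} hx hy => ⟨mul_mem hx.1 hy.1, by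
        rw [Commute.mul_pow (Subgroup.mem_center_iff.1 hy.1 x), hx.2, hy.2, one_mul]⟩
      inv_mem' := fun {x} hx => ⟨inv_mem hx.1, by rw [inv_pow, hx.2, inv_one]⟩ }
  have hV : ∀ a, ∀ x ∈ V, φ a x ∈ V := fun a x hx =>
    ⟨(Subgroup.characteristic_iff_le_comap.1 inferInstance (φ a)) hx.1, by
      rw [← map_pow, hx.2, map_one]⟩
  have hψ := hφ.restrict V hV
  set ψ := H9.restrictAut φ V hV
  have hz1 : (z : N) ∈ V := ⟨z.2, by rw [← Subgroup.coe_pow, ← hz, pow_orderOf_eq_one]; rfl⟩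
  have hVn : Nontrivial V := ⟨⟨⟨z, hz1⟩, 1, fun h => by
    have : z = 1 := Subtype.ext (congrArg (fun x : V => (x : N)) h)
    rw [this, orderOf_one] at hz
    exact hp.ne_one hz.symm⟩⟩
  let _ : CommGroup V := { (inferInstance : Group V) with
    mul_comm := fun x y => Subtype.ext (Subgroup.mem_center_iff.1 y.2.1 x) }
  let ρ : Representation ℤ A (Additive V) :=
    { toFun := fun a => (MonoidHom.toAdditive (ψ a).toMonoidHom).toIntLinearMap
      map_one' := by ext; simp
      map_mul' := fun a b => by ext; simp }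
  refine ⟨p, hp, Additive V, inferInstance, inferInstance, ρ, fun hpA => ?_, fun v => ?_,
    fun a ha v hv => hψ a ha v.toMul hv⟩
  · exact hp.ne_one (Nat.eq_one_of_dvd_coprimes hφ.coprime hpA
      (hd.trans (Subgroup.card_subgroup_dvd_card _)))
  · rw [natCast_zsmul]
    exact Subtype.ext v.toMul.2.2

section Norm

variable (k : Type*) [CommRing k] {A : Type u} [Group A]

/-- The norm element of `a`, with multiplicity. -/
noncomputable def nrm (a : A) : k[A] := ∑ i ∈ Finset.range (Nat.card A), MonoidAlgebra.of k A (a ^ i)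

theorem of_mul_nrm (a : A) : MonoidAlgebra.of k A a * nrm k a = nrm k a := by
  have h1 := Finset.sum_range_succ (fun i => MonoidAlgebra.of k A (a ^ i)) (Nat.card A)
  rw [Finset.sum_range_succ', pow_card_eq_one', pow_zero, add_left_inj] at h1
  rw [nrm, Finset.mul_sum, ← h1]
  exact Finset.sum_congr rfl fun i _ => by rw [← map_mul, pow_succ']

theorem nrm_mul_nrm (a : A) : nrm k a * nrm k a = Nat.card A • nrm k a := by
  have : ∀ i : ℕ, MonoidAlgebra.of k A (a ^ i) * nrm k a = nrm k a := by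
    intro i
    induction i with
    | zero => simp [MonoidAlgebra.one_def.symm]
    | succ i ih => rw [pow_succ, map_mul, mul_assoc, of_mul_nrm, ih]
  nth_rewrite 1 [nrm]
  rw [Finset.sum_mul, Finset.sum_congr rfl fun i _ => this i, Finset.sum_const, Finset.card_range]

variable (A) in
/-- The ideal generated by the norm elements. -/
noncomputable def normIdeal : Ideal k[A] :=
  Ideal.span {y | ∃ a : A, a ≠ 1 ∧ ∃ x, y = nrm k a * x}

theorem nrm_mul_mem {a : A} (ha : a ≠ 1) (x : k[A]) : nrm k a * x ∈ normIdeal k A :=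
  Ideal.subset_span ⟨a, ha, x, rfl⟩

theorem mul_mem_normIdeal {y : k[A]} (hy : y ∈ normIdeal k A) (w : k[A]) :
    y * w ∈ normIdeal k A := by
  induction hy using Submodule.span_induction with
  | mem y hy =>
    obtain ⟨a, ha, x, rfl⟩ := hy
    rw [mul_assoc]; exact nrm_mul_mem k ha _
  | zero => simp
  | add y z _ _ h1 h2 => rw [add_mul]; exact add_mem h1 h2
  | smul c y _ h => rw [smul_eq_mul, mul_assoc]; exact Ideal.mul_mem_left _ _ h

theorem normIdeal_le_ker {R : Type*} [Ring R] (f : k[A] →+* R)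
    (h : ∀ a : A, a ≠ 1 → f (nrm k a) = 0) : normIdeal k A ≤ RingHom.ker f := by
  rw [normIdeal, Ideal.span_le]
  rintro _ ⟨a, ha, x, rfl⟩
  simp [h a ha]

/-- Reduction of `ℤ[A] / normIdeal` modulo a prime. -/
theorem exists_rep_of_normIdeal [Finite A] {l : ℕ} (hl : l.Coprime (Nat.card A)) (hl0 : l ≠ 0)
    (h : ∀ r : ℤ, (r : ℤ[A]) ∈ normIdeal ℤ A → ¬ (l : ℤ) ∣ r - 1) :
    ∃ (V : Type u) (_ : AddCommGroup V) (_ : Finite V) (_ : Nontrivial V)
      (ρ : Representation ℤ A V), (∀ v : V, l • v = 0) ∧ ∀ a : A, a ≠ 1 → ∀ v, ρ a v = v → v = 0 := by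
  let W : Submodule ℤ ℤ[A] := (normIdeal ℤ A).restrictScalars ℤ ⊔
    LinearMap.range (LinearMap.lsmul ℤ ℤ[A] l)
  let ρ₀ : Representation ℤ A ℤ[A] :=
    (Algebra.lmul ℤ ℤ[A]).toMonoidHom.comp (MonoidAlgebra.of ℤ A)
  have hρ₀ : ∀ a x, ρ₀ a x = MonoidAlgebra.of ℤ A a * x := fun _ _ => rfl
  have hW : ∀ a, W ≤ W.comap (ρ₀ a) := by
    intro a
    refine sup_le (fun y hy => Submodule.mem_sup_left ?_) ?_
    · exact Ideal.mul_mem_left _ _ hy
    · rintro _ ⟨x, rfl⟩
      exact Submodule.mem_sup_right ⟨ρ₀ a x, by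
        rw [LinearMap.lsmul_apply, LinearMap.lsmul_apply, map_smul]⟩
  have hl1 : ∀ v : ℤ[A] ⧸ W, l • v = 0 := by
    intro v
    obtain ⟨x, rfl⟩ := W.mkQ_surjective v
    rw [← map_nsmul, Submodule.mkQ_apply, Submodule.Quotient.mk_eq_zero]
    exact Submodule.mem_sup_right ⟨x, by simp⟩
  refine ⟨ℤ[A] ⧸ W, inferInstance, ?_, ?_, ρ₀.quotient W hW, hl1, fun a ha v hv => ?_⟩
  · exact Module.finite_of_fg_torsion _ fun v =>
      ⟨⟨l, mem_nonZeroDivisors_of_ne_zero (by exact_mod_cast hl0)⟩, by simpa using hl1 v⟩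
  · rw [Submodule.Quotient.nontrivial_iff]
    intro hW
    obtain ⟨r, hr1, hr2⟩ := Submodule.exists_sub_one_mem_and_smul_le_of_fg_of_le_sup
      (I := Ideal.span {(l : ℤ)}) (N := (normIdeal ℤ A).restrictScalars ℤ) (N' := ⊤) (P := ⊤)
      Module.Finite.fg_top le_rfl (by
        rw [← hW]
        refine sup_le_sup_left ?_ _
        rintro _ ⟨x, rfl⟩
        rw [hW]
        exact Submodule.smul_mem_smul (Ideal.mem_span_singleton_self _) trivial)
    refine h r ?_ (Ideal.mem_span_singleton.1 hr1)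
    have := hr2 (Submodule.smul_mem_pointwise_smul 1 r ⊤ trivial)
    simpa using this
  · have h1 : ∀ i : ℕ, ρ₀.quotient W hW (a ^ i) v = v := by
      intro i
      induction i with
      | zero => rw [pow_zero, map_one, Module.End.one_apply]
      | succ i ih => rw [pow_succ, map_mul, Module.End.mul_apply, hv, ih]
    have h2 : Nat.card A • v = 0 := by
      have h3 : ∑ i ∈ Finset.range (Nat.card A), ρ₀.quotient W hW (a ^ i) v = Nat.card A • v := by
        rw [Finset.sum_congr rfl fun i _ => h1 i, Finset.sum_const, Finset.card_range]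
      rw [← h3]
      obtain ⟨x, rfl⟩ := W.mkQ_surjective v
      have h4 : ∀ i : ℕ, ρ₀.quotient W hW (a ^ i) (W.mkQ x) =
          W.mkQ (MonoidAlgebra.of ℤ A (a ^ i) * x) := fun i => rfl
      rw [Finset.sum_congr rfl fun i _ => h4 i, ← map_sum, ← Finset.sum_mul, Submodule.mkQ_apply,
        Submodule.Quotient.mk_eq_zero]
      exact Submodule.mem_sup_left (nrm_mul_mem ℤ ha x)
    exact AddMonoid.addOrderOf_eq_one_iff.1 (Nat.eq_one_of_dvd_coprimes hl
      (addOrderOf_dvd_of_nsmul_eq_zero (hl1 v)) (addOrderOf_dvd_of_nsmul_eq_zero h2))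

theorem mapRingHom_nrm {k' : Type*} [CommRing k'] (f : k →+* k') (a : A) :
    MonoidAlgebra.mapRingHom A f (nrm k a) = nrm k' a := by
  simp [nrm]

theorem exists_smul_of_map_eq_zero {p : ℕ} {x : ℤ[A]}
    (h : MonoidAlgebra.mapRingHom A (Int.castRingHom (ZMod p)) x = 0) : ∃ z, x = (p : ℤ) • z := by
  refine ⟨.ofCoeff (x.coeff.mapRange (· / (p : ℤ)) (by simp)), ?_⟩
  ext m
  have := congrArg (fun y => y.coeff m) h
  simp only [MonoidAlgebra.coeff_mapRingHom, eq_intCast, MonoidAlgebra.coeff_zero,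
    Finsupp.coe_zero, Pi.zero_apply, ZMod.intCast_zmod_eq_zero_iff_dvd] at this
  rw [MonoidAlgebra.coeff_smul]
  simp [Int.mul_ediv_cancel' this]

/-- For a Frobenius complement the ideal of norms meets `ℤ` trivially. -/
theorem IsFC.eq_zero_of_mem_normIdeal [Finite A] (h : IsFC A) {r : ℤ}
    (hr : (r : ℤ[A]) ∈ normIdeal ℤ A) : r = 0 := by
  obtain ⟨p, hp, V, _, _, ρ, hpA, hpV, hρ⟩ := h.exists_rep
  have := Fact.mk hp
  have : NeZero ((Nat.card A : ℕ) : ZMod p) := ⟨by rwa [Ne, ZMod.natCast_eq_zero_iff]⟩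
  set π := MonoidAlgebra.mapRingHom A (Int.castRingHom (ZMod p)) with hπ
  have hπs : Function.Surjective π :=
    MonoidAlgebra.map_surjective _ (ZMod.ringHom_surjective (Int.castRingHom (ZMod p)))
  have hI : ∀ y ∈ normIdeal (ZMod p) A, ∃ x ∈ normIdeal ℤ A, π x = y := by
    intro y hy
    induction hy using Submodule.span_induction with
    | mem y hy =>
      obtain ⟨a, ha, x, rfl⟩ := hy
      obtain ⟨x, rfl⟩ := hπs x
      exact ⟨_, nrm_mul_mem ℤ ha x, by rw [map_mul, hπ, mapRingHom_nrm]⟩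
    | zero => exact ⟨0, zero_mem _, map_zero _⟩
    | add y z _ _ h1 h2 =>
      obtain ⟨x, hx, rfl⟩ := h1
      obtain ⟨x', hx', rfl⟩ := h2
      exact ⟨_, add_mem hx hx', map_add _ _ _⟩
    | smul c y _ h =>
      obtain ⟨x, hx, rfl⟩ := h
      obtain ⟨c, rfl⟩ := hπs c
      exact ⟨_, Ideal.mul_mem_left _ c hx, map_mul _ _ _⟩
  have h1 : (1 : (ZMod p)[A]) ∉ normIdeal (ZMod p) A := by
    intro h1
    obtain ⟨x, hx, he⟩ := hI _ h1
    obtain ⟨z, hz⟩ := exists_smul_of_map_eq_zero (p := p) (x := 1 - x) (by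
      rw [← hπ, map_sub, he, map_one, sub_self])
    have h2 := normIdeal_le_ker ℤ ρ.asAlgebraHom.toRingHom (fun a ha => by
      ext v
      refine hρ a ha _ ?_
      change ρ a (ρ.asAlgebraHom (nrm ℤ a) v) = ρ.asAlgebraHom (nrm ℤ a) v
      rw [← ρ.asAlgebraHom_of, ← Module.End.mul_apply, ← map_mul, of_mul_nrm]) hx
    obtain ⟨v, hv⟩ := exists_ne (0 : V)
    apply hv
    have h3 : ρ.asAlgebraHom x = 0 := h2
    have h4 := congrArg (fun y => ρ.asAlgebraHom y v) hz
    simp only [map_sub, map_one, h3, sub_zero, map_smul, LinearMap.smul_apply, hpV] at h4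
    exact h4
  obtain ⟨J, hJ⟩ := MonoidAlgebra.Submodule.exists_isCompl (normIdeal (ZMod p) A)
  obtain ⟨f, hf, e, he, hfe⟩ := Submodule.mem_sup.1
    (hJ.sup_eq_top ▸ Submodule.mem_top (x := (1 : (ZMod p)[A])))
  have h2 : ∀ y ∈ normIdeal (ZMod p) A, y * e = 0 := fun y hy =>
    Submodule.disjoint_def.1 hJ.disjoint _ (mul_mem_normIdeal _ hy e) (J.smul_mem y he)
  have h3 : e * e = e := by
    have := h2 f hf
    rw [← add_sub_cancel_right f e, hfe, sub_mul, one_mul, sub_eq_zero] at this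
    exact this.symm
  have h4 : e ≠ 0 := by
    rintro rfl
    rw [add_zero] at hfe
    exact h1 (hfe ▸ hf)
  obtain ⟨ε, rfl⟩ := hπs e
  have h5 : ∀ a : A, a ≠ 1 → ∀ n : ℕ, ∀ x, ∃ z, ((Nat.card A : ℤ) ^ n) • (nrm ℤ a * x * ε ^ n) =
      ((p : ℤ) ^ n) • (nrm ℤ a * z) := by
    intro a ha n
    induction n with
    | zero => exact fun x => ⟨x, by simp⟩
    | succ n ih =>
      intro x
      obtain ⟨z, hz⟩ := ih x
      obtain ⟨w, hw⟩ := exists_smul_of_map_eq_zero (p := p) (x := nrm ℤ a * z * ε) (by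
        rw [← hπ, map_mul, map_mul, hπ, mapRingHom_nrm]
        exact h2 _ (nrm_mul_mem _ ha _))
      refine ⟨w, ?_⟩
      have e1 : (Nat.card A : ℤ) • (nrm ℤ a * z * ε) = (p : ℤ) • (nrm ℤ a * w) := by
        rw [← mul_smul_comm (p : ℤ), ← hw, ← mul_assoc, ← mul_assoc, nrm_mul_nrm, natCast_zsmul,
          smul_mul_assoc, smul_mul_assoc]
      rw [pow_succ', mul_smul, pow_succ ε, ← mul_assoc, ← smul_mul_assoc, hz, smul_mul_assoc,
        smul_comm, e1, pow_succ, mul_smul]
  have h6 : ∀ n : ℕ, ∀ y ∈ normIdeal ℤ A, ∃ z, ((Nat.card A : ℤ) ^ n) • (y * ε ^ n) =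
      ((p : ℤ) ^ n) • z := by
    intro n y hy
    induction hy using Submodule.span_induction with
    | mem y hy =>
      obtain ⟨a, ha, x, rfl⟩ := hy
      obtain ⟨z, hz⟩ := h5 a ha n x
      exact ⟨_, hz⟩
    | zero => exact ⟨0, by simp⟩
    | add y z _ _ h1 h2 =>
      obtain ⟨x, hx⟩ := h1
      obtain ⟨x', hx'⟩ := h2
      exact ⟨x + x', by rw [add_mul, smul_add, hx, hx', smul_add]⟩
    | smul c y _ h =>
      obtain ⟨x, hx⟩ := h
      exact ⟨c * x, by rw [smul_eq_mul, mul_assoc, ← mul_smul_comm, hx, mul_smul_comm]⟩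
  by_contra hr0
  obtain ⟨j, u, hu, rfl⟩ := WfDvdMonoid.max_power_factor hr0 (Nat.prime_iff_prime_int.1 hp).irreducible
  obtain ⟨z, hz⟩ := h6 (j + 1) _ hr
  have h7 : ((Nat.card A : ℤ) ^ (j + 1) * u) • ε ^ (j + 1) = (p : ℤ) • z := by
    apply smul_right_injective ℤ[A] (pow_ne_zero j (Int.natCast_ne_zero.2 hp.ne_zero))
    simp only
    rw [← mul_smul, ← mul_smul, ← pow_succ, ← hz, ← zsmul_eq_mul, ← mul_smul]
    congr 1; ring
  have h8 := congrArg π h7
  have h9 : π ε ^ (j + 1) = π ε := IsIdempotentElem.pow_succ_eq j h3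
  rw [map_zsmul, map_zsmul, map_pow, h9, ← Int.cast_smul_eq_zsmul (ZMod p),
    ← Int.cast_smul_eq_zsmul (ZMod p), Int.cast_natCast, ZMod.natCast_self, zero_smul,
    smul_eq_zero, ZMod.intCast_zmod_eq_zero_iff_dvd] at h8
  rcases h8 with h8 | h8
  · rcases (Nat.prime_iff_prime_int.1 hp).dvd_or_dvd h8 with h | h
    · exact hpA (Int.natCast_dvd_natCast.1 ((Nat.prime_iff_prime_int.1 hp).dvd_of_dvd_pow h))
    · exact hu h
  · exact h4 h8

/-- A Frobenius complement has a finite fixed-point-free module in each characteristic prime to its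
order. -/
theorem IsFC.exists_rep_prime [Finite A] (h : IsFC A) {l : ℕ} (hl : l.Prime)
    (hlA : ¬ l ∣ Nat.card A) :
    ∃ (V : Type u) (_ : AddCommGroup V) (_ : Finite V) (_ : Nontrivial V)
      (ρ : Representation ℤ A V), (∀ v : V, l • v = 0) ∧ ∀ a : A, a ≠ 1 → ∀ v, ρ a v = v → v = 0 :=
  exists_rep_of_normIdeal (hl.coprime_iff_not_dvd.2 hlA) hl.ne_zero fun r hr hd => by
    rw [h.eq_zero_of_mem_normIdeal hr, zero_sub, dvd_neg] at hd
    exact hl.not_dvd_one (by exact_mod_cast hd)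

end Norm

end Cfsg.Agent.H8
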