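import Cfsg.Agent.H8.Zass3

/-! The icosians: a frame and an element of order three in normal form generate `SL₂(5)`. -/

set_option autoImplicit false

namespace Cfsg.Agent.H8

theorem exists_hom_of_graph {S A : Type*} [Group S] [Group A] (Γ : S → A → Prop)
    (huniq : ∀ M g g', Γ M g → Γ M g' → g = g') (h1 : Γ 1 1) (s1 s2 : S) (a1 a2 : A)
    (hs1 : ∀ M g, Γ M g → Γ (M * s1) (g * a1)) (hs2 : ∀ M g, Γ M g → Γ (M * s2) (g * a2))
    (hind : ∀ P : S → Prop, P 1 → (∀ M, P M → P (M * s1)) → (∀ M, P M → P (M * s2)) → ∀ M, P M) :
    ∃ f : S →* A, ∀ M, Γ M (f M) := by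
  have hex : ∀ M, ∃ g, Γ M g := hind _ ⟨1, h1⟩ (fun M ⟨g, hg⟩ => ⟨_, hs1 M g hg⟩)
    (fun M ⟨g, hg⟩ => ⟨_, hs2 M g hg⟩)
  choose f hf using hex
  have f1 : f 1 = 1 := huniq _ _ _ (hf 1) h1
  have e1 : ∀ M, f (M * s1) = f M * a1 := fun M => huniq _ _ _ (hf _) (hs1 _ _ (hf M))
  have e2 : ∀ M, f (M * s2) = f M * a2 := fun M => huniq _ _ _ (hf _) (hs2 _ _ (hf M))
  refine ⟨MonoidHom.mk' f fun M N => ?_, hf⟩
  refine hind (fun N => f (M * N) = f M * f N) (by simp [f1]) (fun N hN => ?_) (fun N hN => ?_) N
  · rw [← mul_assoc, e1, e1, hN, mul_assoc]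
  · rw [← mul_assoc, e2, e2, hN, mul_assoc]

/-- The golden integers. -/
abbrev Zgold := QuadraticAlgebra ℤ 1 1

/-- Quaternion coordinates over the golden integers. -/
abbrev Ic := Zgold × Zgold × Zgold × Zgold

/-- Quaternion multiplication. -/
def icMul (e f : Ic) : Ic :=
  (e.1 * f.1 - e.2.1 * f.2.1 - e.2.2.1 * f.2.2.1 - e.2.2.2 * f.2.2.2,
   e.1 * f.2.1 + e.2.1 * f.1 + e.2.2.1 * f.2.2.2 - e.2.2.2 * f.2.2.1,
   e.1 * f.2.2.1 - e.2.1 * f.2.2.2 + e.2.2.1 * f.1 + e.2.2.2 * f.2.1,
   e.1 * f.2.2.2 + e.2.1 * f.2.2.1 - e.2.2.1 * f.2.1 + e.2.2.2 * f.1)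

/-- Doubling. -/
def icDbl (e : Ic) : Ic := (e.1 + e.1, e.2.1 + e.2.1, e.2.2.1 + e.2.2.1, e.2.2.2 + e.2.2.2)

/-- The table of doubled coordinates of the 120 unit icosians. -/
def icTab : ℕ := 0x621223231000000000000000000000000000000000000000000000000000923232323000000000000000000000000000000000000000000000000000732312122000000000000000000000000000000000000000000000000000522131221021221221300000000000000000000000000000000000000000000000000000000000006232123230000000000000000000000000000000000000000000000000000000000000432223121000000000007222313120000000000000000000000000000000000000000000000000000000000000812312122000000000009211322320000000000000000000000000000000000000000000000000000000000000000000000083213212200000000000000000000082221131200000000000000000000000000000000000000000000000000000000000000000000000812223121000000000000000000000621232323000000000000000000000623312232000000000000000000000000000000000000000000000000000000000000000000000000000000000722311221000000000000000000000000000000051213212200000000000000000000000000000008212123230000000000000000000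00000000000062322323100000000000000000000000000000004322322130000000000000000000000000000000000000000071223221300000000000000000000000000000000000000000321312232000000000000000000000000000000000000000003231322320000000000000000000000000000000000000000073221221300000000000000000000000000000000000000000a22222220000000000000000000000000000000000000000008212212310000000000000000000000000000000000000000000000000000000000000000000000012323232100000000000000000000081312222300000000000000000000000000000000000000000000000000000000000000000000000422322113000000000000000000000731213222000000000000000000000000000000000000000000000000000723212321000000000000000000000000000000000000000000000000000613222132042223311200000000000000000000000000000000000000000000000000083112222300000000000000000000000000000000000000000000000000072132132200000000000000000000000000000006133222230000000000000000000000000000000822213112000000000000000000000000000000000000000000000000000000000000000000000000000000000331222132000000000000000000000000000000072123232100000000000000000000000000000005231213220000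00000000000000000000000000000000000000000000000000000000022212211300000000000931322223000000000000000000000000000000000000000000000000000000000000052121232100000000000623221231000000000000000000000000000000000000000000000000000000000000071323322200000000000000000000000000000000000000000731233222000000000000000000000000000000000000000005211213220000000000000000000000000000000000000000072332132200000000000000000000000000000000000000000813213222000000000000000000000000000000000000000008222220220000000000000000000000000000000000000000000000000007212232130000000000062323212300000000000000000000000000000000000000000000000000000000000002131222210000000000000000000000000000000000000000000000000000000000000922322331000000000005312112220000000000000000000000000000000623212123000000000000000000000000000000000000000000000000000000000000000000000000000000000713222312000000000000000000000000000000032223133200000000000000000000000000000005311222210000000000000000000000000000000721323122000000000000000000000000000000000000000000000000000413322221000000000000000000000000000000000000000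00000000000092221133200000000000000000000000000000000000000000000000000073122231206212321230000000000000000000000000000000000000000000000000008231231220000000000000000000000000000000000000000000000000000000000000000000000082212233100000000000000000000013132222100000000000000000000082121212300000000000000000000000000000000000000000000000000000000000000000000000423223213000000000000000000000713231222000000000000000000000000000000000000000007312312220000000000000000000000000000000000000000052112312200000000000000000000000000000000000000000a23323122000000000000000000000000000000000000000005132112220000000000000000000000000000000000000000072222242200000000000000000000000000000000000000000000000000052122121300000000000000000000000000000004232321210000000000000000000000000000000732312322000000000000000000000000000000000000000000000000000000000000000000000000000000000622133223000000000000000000000000000000081221223100000000000000000000082321212100000000000000000000000000000000000000000000000000000000000000000000000632221323000000000000000000000622233132000000000000000000000812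31232200000000000000000000000000000000000000000000000000000000000000000000000821132212000000000007321323220000000000000000000000000000000000000000000000000000000000000622213132000000000000000000000000000000000000000000000000000000000000081222132300000000000721232121000000000000000000000000000000000000000000000000000000000000042331221200000000000000000000000000000000000000000000000000062231322305121323220000000000000000000000000000000000000000000000000002212121210000000000000000000000000000000000000000000000000007232212130000000000000000000000000000000000000000000000000009322322310000000000000000000000000000000000000000061223223100000000000000000000000000000000000000000721312212000000000000000000000000000000000000000007231322120000000000000000000000000000000000000000063221223100000000000000000000000000000000000000000022222224000000000000000000000000000000000000000000000000000000000000000000000000000000000000000000000000000000000000000000000000000000000000000000000000000000000000000007221332210422322313062232213108221312230522202222000000000000000000000000000000000000000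000000000000000000000000000000000000000000000000000000000000007322213210313222332081322211206322231230520222222000000000000000000000000000000000000000000000000000000000000000000000000000000000000000000000000000000000000000000000000000000000000000000000000000000000000000000000000000000000000000000000000000000000000000000000000000000000000000000000000000000000005122213210331222332073122211206122231230724222222000000000000000000000000000000000000000000000000000000000000000000000000000000000000000000000000000004223132210522122313082212213106223112230722242222000000000000000000000000000000000000000000000000000000000000000000000000000000000000000000000000000000000000000000000000000000000000000000000000000000000000000000000000000000000000000000000000000000000000000000000000000000000000000000000000000000000000000000000000000000000000000000000000000000000000000000000000000000000000000000000000000000000000000000000000000000000000000000000000000000000000000000000000000000000000000000000000000000000000000000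

/-- One entry of the table. -/
def icEnt (a b c d : ZMod 5) : ℕ :=
  (icTab >>> (40 * (a.val * 125 + b.val * 25 + c.val * 5 + d.val))) % 1099511627776

/-- One digit of an entry. -/
def icDig (e k : ℕ) : ℤ := (((e >>> (4 * k)) % 16 : ℕ) : ℤ) - 2

/-- Decoding an entry. -/
def icDec (e : ℕ) : Ic :=
  (⟨icDig e 0, icDig e 1⟩, ⟨icDig e 2, icDig e 3⟩, ⟨icDig e 4, icDig e 5⟩, ⟨icDig e 6, icDig e 7⟩)

theorem ic_check1 : ∀ a b c d : ZMod 5, a * d - b * c = 1 →
    icMul (icDec (icEnt a b c d)) (⟨-1, 0⟩, ⟨1, 0⟩, ⟨1, 0⟩, ⟨1, 0⟩) =
      icDbl (icDec (icEnt (a * 3 + b * 3) (a * 4 + b * 1) (c * 3 + d * 3) (c * 4 + d * 1))) := by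
  decide +kernel

theorem ic_check2 : ∀ a b c d : ZMod 5, a * d - b * c = 1 →
    icMul (icDec (icEnt a b c d)) (⟨-1, 0⟩, ⟨0, 0⟩, ⟨0, 1⟩, ⟨-1, 1⟩) =
      icDbl (icDec (icEnt (a * 2 + b * 3) (a * 1 + b * 2) (c * 2 + d * 3) (c * 1 + d * 2))) := by
  decide +kernel

theorem ic_check3 : ∀ a b c d : ZMod 5, a * d - b * c = 1 →
    (a = 1 ∧ b = 0 ∧ c = 0 ∧ d = 1) ∨
      (icEnt (a * 1 + b * 2) (a * 1 + b * 3) (c * 1 + d * 2) (c * 1 + d * 3) >>> 32 <
        icEnt a b c d >>> 32 ∨
      icEnt (a * 2 + b * 2) (a * 4 + b * 2) (c * 2 + d * 2) (c * 4 + d * 2) >>> 32 <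
        icEnt a b c d >>> 32) := by
  decide +kernel

theorem ic_check4 : ∀ a b c d : ZMod 5, a * d - b * c = 1 →
    (a = 1 ∧ b = 0 ∧ c = 0 ∧ d = 1) ∨
      (icDig (icEnt a b c d) 0 - 2) * (icDig (icEnt a b c d) 0 - 2) +
        (icDig (icEnt a b c d) 0 - 2) * icDig (icEnt a b c d) 1 -
        icDig (icEnt a b c d) 1 * icDig (icEnt a b c d) 1 ≠ 0 := by
  decide +kernel

theorem ic_check5 : icDec (icEnt 1 0 0 1) = (⟨2, 0⟩, ⟨0, 0⟩, ⟨0, 0⟩, ⟨0, 0⟩) ∧
    icDec (icEnt 2 0 0 3) = (⟨0, 0⟩, ⟨2, 0⟩, ⟨0, 0⟩, ⟨0, 0⟩) ∧
    icDec (icEnt 0 1 4 0) = (⟨0, 0⟩, ⟨0, 0⟩, ⟨2, 0⟩, ⟨0, 0⟩) := by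
  decide +kernel

/-- The first generator. -/
def icS1 : Matrix.SpecialLinearGroup (Fin 2) (ZMod 5) :=
  ⟨!![3, 4; 3, 1], by rw [Matrix.det_fin_two_of]; decide⟩

/-- The second generator. -/
def icS2 : Matrix.SpecialLinearGroup (Fin 2) (ZMod 5) :=
  ⟨!![2, 1; 3, 2], by rw [Matrix.det_fin_two_of]; decide⟩

/-- The table entry of a matrix. -/
def icE (M : Matrix.SpecialLinearGroup (Fin 2) (ZMod 5)) : ℕ :=
  icEnt (M 0 0) (M 0 1) (M 1 0) (M 1 1)

theorem ic_det (M : Matrix.SpecialLinearGroup (Fin 2) (ZMod 5)) :
    M 0 0 * M 1 1 - M 0 1 * M 1 0 = 1 := by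
  rw [← Matrix.det_fin_two]; exact M.det_coe

theorem ic_eq_one (M : Matrix.SpecialLinearGroup (Fin 2) (ZMod 5))
    (h : M 0 0 = 1 ∧ M 0 1 = 0 ∧ M 1 0 = 0 ∧ M 1 1 = 1) : M = 1 := by
  ext x y
  fin_cases x <;> fin_cases y <;> simp [h.1, h.2.1, h.2.2.1, h.2.2.2]

theorem icE_mul (M N : Matrix.SpecialLinearGroup (Fin 2) (ZMod 5)) :
    icE (M * N) = icEnt (M 0 0 * N 0 0 + M 0 1 * N 1 0) (M 0 0 * N 0 1 + M 0 1 * N 1 1)
      (M 1 0 * N 0 0 + M 1 1 * N 1 0) (M 1 0 * N 0 1 + M 1 1 * N 1 1) := by
  simp only [icE, Matrix.SpecialLinearGroup.coe_mul, Matrix.mul_apply, Fin.sum_univ_two]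

theorem ic_ind (P : Matrix.SpecialLinearGroup (Fin 2) (ZMod 5) → Prop) (h1 : P 1)
    (hs1 : ∀ M, P M → P (M * icS1)) (hs2 : ∀ M, P M → P (M * icS2)) : ∀ M, P M := by
  let t1 : Matrix.SpecialLinearGroup (Fin 2) (ZMod 5) :=
    ⟨!![1, 1; 2, 3], by rw [Matrix.det_fin_two_of]; decide⟩
  let t2 : Matrix.SpecialLinearGroup (Fin 2) (ZMod 5) :=
    ⟨!![2, 4; 2, 2], by rw [Matrix.det_fin_two_of]; decide⟩
  have e1 : t1 * icS1 = 1 := ic_eq_one _ (by
    simp only [Matrix.SpecialLinearGroup.coe_mul, Matrix.mul_apply, Fin.sum_univ_two]
    decide)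
  have e2 : t2 * icS2 = 1 := ic_eq_one _ (by
    simp only [Matrix.SpecialLinearGroup.coe_mul, Matrix.mul_apply, Fin.sum_univ_two]
    decide)
  have key : ∀ n, ∀ M, icE M >>> 32 = n → P M := by
    intro n
    induction n using Nat.strong_induction_on with
    | _ n ih =>
      intro M hM
      rcases ic_check3 _ _ _ _ (ic_det M) with h | h | h
      · rw [ic_eq_one M h]; exact h1
      · have := hs1 _ (ih _ (hM ▸ h) (M * t1) (by rw [icE_mul]; rfl))
        rwa [mul_assoc, e1, mul_one] at this
      · have := hs2 _ (ih _ (hM ▸ h) (M * t2) (by rw [icE_mul]; rfl))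
        rwa [mul_assoc, e2, mul_one] at this
  exact fun M => key _ M rfl

variable {A R : Type*} [Group A] [Ring R] [Algebra ℚ R] [Nontrivial R] {ρ : A →* R} {a i j : A}

theorem NF.exists_hom {c : A} {φ : QE (ρ i) (ρ j)} (H : ZHyp ρ) (F : Frame ρ a i j)
    (h : NF ρ i j c φ) : ∃ f : Matrix.SpecialLinearGroup (Fin 2) (ZMod 5) →* A,
      Function.Injective f ∧ a ∈ f.range ∧ i ∈ f.range ∧ j ∈ f.range ∧ c ∈ f.range := by
  let z : Zgold →ₐ[ℤ] QE (ρ i) (ρ j) := QuadraticAlgebra.lift ⟨φ, by rw [h.2]; simp [add_comm]⟩
  have hz : ∀ n m : ℤ, z ⟨n, m⟩ = n • (1 : QE (ρ i) (ρ j)) + m • φ := fun n m => rfl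
  let Ψ : Ic → R := fun e => qmk (z e.1) (z e.2.1) (z e.2.2.1) (z e.2.2.2)
  have hmul : ∀ e f, Ψ e * Ψ f = Ψ (icMul e f) := fun e f => by
    simp only [Ψ, icMul, qmk_mul F.pair, map_add, map_sub, map_mul]
  have hdbl : ∀ e, Ψ (icDbl e) = 2 • Ψ e := fun e => by
    simp only [Ψ, icDbl, map_add, two_smul, qmk_add]
  have ha : 2 • ρ a = Ψ (⟨-1, 0⟩, ⟨1, 0⟩, ⟨1, 0⟩, ⟨1, 0⟩) := by
    have := F.hx
    simp only [Ψ, hz, zx, qmk] at this ⊢
    simp
    linear_combination (norm := noncomm_ring) this
  have hc : 2 • ρ c = Ψ (⟨-1, 0⟩, ⟨0, 0⟩, ⟨0, 1⟩, ⟨-1, 1⟩) := by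
    have := h.1.2
    simp only [Ψ, hz, zx, qmk] at this ⊢
    simp at this ⊢
    linear_combination (norm := noncomm_ring) this
  have huniq : ∀ (M : Matrix.SpecialLinearGroup (Fin 2) (ZMod 5)) (g g' : A),
      2 • ρ g = Ψ (icDec (icE M)) → 2 • ρ g' = Ψ (icDec (icE M)) → g = g' :=
    fun M g g' e e' => H.inj (eq_of_nsmul 2 two_ne_zero (e.trans e'.symm))
  have hone : 2 • ρ 1 = Ψ (icDec (icE 1)) := by
    rw [show icE 1 = icEnt 1 0 0 1 from rfl, ic_check5.1]
    simp [Ψ, hz, qmk]
  have hs1 : ∀ (M : Matrix.SpecialLinearGroup (Fin 2) (ZMod 5)) (g : A),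
      2 • ρ g = Ψ (icDec (icE M)) → 2 • ρ (g * a) = Ψ (icDec (icE (M * icS1))) := by
    intro M g e
    refine eq_of_nsmul 2 two_ne_zero ?_
    rw [← hdbl, icE_mul, map_mul, show 2 • 2 • (ρ g * ρ a) = (2 • ρ g) * (2 • ρ a) by
      noncomm_ring, e, ha, hmul]
    exact congrArg Ψ (ic_check1 _ _ _ _ (ic_det M))
  have hs2 : ∀ (M : Matrix.SpecialLinearGroup (Fin 2) (ZMod 5)) (g : A),
      2 • ρ g = Ψ (icDec (icE M)) → 2 • ρ (g * c) = Ψ (icDec (icE (M * icS2))) := by
    intro M g e
    refine eq_of_nsmul 2 two_ne_zero ?_
    rw [← hdbl, icE_mul, map_mul, show 2 • 2 • (ρ g * ρ c) = (2 • ρ g) * (2 • ρ c) by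
      noncomm_ring, e, hc, hmul]
    exact congrArg Ψ (ic_check2 _ _ _ _ (ic_det M))
  obtain ⟨f, hf⟩ := exists_hom_of_graph (fun M g => 2 • ρ g = Ψ (icDec (icE M))) huniq hone
    icS1 icS2 a c hs1 hs2 ic_ind
  refine ⟨f, (injective_iff_map_eq_one f).2 fun M hM => ?_, ⟨icS1, ?_⟩,
    ⟨⟨!![2, 0; 0, 3], by rw [Matrix.det_fin_two_of]; decide⟩, ?_⟩,
    ⟨⟨!![0, 1; 4, 0], by rw [Matrix.det_fin_two_of]; decide⟩, ?_⟩, ⟨icS2, ?_⟩⟩
  · rcases ic_check4 _ _ _ _ (ic_det M) with e | e
    · exact ic_eq_one M e
    · exfalso
      have e1 := hf M
      rw [hM, hone, show icE 1 = icEnt 1 0 0 1 from rfl, ic_check5.1] at e1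
      have e2 := (qmk_inj F.pair e1).1
      simp only [icDec, hz] at e2
      change _ = icDig (icEnt (M 0 0) (M 0 1) (M 1 0) (M 1 1)) 0 • _ +
        icDig (icEnt (M 0 0) (M 0 1) (M 1 0) (M 1 1)) 1 • _ at e2
      generalize icDig (icEnt (M 0 0) (M 0 1) (M 1 0) (M 1 1)) 0 = n at e e2
      generalize icDig (icEnt (M 0 0) (M 0 1) (M 1 0) (M 1 1)) 1 = m at e e2
      have e3 : z ⟨n - 2, m⟩ = 0 := by
        rw [hz, sub_smul]
        linear_combination (norm := module) -e2
      have e4 : z (⟨n - 2, m⟩ * ⟨n - 2 + m, -m⟩) = 0 := by rw [map_mul, e3, zero_mul]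
      rw [QuadraticAlgebra.mk_mul_mk, hz] at e4
      have e5 : ((n - 2) * (n - 2) + (n - 2) * m - m * m) • (1 : QE (ρ i) (ρ j)) = 0 := by
        linear_combination (norm := module) e4
      rw [← Int.cast_smul_eq_zsmul ℚ] at e5
      exact e (by exact_mod_cast (smul_eq_zero.1 e5).resolve_right one_ne_zero)
  · have := hs1 1 1 hone
    rw [one_mul, one_mul] at this
    exact huniq _ _ _ (hf _) this
  · refine huniq _ _ _ (hf _) ?_
    rw [show icE ⟨!![2, 0; 0, 3], _⟩ = icEnt 2 0 0 3 from rfl, ic_check5.2.1]
    simp [Ψ, hz, qmk]
  · refine huniq _ _ _ (hf _) ?_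
    rw [show icE ⟨!![0, 1; 4, 0], _⟩ = icEnt 0 1 4 0 from rfl, ic_check5.2.2]
    simp [Ψ, hz, qmk]
  · have := hs2 1 1 hone
    rw [one_mul, one_mul] at this
    exact huniq _ _ _ (hf _) this

/-- Relative to a frame, either all elements of order three lie in the group of the frame, or all
lie in a copy of `SL₂(5)` that contains the frame. -/
theorem Frame.dichotomy (H : ZHyp ρ) (F : Frame ρ a i j) :
    (∀ c : A, orderOf c = 3 → c ∈ Subgroup.closure {a, i, j}) ∨
      ∃ f : Matrix.SpecialLinearGroup (Fin 2) (ZMod 5) →* A, Function.Injective f ∧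
        a ∈ f.range ∧ i ∈ f.range ∧ j ∈ f.range ∧ ∀ c : A, orderOf c = 3 → c ∈ f.range := by
  by_cases hex : ∃ c φ, NF ρ i j c φ
  · obtain ⟨c0, φ, h0⟩ := hex
    obtain ⟨f, hf, ha, hi, hj, hc0⟩ := h0.exists_hom H F
    have hle : Subgroup.closure {a, i, j} ≤ f.range := by
      rw [Subgroup.closure_le]
      rintro x (rfl | rfl | rfl) <;> assumption
    have key : ∀ c ψ, NF ρ i j c ψ → c ∈ f.range := fun c ψ h => by
      obtain rfl := h0.unique H F h
      rw [← h0.1.eq H h.1]; exact hc0
    refine Or.inr ⟨f, hf, ha, hi, hj, fun c hc => ?_⟩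
    rcases F.classify H hc with h | ⟨g, hg, ψ, h⟩
    · exact hle h
    · have : g * c * g⁻¹ ∈ f.range := by
        rcases h with h | h
        · exact key _ _ h
        · exact inv_mem_iff.1 (key _ _ h)
      simpa [mul_assoc] using mul_mem (mul_mem (inv_mem (hle hg)) this) (hle hg)
  · refine Or.inl fun c hc => ?_
    rcases F.classify H hc with h | ⟨g, -, ψ, h | h⟩
    · exact h
    · exact absurd ⟨_, _, h⟩ hex
    · exact absurd ⟨_, _, h⟩ hex

end Cfsg.Agent.H8
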