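/-
Coprime action with all proper invariant subgroups nilpotent (Beltran-Shao), when one of the two
groups is solvable.
-/
import Cfsg.Agent.FT.Base
import Cfsg.Agent.FT.B.helper1_Core
import Cfsg.Agent.H5.Thompson
import Cfsg.Agent.H1.Semidirect

set_option autoImplicit false

namespace Cfsg.Agent.H8

open Subgroup Cfsg Cfsg.Agent Cfsg.Agent.FT
open scoped commutatorElement

universe u

theorem isSolvable_of_bar' {X : Type u} [Group X] {Y N K : Subgroup X} [(N.subgroupOf Y).Normal]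
    (hK : K ≤ Y) (hN : Group.IsSolvable N) (h : Group.IsSolvable (H1.bar Y N K)) :
    Group.IsSolvable K := by
  have h1 : Group.IsSolvable (N.subgroupOf Y) := H1.isSolvable_subgroupOf hN Y
  exact (H2.isSolvable_subgroupOf_iff hK).1 (L.isSolvable_of_map_mk' (N.subgroupOf Y) _ h)

theorem invNilp_solvable (n : ℕ) : ∀ (X : Type u) [Group X] [Finite X] (A K : Subgroup X),
    𝐨(K) = n → A ≤ 𝐍(K) → 𝐨(A).Coprime 𝐨(K) → Group.IsSolvable A →
    (∀ H : Subgroup X, H < K → A ≤ 𝐍(H) → Group.IsNilpotent H) → Group.IsSolvable K := by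
  induction n using Nat.strong_induction_on with
  | _ n ih =>
  intro X _ _ A K hn hA hc hs h
  by_cases hN : ∃ N : Subgroup X, N ≠ ⊥ ∧ N < K ∧ K ≤ 𝐍(N) ∧ A ≤ 𝐍(N)
  · obtain ⟨N, h1, h2, h3, h4⟩ := hN
    have := H1.normal_subgroupOf_of_le (sup_le h3 h4)
    refine isSolvable_of_bar' (Y := K ⊔ A) le_sup_left (isSolvable_of_isNilpotent (h N h2 h4))
      (ih _ ?_ _ (H1.bar (K ⊔ A) N A) _ rfl (H1.bar_le_normalizer hA) (H1.coprime_bar hc)
        (H1.isSolvable_bar hs) fun H hH hAH => ?_)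
    · rw [← hn, H1.card_bar le_sup_left, ← H1.card_mul_relIndex h2.le]
      exact lt_mul_of_one_lt_left (Nat.pos_of_ne_zero fun e => card_ne_zero K (Nat.eq_zero_of_zero_dvd
        (e ▸ relIndex_dvd_card' N K)))
        ((one_lt_card_iff_ne_bot N).2 h1)
    · rw [← H1.bar_unbar H]
      refine H1.isNilpotent_bar (H1.unbar_le H) (h _ (lt_of_le_of_ne
        (unbar_le_of_le_bar h2.le le_sup_left hH.le) fun e => hH.ne ?_)
        (H1.le_normalizer_unbar le_sup_right hAH))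
      exact (H1.bar_unbar H).symm.trans (congrArg _ e)
  push Not at hN
  by_cases h2 : IsPGroup 2 K
  · exact isSolvable_of_isNilpotent (isNilpotent_of_isPGroup Nat.prime_two h2)
  rw [← isPi_singleton_iff Nat.prime_two] at h2
  simp only [IsPiSubgroup, not_forall] at h2
  obtain ⟨p, hp, hd, hp2⟩ := h2
  have := Fact.mk hp
  obtain ⟨P, hP, -, hAP⟩ := exists_invariant_isSyl hp hA hc (Or.inl hs) IsPGroup.of_bot bot_le
    (norm_bot.ge.trans' le_top)
  by_cases hK : IsPGroup p K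
  · exact isSolvable_of_isNilpotent (isNilpotent_of_isPGroup hp hK)
  have h3 := (hasNPC_iff hp).2 (H5.hasNPC_subgroup_of_forall_char hp2 hP.le hP.pgrp hP.ndvd
    fun Z hZ hZ1 hNZ => (hasNPC_iff hp).1 (FT.hasNPC_of_isNilpotent hp (h _
      (lt_of_le_of_ne inf_le_left fun e => hN Z hZ1 (lt_of_le_of_ne (hZ.trans hP.le)
        fun e' => hK (e' ▸ hP.pgrp.to_le hZ)) (inf_eq_left.1 e) (hAP.trans hNZ))
      (H1.le_normalizer_inf hA (H1.le_normalizer_normalizer (hAP.trans hNZ))))))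
  have hsd := h3.sdProd hp hP
  by_cases h4 : H2.pPrimeCoreOf p K = ⊥
  · have := hsd.sup
    rw [h4, bot_sup_eq] at this
    exact absurd (this ▸ hP.pgrp) hK
  · exact absurd (hA.trans (H2.normalizer_le_normalizer_pPrimeCoreOf p K)) (hN _ h4
      (lt_of_le_of_ne hsd.le_left fun e => not_dvd_card_pPrimeCoreOf hp K (e.symm ▸ hd))
      hsd.le_norm)

variable {X : Type u} [Group X] [Finite X] {A K : Subgroup X}

theorem invNilp_two_primes (hA : A ≤ 𝐍(K)) (hc : 𝐨(A).Coprime 𝐨(K)) (hs : Group.IsSolvable K)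
    (h : ∀ H : Subgroup X, H < K → A ≤ 𝐍(H) → Group.IsNilpotent H) (hK : ¬ Group.IsNilpotent K) :
    ∃ p q : ℕ, p.Prime ∧ q.Prime ∧ p ≠ q ∧ p ∣ 𝐨(K) ∧ q ∣ 𝐨(K) ∧ IsPiSubgroup {p, q} K := by
  obtain ⟨p, q, hp, hq, hπ⟩ : ∃ p q : ℕ, p.Prime ∧ q.Prime ∧ IsPiSubgroup {p, q} K := by
    by_contra! hn
    refine hK (isNilpotent_of_forall_isSyl_normal fun p hp _ => ?_)
    obtain ⟨P, hP, -, hAP⟩ := exists_invariant_isSyl hp hA hc (Or.inr hs) IsPGroup.of_bot bot_le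
      (norm_bot.ge.trans' le_top)
    refine ⟨P, hP, le_of_forall_exists_isSyl_le fun q hq _ => ?_⟩
    obtain ⟨H, hH, hAH, hPH⟩ := H1.exists_invariant_isPiHallOf_ge hA hc hs (π := {p, q}) hP.le hAP
      (isPi_of_isPGroup hp hP.pgrp (Or.inl rfl))
    obtain ⟨Q, hQ⟩ := exists_isSyl hq H
    exact ⟨Q, hQ.trans_hall hq hH (Or.inr rfl), hQ.le.trans ((le_norm_self H).trans
      ((hP.of_le hPH hH.1).norm_le_of_isNilpotent hp
        (h H (lt_of_le_of_ne hH.1 fun e => hn p q hp hq (e ▸ hall_isPi hH)) hAH)))⟩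
  have key : ∀ r : ℕ, r.Prime → ¬ IsPiSubgroup {r} K := fun r hr e =>
    hK (isNilpotent_of_isPGroup hr ((isPi_singleton_iff hr).1 e))
  refine ⟨p, q, hp, hq, fun e => key p hp (by simpa [e] using hπ),
    by_contra fun e => key q hq fun r hr hd => (hπ r hr hd).resolve_left ?_,
    by_contra fun e => key p hp fun r hr hd => (hπ r hr hd).resolve_right ?_, hπ⟩
  · rintro rfl; exact e hd
  · rintro rfl; exact e hd

theorem invNilp_normal_sylow (hA : A ≤ 𝐍(K)) (hc : 𝐨(A).Coprime 𝐨(K)) (hs : Group.IsSolvable K)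
    (h : ∀ H : Subgroup X, H < K → A ≤ 𝐍(H) → Group.IsNilpotent H) {r s : ℕ} (hr : r.Prime)
    (hs' : s.Prime) (hrs : r ≠ s) (hd : r ∣ (⁅K, K⁆ : Subgroup X).relIndex K) :
    ∃ S : Subgroup X, IsSyl s S K ∧ K ≤ 𝐍(S) ∧ A ≤ 𝐍(S) := by
  obtain ⟨S, hS, -, hAS⟩ := exists_invariant_isSyl hs' hA hc (Or.inr hs) IsPGroup.of_bot bot_le
    (norm_bot.ge.trans' le_top)
  have hle : ⁅K, K⁆ ⊔ S ≤ K := sup_le (der_le K) hS.le
  refine ⟨S, hS, (le_norm_of_der_le le_sup_left hle).trans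
    ((hS.of_le le_sup_right hle).norm_le_of_isNilpotent hs' (h _ (lt_of_le_of_ne hle fun e => ?_)
      (H1.le_normalizer_sup (hA.trans (norm_le_norm_der K)) hAS))), hAS⟩
  have e2 := relIndex_sup_of_norm (hS.le.trans (der_normal K).2)
  rw [e] at e2
  exact hrs (eq_of_prime_dvd_card_of_isPGroup hs' hr hS.pgrp
    ((e2 ▸ hd).trans (relIndex_dvd_card' _ _)))

theorem invNilp_main {A G : Type*} [Group A] [Group G] [Finite A] [Finite G] (φ : A →* MulAut G)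
    (hcop : (Nat.card A).Coprime (Nat.card G)) (hs : Group.IsSolvable A ∨ Group.IsSolvable G)
    (hmax : ∀ H : Subgroup G, H ≠ ⊤ → (∀ a : A, ∀ x ∈ H, φ a x ∈ H) →
      (∀ K : Subgroup G, H < K → (∀ a : A, ∀ x ∈ K, φ a x ∈ K) → K = ⊤) → Group.IsNilpotent H)
    (hG : ¬ Group.IsNilpotent G) :
    Group.IsSolvable G ∧
      (∃ p q a b : ℕ, p.Prime ∧ q.Prime ∧ p ≠ q ∧ Nat.card G = p ^ a * q ^ b) ∧
      ∃ (p : ℕ) (P : Sylow p G), p.Prime ∧ p ∣ Nat.card G ∧ (P : Subgroup G).Normal ∧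
        (∀ a : A, ∀ x ∈ (P : Subgroup G), φ a x ∈ (P : Subgroup G)) := by
  have h0 : ∀ H : Subgroup G, H ≠ ⊤ → (∀ a : A, ∀ x ∈ H, φ a x ∈ H) → Group.IsNilpotent H := by
    intro H h1 h2
    obtain ⟨M, hHM, hM⟩ := Finite.exists_le_maximal
      (p := fun H : Subgroup G => H ≠ ⊤ ∧ ∀ a : A, ∀ x ∈ H, φ a x ∈ H) ⟨h1, h2⟩
    exact isNilpotent_of_le hHM (hmax M hM.1.1 hM.1.2 fun K hK hK' =>
      by_contra fun e => hK.not_ge (hM.2 ⟨e, hK'⟩ hK.le))
  have h : ∀ H : Subgroup (G ⋊[φ] A), H < H1.sdL φ ⊤ → H1.sdR φ ⊤ ≤ 𝐍(H) →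
      Group.IsNilpotent H := by
    intro H h1 h2
    obtain ⟨H, rfl⟩ := H1.exists_eq_sdL h1.le
    exact (isNilpotent_map_iff SemidirectProduct.inl_injective).2
      (h0 H (fun e => h1.ne (by rw [e])) (H1.sdR_top_le_normalizer_iff.1 h2))
  have hA := H1.sdR_le_normalizer_top (φ := φ) ⊤
  have hc := H1.coprime_sd (φ := φ) hcop
  have hsK : Group.IsSolvable (H1.sdL φ ⊤) := hs.elim
    (fun hs => invNilp_solvable _ _ _ _ rfl hA hc (H1.isSolvable_sdR_top hs) h)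
    H1.isSolvable_sdL_top
  have hK : ¬ Group.IsNilpotent (H1.sdL φ ⊤) := fun e => hG (by
    have := (isNilpotent_map_iff SemidirectProduct.inl_injective).1 e
    exact Group.nilpotent_of_mulEquiv topEquiv)
  obtain ⟨p, q, hp, hq, hpq, hpd, hqd, hπ⟩ := invNilp_two_primes hA hc hsK h hK
  refine ⟨?_, ?_, ?_⟩
  · have := (isSolvable_map_iff SemidirectProduct.inl_injective).1 hsK
    exact L.isSolvable_of_mulEquiv topEquiv
  · obtain ⟨P, hP⟩ := exists_isSyl hp (H1.sdL φ ⊤)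
    obtain ⟨Q, hQ⟩ := exists_isSyl hq (H1.sdL φ ⊤)
    obtain ⟨a, ha⟩ := exists_card_eq_pow hp hP.pgrp
    obtain ⟨b, hb⟩ := exists_card_eq_pow hq hQ.pgrp
    refine ⟨p, q, a, b, hp, hq, hpq, ?_⟩
    rw [← ha, ← hb, hall_card_mul_card ((isSyl_iff_hall hp).1 hP) (hall_congr
      ((isSyl_iff_hall hq).1 hQ) fun r hr hd => ⟨fun e e' => hpq (e'.symm.trans e),
        fun e => (hπ r hr hd).resolve_left e⟩), H1.card_sdL_top]
  · have h1 := H1.commutator_lt_of_isSolvable hsK fun e => hK (by rw [e]; infer_instance)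
    obtain ⟨r, hr, hd⟩ := Nat.exists_prime_and_dvd
      (fun e => h1.not_ge (relIndex_eq_one.1 e))
    obtain ⟨s, hs', hrs, hsd⟩ : ∃ s : ℕ, s.Prime ∧ r ≠ s ∧ s ∣ 𝐨(H1.sdL φ ⊤) := by
      by_cases e : r = p
      · exact ⟨q, hq, e ▸ hpq, hqd⟩
      · exact ⟨p, hp, e, hpd⟩
    obtain ⟨S, hS, a1, a2⟩ := invNilp_normal_sylow hA hc hsK h hr hs' hrs hd
    obtain ⟨S, rfl⟩ := H1.exists_eq_sdL hS.le
    obtain ⟨P, rfl⟩ := ((isSyl_map_iff SemidirectProduct.inl_injective).1 hS).exists_sylow_top hs'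
    exact ⟨s, P, hs', H1.card_sdL_top (φ := φ) ▸ hsd,
      normal_iff_top_le.2 (H1.sdL_le_normalizer_iff.1 a1), H1.sdR_top_le_normalizer_iff.1 a2⟩

end Cfsg.Agent.H8
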