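import Mathlib
import Cfsg.Agent.H8.Frobenius

/-! Maximal subgroups of solvable groups have prime power index. -/

set_option autoImplicit false

namespace Cfsg.Agent.H8

open Cfsg
open scoped Pointwise

variable {G : Type*} [Group G]

/-- A finite group that is not perfect has a proper `p`-residual for some prime `p`. -/
theorem exists_pResidual_ne_top_of_commutator_ne_top [Finite G] (h : commutator G ≠ ⊤) :
    ∃ p : ℕ, p.Prime ∧ pResidual p G ≠ ⊤ := by
  by_contra hc
  push Not at hc
  apply h
  rw [← Subgroup.index_eq_one]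
  by_contra hne
  obtain ⟨p, hp, hd⟩ := Nat.exists_prime_and_dvd hne
  have := Fact.mk hp
  have h1 : pResidual p (Abelianization G) = ⊤ := by
    have hs : Function.Surjective (Abelianization.of : G →* Abelianization G) :=
      QuotientGroup.mk'_surjective _
    rw [← map_pResidual_of_surjective hp hs, hc p hp, Subgroup.map_top_of_surjective _ hs]
  have h2 := hasNPC_iff_not_dvd_pResidual.1 (hasNPC_of_isNilpotent (G := Abelianization G) p)
  rw [h1, Subgroup.card_top] at h2
  exact h2 hd

theorem exists_pResidual_ne_top_of_isSolvable [Finite G] [Nontrivial G] [Group.IsSolvable G] :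
    ∃ p : ℕ, p.Prime ∧ pResidual p G ≠ ⊤ :=
  exists_pResidual_ne_top_of_commutator_ne_top (Group.IsSolvable.commutator_lt_top_of_nontrivial G).ne

theorem pResidualOf_normal (p : ℕ) (N : Subgroup G) [N.Normal] : (pResidualOf p N).Normal := by
  rw [← Subgroup.normalizer_eq_top_iff, eq_top_iff]
  exact le_trans (Subgroup.normalizer_eq_top (H := N)).ge (le_normalizer_pResidualOf p N)

theorem exists_relIndex_pResidualOf [Finite G] {p : ℕ} [Fact p.Prime] (N : Subgroup G) :
    ∃ k : ℕ, (pResidualOf p N).relIndex N = p ^ k := by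
  obtain ⟨k, hk⟩ := exists_index_pResidual (G := N) (p := p)
  refine ⟨k, ?_⟩
  rw [← hk, Subgroup.relIndex, pResidualOf, Subgroup.subgroupOf,
    Subgroup.comap_map_eq_self_of_injective N.subtype_injective]

/-- A maximal subgroup not containing the solvable normal subgroup `N` has prime power index. -/
theorem exists_index_eq_prime_pow_of_isCoatom' [Finite G] {M N : Subgroup G} (hM : IsCoatom M)
    [hN : N.Normal] [hs : Group.IsSolvable N] (hNM : ¬ N ≤ M) :
    ∃ p k : ℕ, p.Prime ∧ M.index = p ^ k := by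
  obtain ⟨K, hK⟩ : ∃ K, Minimal (fun K : Subgroup G => K.Normal ∧ K ≤ N ∧ ¬ K ≤ M) K :=
    Set.Finite.exists_minimal (s := {K : Subgroup G | K.Normal ∧ K ≤ N ∧ ¬ K ≤ M}) (Set.toFinite _)
      ⟨N, hN, le_rfl, hNM⟩
  obtain ⟨h1, h2, h3⟩ := hK.prop
  have := L.isSolvable_of_le h2
  have : Nontrivial K := by
    rw [Subgroup.nontrivial_iff_ne_bot]
    rintro rfl
    exact h3 bot_le
  obtain ⟨p, hp, hne⟩ := exists_pResidual_ne_top_of_isSolvable (G := K)
  have := Fact.mk hp
  have h4 : pResidualOf p K ≤ M := by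
    by_contra hc
    have h5 := hK.le_of_le (y := pResidualOf p K)
      ⟨pResidualOf_normal p K, (pResidualOf_le p K).trans h2, hc⟩ (pResidualOf_le p K)
    apply hne
    rw [eq_top_iff]
    intro x _
    obtain ⟨y, hy, he⟩ := h5 x.2
    rwa [← Subtype.ext he]
  obtain ⟨k, hk⟩ := exists_relIndex_pResidualOf (p := p) K
  have h5 : M.relIndex K ∣ p ^ k := hk ▸ Subgroup.relIndex_dvd_of_le_left K h4
  rw [relIndex_eq_relIndex_sup M K Subgroup.le_normalizer_of_normal,
    hM.2 _ (lt_of_le_of_ne le_sup_left fun he => h3 (he ▸ le_sup_right)),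
    Subgroup.relIndex_top_right] at h5
  obtain ⟨j, -, hj⟩ := (Nat.dvd_prime_pow hp).1 h5
  exact ⟨p, j, hp, hj⟩

/-- A maximal subgroup of a finite solvable group has prime power index. -/
theorem exists_index_eq_prime_pow_of_isCoatom [Finite G] [Group.IsSolvable G] {M : Subgroup G}
    (hM : IsCoatom M) : ∃ p k : ℕ, p.Prime ∧ M.index = p ^ k :=
  exists_index_eq_prime_pow_of_isCoatom' (N := ⊤) hM fun h => hM.1 (top_le_iff.1 h)

/-- A maximal subgroup containing `O^p(G)` is normal. -/
theorem normal_of_isCoatom_of_pResidual_le [Finite G] {p : ℕ} (hp : p.Prime) {M : Subgroup G}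
    (hM : IsCoatom M) (h : pResidual p G ≤ M) : M.Normal := by
  have := Fact.mk hp
  have := (isPGroup_quotient_pResidual (G := G) hp).isNilpotent
  have hs := QuotientGroup.mk'_surjective (pResidual p G)
  have h1 : (M.map (QuotientGroup.mk' (pResidual p G))).comap (QuotientGroup.mk' _) = M := by
    rw [Subgroup.comap_map_eq, QuotientGroup.ker_mk', sup_eq_left.2 h]
  have h2 : M.map (QuotientGroup.mk' (pResidual p G)) < ⊤ := by
    rw [lt_top_iff_ne_top]
    intro he
    rw [he, Subgroup.comap_top] at h1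
    exact hM.1 h1.symm
  have h3 := Group.normalizerCondition_of_isNilpotent _ h2
  rw [← Subgroup.normalizer_eq_top_iff]
  apply hM.2
  rw [← h1, ← Subgroup.comap_normalizer_eq_of_surjective _ hs]
  exact (Subgroup.comap_lt_comap_of_surjective hs).2 h3

end Cfsg.Agent.H8
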