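import Mathlib

/-! Burnside's theorem on permutation groups of prime degree (proof of P. Müller). -/

set_option autoImplicit false

namespace Cfsg.Agent.H8

open Polynomial Finset

theorem exists_sum_pow_ne_zero {K : Type*} [Field K] (U : Finset K) (h0 : (0 : K) ∉ U)
    (hne : U.Nonempty) : ∃ r, 1 ≤ r ∧ r ≤ U.card ∧ ∑ u ∈ U, u ^ r ≠ 0 := by
  by_contra hc
  push Not at hc
  let e := U.equivFin.symm
  have h := Matrix.eq_zero_of_forall_pow_sum_mul_pow_eq_zero (f := fun i => (e i : K))
    (v := fun i => (e i : K)) (Subtype.val_injective.comp e.injective) fun i => by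
      rw [← hc (i + 1) (by omega) (by omega), ← Finset.sum_coe_sort U]
      exact Fintype.sum_equiv e _ _ fun j => by rw [pow_succ']
  obtain ⟨u, hu⟩ := hne
  have := congrFun h (e.symm ⟨u, hu⟩)
  simp only [Equiv.apply_symm_apply, Pi.zero_apply] at this
  exact h0 (this ▸ hu)

theorem affine_of_preserves {p : ℕ} [hp : Fact p.Prime] (U : Finset (ZMod p)) (h0 : 0 ∉ U)
    (hne : U.Nonempty) (hcard : 2 * U.card ≤ p - 1) (π : ZMod p → ZMod p)
    (hπ : Function.Injective π) (h : ∀ i, ∀ u ∈ U, π (i + u) - π i ∈ U) :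
    ∃ a b : ZMod p, ∀ i, π i = a * i + b := by
  classical
  have hsum : ∀ (w : ℕ) i, ∑ u ∈ U, π (i + u) ^ w = ∑ u ∈ U, (π i + u) ^ w := by
    intro w i
    have hinj : Set.InjOn (fun u => π (i + u) - π i) U := fun u _ v _ huv =>
      add_left_cancel (hπ (sub_left_injective huv))
    refine Finset.sum_nbij (fun u => π (i + u) - π i) (h i) hinj
      (Finset.surjOn_of_injOn_of_card_le _ (h i) hinj le_rfl) fun u _ => by simp
  let f : (ZMod p)[X] := Lagrange.interpolate univ id π
  have hf : ∀ i, f.eval i = π i := fun i =>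
    Lagrange.eval_interpolate_at_node π (Set.injOn_id _) (mem_univ i)
  by_cases hn : f.natDegree ≤ 1
  · obtain ⟨a, b, hab⟩ := exists_eq_X_add_C_of_natDegree_le_one hn
    exact ⟨a, b, fun i => by rw [← hf, hab]; simp⟩
  exfalso
  have hf0 : f ≠ 0 := by rintro h; rw [h] at hn; simp at hn
  have hnp : f.natDegree < p := by
    have := Lagrange.degree_interpolate_lt (s := univ) (v := id) π (Set.injOn_id _)
    rw [card_univ, ZMod.card] at this
    exact (natDegree_lt_iff_degree_lt hf0).2 this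
  set n := f.natDegree with hndef
  have hex := exists_sum_pow_ne_zero U h0 hne
  set r := Nat.find hex with hr
  obtain ⟨hr1, hr2, hr3⟩ : 1 ≤ r ∧ r ≤ U.card ∧ ∑ u ∈ U, u ^ r ≠ 0 := Nat.find_spec hex
  have hr4 : ∀ j, 1 ≤ j → j < r → ∑ u ∈ U, u ^ j = 0 := fun j h1 h2 => by
    by_contra hc
    exact Nat.find_min hex h2 ⟨h1, by omega, hc⟩
  set w := (p - 1) / n with hw
  have hw1 : n * w ≤ p - 1 := Nat.mul_div_le _ _
  have hw2 : p - 1 < n * w + n := by
    have := Nat.lt_mul_div_succ (p - 1) (show 0 < n by omega)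
    rwa [mul_add, mul_one] at this
  have hw3 : 1 ≤ w := (Nat.one_le_div_iff (by omega)).2 (by omega)
  have hw4 : n ≤ n * w := Nat.le_mul_of_pos_right _ hw3
  have hrN : r < n * w := by omega
  have hF : (f ^ w).natDegree = n * w := by rw [natDegree_pow, mul_comm]
  have hp1 := hp.out.two_le
  have hid : ∑ u ∈ U, taylor u (f ^ w) = ∑ u ∈ U, (f + C u) ^ w := by
    apply eq_of_natDegree_lt_card_of_eval_eq _ _ (f := id) Function.injective_id
    · intro i
      simp only [id, eval_finsetSum, taylor_eval, eval_pow, eval_add, eval_C, hf, hsum]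
    · rw [ZMod.card, max_lt_iff]
      constructor
      · refine lt_of_le_of_lt (natDegree_sum_le_of_forall_le _ _ (n := n * w) fun u _ => ?_)
          (by omega)
        rw [natDegree_taylor, hF]
      · refine lt_of_le_of_lt (natDegree_sum_le_of_forall_le _ _ (n := n * w) fun u _ => ?_)
          (by omega)
        rw [natDegree_pow, natDegree_add_C, mul_comm]
  set m := n * w - r with hm
  have h1 : (∑ u ∈ U, taylor u (f ^ w)).coeff m = U.card * (f ^ w).coeff m +
      (n * w).choose m * (f ^ w).leadingCoeff * ∑ u ∈ U, u ^ r := by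
    have e1 : ∀ u, (taylor u (f ^ w)).coeff m =
        ∑ j ∈ range (r + 1), (hasseDeriv m (f ^ w)).coeff j * u ^ j := fun u => by
      rw [taylor_coeff, eval_eq_sum_range' (n := r + 1)]
      have := natDegree_hasseDeriv_le (f ^ w) m
      omega
    rw [finsetSum_coeff, Finset.sum_congr rfl fun u _ => e1 u, Finset.sum_comm,
      Finset.sum_range_succ, Finset.sum_eq_single_of_mem 0 (mem_range.2 (by omega))]
    · simp only [hasseDeriv_coeff, ← Finset.mul_sum, leadingCoeff, hF]
      rw [show r + m = n * w by omega]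
      simp [mul_comm]
    · intro j hj hj0
      rw [← Finset.mul_sum, hr4 j (by omega) (mem_range.1 hj), mul_zero]
  have h2 : (∑ u ∈ U, (f + C u) ^ w).coeff m = U.card * (f ^ w).coeff m := by
    have e1 : ∀ u, ((f + C u) ^ w).coeff m =
        ∑ k ∈ range (w + 1), (f ^ k).coeff m * (w.choose k) * u ^ (w - k) := fun u => by
      rw [add_pow, finsetSum_coeff]
      refine Finset.sum_congr rfl fun k _ => ?_
      rw [← C_pow, coeff_mul_natCast, coeff_mul_C]; ring
    rw [finsetSum_coeff, Finset.sum_congr rfl fun u _ => e1 u, Finset.sum_comm,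
      Finset.sum_range_succ, Finset.sum_eq_zero]
    · simp [mul_comm]
    · intro k hk
      rw [← Finset.mul_sum]
      rw [mem_range] at hk
      by_cases hk2 : w - k < r
      · rw [hr4 _ (by omega) hk2, mul_zero]
      · rw [coeff_eq_zero_of_natDegree_lt, zero_mul, zero_mul]
        rw [natDegree_pow, ← hndef]
        have e2 : k + r ≤ w := by omega
        have e3 : n * (k + r) ≤ n * w := Nat.mul_le_mul_left _ e2
        have e4 : 2 * r ≤ n * r := Nat.mul_le_mul_right _ (by omega)
        rw [mul_add] at e3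
        rw [mul_comm]
        omega
  rw [hid, h2, left_eq_add] at h1
  refine mul_ne_zero (mul_ne_zero ?_ (leadingCoeff_ne_zero.2 (pow_ne_zero _ hf0))) hr3 h1
  rw [Ne, ZMod.natCast_eq_zero_iff]
  intro hd
  have h3 : p ∣ (n * w).factorial := by
    rw [← Nat.choose_mul_factorial_mul_factorial (show m ≤ n * w by omega), mul_assoc]
    exact hd.mul_right _
  have := hp.out.dvd_factorial.1 h3
  omega

/-- A group of permutations of `ZMod p` containing the translations is doubly transitive or
consists of affine maps. -/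
theorem two_trans_or_affine {p : ℕ} [hp : Fact p.Prime] {G : Type*} [Group G]
    [MulAction G (ZMod p)] (t : G) (ht : ∀ x : ZMod p, t • x = x + 1) :
    MulAction.IsMultiplyPretransitive G (ZMod p) 2 ∨
      ∀ g : G, ∃ a b : ZMod p, ∀ x, g • x = a * x + b := by
  classical
  have ht' : ∀ c : ZMod p, ∃ s : G, ∀ x : ZMod p, s • x = x + c := by
    intro c
    refine ⟨t ^ c.val, ?_⟩
    have : ∀ (i : ℕ) (x : ZMod p), t ^ i • x = x + i := by
      intro i
      induction i with
      | zero => simp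
      | succ i ih => intro x; rw [pow_succ', mul_smul, ih, ht]; push_cast; ring
    intro x
    rw [this, ZMod.natCast_zmod_val]
  have key : ∀ U : Finset (ZMod p), 0 ∉ U → U.Nonempty → 2 * U.card ≤ p - 1 →
      (∀ g : G, g • (0 : ZMod p) = 0 → ∀ u ∈ U, g • u ∈ U) →
      ∀ g : G, ∃ a b : ZMod p, ∀ x, g • x = a * x + b := by
    intro U h0 h1 h2 h3 g
    refine affine_of_preserves U h0 h1 h2 _ (MulAction.injective g) fun i u hu => ?_
    obtain ⟨s, hs⟩ := ht' i
    obtain ⟨s', hs'⟩ := ht' (-(g • i))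
    have := h3 (s' * g * s) (by simp [mul_smul, hs, hs']) u hu
    rwa [mul_smul, mul_smul, hs, hs', add_comm u, ← sub_eq_add_neg] at this
  by_cases h : ∀ u : ZMod p, u ≠ 0 → ∃ g : G, g • (0 : ZMod p) = 0 ∧ g • (1 : ZMod p) = u
  · left
    have h1 : ∀ a b : ZMod p, a ≠ b → ∃ g : G, g • (0 : ZMod p) = a ∧ g • (1 : ZMod p) = b := by
      intro a b hab
      obtain ⟨g, hg1, hg2⟩ := h (b - a) (sub_ne_zero.2 hab.symm)
      obtain ⟨s, hs⟩ := ht' a
      exact ⟨s * g, by simp [mul_smul, hs, hg1], by simp [mul_smul, hs, hg2]⟩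
    rw [MulAction.is_two_pretransitive_iff]
    intro a b c d hab hcd
    obtain ⟨g, rfl, rfl⟩ := h1 a b hab
    obtain ⟨g', rfl, rfl⟩ := h1 c d hcd
    exact ⟨g' * g⁻¹, by simp [mul_smul], by simp [mul_smul]⟩
  right
  push Not at h
  obtain ⟨u₀, hu₀, hu₁⟩ := h
  let P : ZMod p → Prop := fun u => ∃ g : G, g • (0 : ZMod p) = 0 ∧ g • (1 : ZMod p) = u
  have hc := Finset.card_filter_add_card_filter_not (s := (univ : Finset (ZMod p)).erase 0) P
  rw [card_erase_of_mem (mem_univ _), card_univ, ZMod.card] at hc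
  have hnz : ∀ g : G, g • (0 : ZMod p) = 0 → ∀ u : ZMod p, u ≠ 0 → g • u ≠ 0 := fun g hg u hu h =>
    hu (MulAction.injective g (h.trans hg.symm))
  by_cases hle : 2 * ((univ.erase 0).filter P).card ≤ p - 1
  · refine key _ (by simp) ⟨1, by simpa using ⟨1, by simp, by simp⟩⟩ hle fun g hg u hu => ?_
    simp only [mem_filter, mem_erase, mem_univ, and_true] at hu ⊢
    obtain ⟨h1, k, hk1, rfl⟩ := hu
    exact ⟨hnz g hg _ h1, g * k, by rw [mul_smul, hk1, hg], mul_smul _ _ _⟩
  · refine key ((univ.erase 0).filter fun u => ¬ P u) (by simp)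
      ⟨u₀, by simpa [P] using ⟨hu₀, hu₁⟩⟩ (by omega) fun g hg u hu => ?_
    simp only [mem_filter, mem_erase, mem_univ, and_true] at hu ⊢
    refine ⟨hnz g hg _ hu.1, ?_⟩
    rintro ⟨k, hk1, hk2⟩
    exact hu.2 ⟨g⁻¹ * k, by rw [mul_smul, hk1, inv_smul_eq_iff, hg], by
      rw [mul_smul, hk2, inv_smul_smul]⟩

/-- An element of order `p` acting nontrivially on `p` points acts as a `p`-cycle. -/
theorem exists_pow_smul_eq_of_prime {p : ℕ} [hp : Fact p.Prime] {G Ω : Type*} [Group G]
    [MulAction G Ω] [Finite Ω] (hΩ : Nat.card Ω = p) {t : G} (ht : orderOf t = p)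
    (hne : ∃ x : Ω, t • x ≠ x) (x y : Ω) : ∃ i : ℕ, t ^ i • x = y := by
  obtain ⟨z, hz⟩ := hne
  have h1 : (MulAction.orbit (Subgroup.zpowers t) z).ncard ∣ p := by
    rw [← MulAction.index_stabilizer, ← ht, ← Nat.card_zpowers]
    exact Subgroup.index_dvd_card _
  have h2 : MulAction.orbit (Subgroup.zpowers t) z = Set.univ := by
    rcases (Nat.dvd_prime hp.out).1 h1 with h | h
    · obtain ⟨a, ha⟩ := Set.ncard_eq_one.1 h
      have e1 : z ∈ ({a} : Set Ω) := ha ▸ MulAction.mem_orbit_self z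
      have e2 : t • z ∈ ({a} : Set Ω) := ha ▸ ⟨⟨t, Subgroup.mem_zpowers t⟩, rfl⟩
      exact absurd (e2.trans e1.symm) hz
    · exact Set.eq_of_subset_of_ncard_le (Set.subset_univ _) (by rw [h, Set.ncard_univ, hΩ])
  obtain ⟨a, rfl⟩ : x ∈ MulAction.orbit (Subgroup.zpowers t) z := h2 ▸ Set.mem_univ _
  obtain ⟨b, rfl⟩ : y ∈ MulAction.orbit (Subgroup.zpowers t) z := h2 ▸ Set.mem_univ _
  have hfin : IsOfFinOrder t := orderOf_pos_iff.1 (ht ▸ hp.out.pos)
  obtain ⟨i, hi⟩ := (hfin.mem_powers_iff_mem_zpowers).2 (b * a⁻¹).2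
  refine ⟨i, ?_⟩
  simp only at hi ⊢
  rw [hi]
  change (b * a⁻¹) • a • z = b • z
  rw [mul_smul, inv_smul_smul]

/-- **Burnside**: a faithful action on `p` points of a group with an element of order `p` is doubly
transitive, or the group is metabelian. -/
theorem two_trans_or_derivedSeries {p : ℕ} [hp : Fact p.Prime] {G Ω : Type*} [Group G]
    [MulAction G Ω] [FaithfulSMul G Ω] [Finite Ω] (hΩ : Nat.card Ω = p) {t : G}
    (ht : orderOf t = p) :
    MulAction.IsMultiplyPretransitive G Ω 2 ∨ derivedSeries G 2 = ⊥ := by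
  have hne : ∃ x : Ω, t • x ≠ x := by
    by_contra hc
    push Not at hc
    have : t = 1 := FaithfulSMul.eq_of_smul_eq_smul (α := Ω) fun x => by rw [hc, one_smul]
    rw [this, orderOf_one] at ht
    exact hp.out.ne_one ht.symm
  obtain ⟨o, -⟩ := id hne
  have hmod : ∀ i : ℕ, t ^ (i : ZMod p).val = t ^ i := fun i => by
    rw [ZMod.val_natCast, ← ht, pow_mod_orderOf]
  let f : ZMod p → Ω := fun i => t ^ i.val • o
  have hf : Function.Surjective f := fun y => by
    obtain ⟨i, hi⟩ := exists_pow_smul_eq_of_prime hΩ ht hne o y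
    exact ⟨i, by simp only [f, hmod, hi]⟩
  let e : ZMod p ≃ Ω := Equiv.ofBijective f
    ((Nat.bijective_iff_surjective_and_card f).2 ⟨hf, by rw [hΩ, Nat.card_zmod]⟩)
  let _ : MulAction G (ZMod p) := e.mulAction G
  have he : ∀ (g : G) (x : ZMod p), e (g • x) = g • e x := fun g x => e.apply_symm_apply _
  rcases two_trans_or_affine t (fun x : ZMod p => e.injective (by
      rw [he]
      change t • t ^ x.val • o = t ^ (x + 1).val • o
      rw [← mul_smul, ← pow_succ', ← hmod]
      simp)) with h | h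
  · left
    rw [MulAction.is_two_pretransitive_iff] at h ⊢
    intro a b c d hab hcd
    obtain ⟨g, h1, h2⟩ := h (e.symm.injective.ne hab) (e.symm.injective.ne hcd)
    refine ⟨g, ?_, ?_⟩
    · rw [← e.apply_symm_apply a, ← he, h1, e.apply_symm_apply]
    · rw [← e.apply_symm_apply b, ← he, h2, e.apply_symm_apply]
  · right
    let T : Subgroup G :=
      { carrier := {g | ∃ c : ZMod p, ∀ x : ZMod p, g • x = x + c}
        one_mem' := ⟨0, by simp⟩
        mul_mem' := by
          rintro a b ⟨c, hc⟩ ⟨d, hd⟩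
          exact ⟨d + c, fun x => by rw [mul_smul, hd, hc, add_assoc]⟩
        inv_mem' := by
          rintro a ⟨c, hc⟩
          exact ⟨-c, fun x => by rw [inv_smul_eq_iff, hc]; ring⟩ }
    have h1 : derivedSeries G 1 ≤ T := by
      rw [derivedSeries_succ, Subgroup.commutator_le]
      intro g _ k _
      obtain ⟨a, b, hg⟩ := h g
      obtain ⟨c, d, hk⟩ := h k
      refine ⟨a * d + b - c * b - d, fun x => ?_⟩
      obtain ⟨y, rfl⟩ := MulAction.surjective (k * g) x
      simp only [commutatorElement_def, mul_smul, inv_smul_smul]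
      simp only [hg, hk]
      ring
    rw [derivedSeries_succ, eq_bot_iff, Subgroup.commutator_le]
    intro g hg k hk
    obtain ⟨c, hc⟩ := h1 hg
    obtain ⟨d, hd⟩ := h1 hk
    rw [Subgroup.mem_bot, commutatorElement_eq_one_iff_mul_comm]
    refine FaithfulSMul.eq_of_smul_eq_smul (α := Ω) fun x => ?_
    obtain ⟨x, rfl⟩ := e.surjective x
    rw [← he, ← he, mul_smul, mul_smul, hc, hd, hd, hc, add_right_comm]

end Cfsg.Agent.H8
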