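import Mathlib
import Cfsg.Agent.H9.FixCount
import Cfsg.Agent.H9.ClassSize
import Cfsg.Agent.H8.Alperin

/-! Counting elements in groups with Sylow subgroups of prime order. -/

set_option autoImplicit false

namespace Cfsg.Agent.H8

open Subgroup
open scoped Pointwise

theorem sum_ncard_eq_of_disjoint {ι α : Type*} [Finite α] (s : Finset ι) (Y : ι → Set α)
    (h : ∀ a ∈ s, ∀ b ∈ s, a ≠ b → Disjoint (Y a) (Y b)) :
    ∑ a ∈ s, (Y a).ncard = (⋃ a ∈ s, Y a).ncard := by
  classical
  induction s using Finset.induction_on with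
  | empty => simp
  | insert a s ha ih =>
    rw [Finset.sum_insert ha, Finset.set_biUnion_insert, Set.ncard_union_eq,
      ih fun b hb c hc => h b (Finset.mem_insert_of_mem hb) c (Finset.mem_insert_of_mem hc)]
    simp only [Set.disjoint_iUnion_right]
    intro b hb
    exact h a (Finset.mem_insert_self _ _) b (Finset.mem_insert_of_mem hb)
      (by rintro rfl; exact ha hb)

theorem sum_ncard_le_of_disjoint {ι α : Type*} [Finite α] (s : Finset ι) (Y : ι → Set α)
    (h : ∀ a ∈ s, ∀ b ∈ s, a ≠ b → Disjoint (Y a) (Y b)) {Z : Set α} (hZ : ∀ a ∈ s, Y a ⊆ Z) :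
    ∑ a ∈ s, (Y a).ncard ≤ Z.ncard := by
  rw [sum_ncard_eq_of_disjoint s Y h]
  exact Set.ncard_le_ncard (Set.iUnion₂_subset hZ)

variable {G : Type*} [Group G] [Finite G] {r : ℕ} [hr : Fact r.Prime]

theorem card_centralizer_sylow_eq (R R' : Sylow r G) :
    Nat.card (centralizer ((R : Subgroup G) : Set G)) =
      Nat.card (centralizer ((R' : Subgroup G) : Set G)) := by
  obtain ⟨g, rfl⟩ := MulAction.exists_smul_eq G R R'
  rw [Sylow.coe_subgroup_smul, centralizer_conj_smul, card_conj_smul]

theorem sylow_eq_of_mem {R R' : Sylow r G} (hR : Nat.card R = r) {y : G} (hy : y ≠ 1)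
    (h : y ∈ (R : Subgroup G)) (h' : y ∈ (R' : Subgroup G)) : R' = R := by
  rw [← Set.mem_singleton_iff, ← H9.fixedBy_sylow_eq_singleton R hR h hy, MulAction.mem_fixedBy,
    Sylow.smul_eq_iff_mem_normalizer]
  exact le_normalizer h'

theorem exists_sylow_eq_zpowers (R : Sylow r G) (hR : Nat.card R = r) {y : G}
    (hy : orderOf y = r) : ∃ R' : Sylow r G, (R' : Subgroup G) = zpowers y := by
  obtain ⟨R', hR'⟩ := (isPGroup_zpowers_of_orderOf (k := 1) (by rw [hy, pow_one])).exists_le_sylow
  refine ⟨R', (eq_of_le_of_card_ge hR' ?_).symm⟩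
  rw [Nat.card_zpowers, hy]
  exact (((R'.card_eq_multiplicity.trans R.card_eq_multiplicity.symm)).trans hR).le

/-- If an element has order divisible by `r` and `s` then `s` divides the order of the centralizer
of a Sylow `r`-subgroup. -/
theorem dvd_card_centralizer_of_commute (R : Sylow r G) (hR : Nat.card R = r) {y z : G}
    (hy : orderOf y = r) (hc : Commute y z) :
    orderOf z ∣ Nat.card (centralizer ((R : Subgroup G) : Set G)) := by
  obtain ⟨R', hR'⟩ := exists_sylow_eq_zpowers R hR hy
  rw [card_centralizer_sylow_eq R R', hR']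
  apply Subgroup.orderOf_dvd_natCard
  rintro _ ⟨n, rfl⟩
  exact hc.zpow_left n

theorem mul_le_ncard_orderOf_eq (R : Sylow r G) (hR : Nat.card R = r) :
    Nat.card (Sylow r G) * (r - 1) ≤ {x : G | orderOf x = r}.ncard := by
  have := Fintype.ofFinite (Sylow r G)
  have hc : ∀ R' : Sylow r G, Nat.card R' = r := fun R' =>
    (R'.card_eq_multiplicity.trans R.card_eq_multiplicity.symm).trans hR
  have h := sum_ncard_le_of_disjoint Finset.univ
    (fun R' : Sylow r G => ((R' : Subgroup G) : Set G) \ {1}) (Z := {x : G | orderOf x = r})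
    (fun A _ B _ hAB => Set.disjoint_left.2 fun x hA hB =>
      hAB (sylow_eq_of_mem (hc B) hA.2 hB.1 hA.1))
    (fun A _ x hx => by
      have h1 := Subgroup.orderOf_dvd_natCard (A : Subgroup G) hx.1
      rw [show Nat.card (A : Subgroup G) = r from hc A] at h1
      exact ((Nat.dvd_prime hr.out).1 h1).resolve_left fun h => hx.2 (orderOf_eq_one_iff.1 h))
  rw [Finset.sum_congr rfl (g := fun _ => r - 1) fun A _ => by
    rw [Set.ncard_sdiff_singleton_of_mem (one_mem _), ← Nat.card_coe_set_eq]
    exact congrArg (· - 1) (hc A)] at h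
  simpa using h

theorem mul_le_ncard_dvd_orderOf (R : Sylow r G) (hR : Nat.card R = r) :
    Nat.card (Sylow r G) * (Nat.card (centralizer ((R : Subgroup G) : Set G)) -
      Nat.card (centralizer ((R : Subgroup G) : Set G)) / r) ≤ {x : G | r ∣ orderOf x}.ncard := by
  have := Fintype.ofFinite (Sylow r G)
  have hc : ∀ R' : Sylow r G, Nat.card R' = r := fun R' =>
    (R'.card_eq_multiplicity.trans R.card_eq_multiplicity.symm).trans hR
  have h := sum_ncard_le_of_disjoint Finset.univ
    (fun R' : Sylow r G => {x | x ∈ centralizer ((R' : Subgroup G) : Set G) ∧ r ∣ orderOf x})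
    (Z := {x : G | r ∣ orderOf x})
    (fun A _ B _ hAB => Set.disjoint_left.2 fun x hA hB => by
      have h1 : orderOf (x ^ (orderOf x / r)) = r ^ 1 := by
        rw [pow_one]; exact orderOf_pow_orderOf_div (orderOf_pos x).ne' hA.2
      have h2 : x ^ (orderOf x / r) ≠ 1 := by
        intro h
        rw [h, orderOf_one, pow_one] at h1
        exact hr.out.ne_one h1.symm
      exact hAB (sylow_eq_of_mem (hc B) h2
        (H9.mem_sylow_of_mem_normalizer B h1 (centralizer_le_normalizer _ (pow_mem hB.1 _)))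
        (H9.mem_sylow_of_mem_normalizer A h1 (centralizer_le_normalizer _ (pow_mem hA.1 _)))))
    (fun A _ x hx => hx.2)
  refine le_trans ?_ h
  rw [Nat.card_eq_fintype_card, ← Finset.card_univ, ← smul_eq_mul]
  refine Finset.card_nsmul_le_sum _ _ _ fun A _ => ?_
  rw [card_centralizer_sylow_eq R A]
  set C := centralizer ((A : Subgroup G) : Set G)
  have hAC : (A : Subgroup G) ≤ C := by
    have : IsCyclic (A : Subgroup G) := isCyclic_of_prime_card (hc A)
    exact le_centralizer _
  have h1 : {x | x ∈ C ∧ ¬ r ∣ orderOf x}.ncard * r ≤ Nat.card C := by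
    rw [← Nat.card_coe_set_eq]
    nth_rewrite 2 [← hc A]
    rw [← Nat.card_prod]
    refine Nat.card_le_card_of_injective
      (fun z : {x | x ∈ C ∧ ¬ r ∣ orderOf x} × A => (⟨z.1 * z.2, mul_mem z.1.2.1 (hAC z.2.2)⟩ : C)) ?_
    rintro ⟨⟨x, hx, hx'⟩, u, hu⟩ ⟨⟨y, hy, hy'⟩, v, hv⟩ he
    simp only [Subtype.mk.injEq] at he
    have hp : ∀ w ∈ (A : Subgroup G), w ^ r = 1 := fun w hw => by
      rw [← orderOf_dvd_iff_pow_eq_one, ← hc A]
      exact Subgroup.orderOf_dvd_natCard (A : Subgroup G) hw
    have e1 : x ^ r = y ^ r := by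
      have : (x * u) ^ r = (y * v) ^ r := by rw [he]
      rwa [Commute.mul_pow (hx u hu).symm, Commute.mul_pow (hy v hv).symm, hp u hu, hp v hv,
        mul_one, mul_one] at this
    have c1 := (hr.out.coprime_iff_not_dvd.2 hx')
    have c2 := (hr.out.coprime_iff_not_dvd.2 hy')
    have e2 : orderOf x = orderOf y := by
      rw [← c1.symm.orderOf_pow, e1, c2.symm.orderOf_pow]
    obtain ⟨m, hm⟩ := exists_pow_eq_self_of_coprime c1
    have e3 : x = y := by
      have e4 := hm
      rw [← pow_mul, ← pow_one x, ← pow_mul, one_mul, pow_eq_pow_iff_modEq, e2,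
        ← pow_eq_pow_iff_modEq, pow_one, pow_mul, ← e1, hm] at e4
      exact e4
    subst e3
    obtain rfl := mul_left_cancel he
    rfl
  have h2 := (Nat.le_div_iff_mul_le hr.out.pos).2 h1
  have h3 : {x | x ∈ C ∧ r ∣ orderOf x}.ncard + {x | x ∈ C ∧ ¬ r ∣ orderOf x}.ncard =
      Nat.card C := by
    rw [← Set.ncard_union_eq (Set.disjoint_left.2 fun x h1 h2 => h2.2 h1.2)]
    change _ = (C : Set G).ncard
    congr 1
    ext x
    by_cases h : r ∣ orderOf x <;> simp [h]
  omega

end Cfsg.Agent.H8
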