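import Mathlib
import Cfsg.Prelude.Def_HallClasses
import Cfsg.Agent.H8.Frobenius
import Cfsg.Agent.H1.Basic

/-! Basic facts on pronormal subgroups. -/

set_option autoImplicit false

namespace Cfsg.Agent.H8

open Cfsg Subgroup
open scoped Pointwise

variable {G : Type*} [Group G]

/-- `H` and `g H g⁻¹` are conjugate in the subgroup they generate. -/
def PnAt (H : Subgroup G) (g : G) : Prop :=
  ∃ x ∈ H ⊔ MulAut.conj g • H, MulAut.conj g • H = MulAut.conj x • H

theorem isPronormal_iff {H : Subgroup G} : IsPronormal H ↔ ∀ g, PnAt H g := Iff.rfl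

theorem PnAt.of_inv_mul {H : Subgroup G} {g x : G} (hx : x ∈ H ⊔ MulAut.conj g • H)
    (h : PnAt H (x⁻¹ * g)) : PnAt H g := by
  obtain ⟨y, hy, he⟩ := h
  have h1 : H ⊔ MulAut.conj (x⁻¹ * g) • H ≤ H ⊔ MulAut.conj g • H := by
    refine sup_le le_sup_left ?_
    rw [← conj_smul_conj_smul, conj_smul_le_iff]
    intro z hz
    exact mul_mem (mul_mem (inv_mem hx) (mem_sup_right hz)) (inv_mem (inv_mem hx))
  refine ⟨x * y, mul_mem hx (h1 hy), ?_⟩
  rw [← conj_smul_conj_smul, ← he, conj_smul_conj_smul, mul_inv_cancel_left]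

theorem PnAt.mul_normalizer {H : Subgroup G} {g n : G} (hn : n ∈ normalizer (H : Set G))
    (h : PnAt H g) : PnAt H (g * n) := by
  have : MulAut.conj (g * n) • H = MulAut.conj g • H := by
    rw [← conj_smul_conj_smul, mem_normalizer_iff_conj_smul_eq.1 hn]
  unfold PnAt
  rw [this]
  exact h

theorem map_conj_smul {G' : Type*} [Group G'] (f : G →* G') (H : Subgroup G) (g : G) :
    (MulAut.conj g • H).map f = MulAut.conj (f g) • H.map f := by
  rw [conj_smul_eq_map, conj_smul_eq_map, map_map, map_map]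
  congr 1
  ext x
  simp

theorem PnAt.map {G' : Type*} [Group G'] (f : G →* G') {H : Subgroup G} {g : G} (h : PnAt H g) :
    PnAt (H.map f) (f g) := by
  obtain ⟨x, hx, he⟩ := h
  refine ⟨f x, ?_, ?_⟩
  · rw [← map_conj_smul, ← Subgroup.map_sup]
    exact mem_map_of_mem f hx
  · rw [← map_conj_smul, ← map_conj_smul, he]

theorem PnAt.exists_of_map {G' : Type*} [Group G'] (f : G →* G') {H : Subgroup G} {g : G}
    (h : PnAt (H.map f) (f g)) : ∃ x ∈ H ⊔ MulAut.conj g • H,
      (MulAut.conj g • H).map f = (MulAut.conj x • H).map f := by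
  obtain ⟨y, hy, he⟩ := h
  rw [← map_conj_smul, ← Subgroup.map_sup] at hy
  obtain ⟨x, hx, rfl⟩ := hy
  exact ⟨x, hx, by rw [map_conj_smul, map_conj_smul, he]⟩

theorem le_conj_smul_of_normal {N H : Subgroup G} [hN : N.Normal] (h : N ≤ H) (g : G) :
    N ≤ MulAut.conj g • H := fun x hx =>
  mem_conj_smul_iff.2 (h (by simpa using hN.conj_mem x hx g⁻¹))

theorem PnAt.of_map {G' : Type*} [Group G'] (f : G →* G') {H : Subgroup G} {g : G}
    (hk : f.ker ≤ H) (h : PnAt (H.map f) (f g)) : PnAt H g := by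
  obtain ⟨x, hx, he⟩ := h.exists_of_map f
  refine ⟨x, hx, ?_⟩
  rw [← comap_map_eq_self (le_conj_smul_of_normal hk g), he,
    comap_map_eq_self (le_conj_smul_of_normal hk x)]

theorem pnAt_subgroupOf_iff {K L : Subgroup G} (h : K ≤ L) {g : L} :
    PnAt (K.subgroupOf L) g ↔ PnAt K (g : G) := by
  constructor
  · intro h1
    have := h1.map L.subtype
    rwa [subgroupOf_map_subtype, inf_eq_left.2 h] at this
  · intro h1
    apply PnAt.of_map L.subtype (by simp)
    rwa [subgroupOf_map_subtype, inf_eq_left.2 h]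

theorem isPronormal_of_conj {H : Subgroup G} (t : G) (h : IsPronormal (MulAut.conj t • H)) :
    IsPronormal H := fun g =>
  PnAt.of_map (MulAut.conj t).toMonoidHom
    (by rw [(MonoidHom.ker_eq_bot_iff _).2 (MulAut.conj t).injective]; exact bot_le) (h _)

theorem exists_sylow_le_iff [Finite G] {p : ℕ} [Fact p.Prime] {K : Subgroup G} :
    (∃ P : Sylow p G, (P : Subgroup G) ≤ K) ↔ ¬ p ∣ K.index := by
  constructor
  · rintro ⟨P, hP⟩ hd
    exact P.not_dvd_index (hd.trans (index_dvd_of_le hP))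
  · intro h
    obtain ⟨Q⟩ : Nonempty (Sylow p K) := inferInstance
    have h1 : ¬ p ∣ ((Q : Subgroup K).map K.subtype).index := by
      rw [index_map_subtype]
      exact fun hd => ((Fact.out : p.Prime).dvd_mul.1 hd).elim Q.not_dvd_index h
    exact ⟨(Q.isPGroup'.map K.subtype).toSylow h1, map_subtype_le _⟩

/-- If the Sylow `p`-subgroups are self-normalizing then their overgroups are pronormal. -/
theorem isPronormal_of_selfNormalizing [Finite G] {p : ℕ} [Fact p.Prime] (P : Sylow p G)
    (hP : normalizer ((P : Subgroup G) : Set G) = P) {K : Subgroup G} (hK : (P : Subgroup G) ≤ K) :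
    IsPronormal K := by
  intro g
  have h1 : (P : Subgroup G) ≤ K ⊔ MulAut.conj g • K := hK.trans le_sup_left
  obtain ⟨x, hx, he⟩ := exists_conj_le_of_not_dvd_relIndex (K := K ⊔ MulAut.conj g • K)
    P.isPGroup' (isPGroup_conj_smul P.isPGroup' g)
    ((pointwise_smul_le_pointwise_smul_iff.2 hK).trans le_sup_right)
    (fun hd => P.not_dvd_index (hd.trans (relIndex_dvd_index_of_le h1)))
  rw [conj_smul_conj_smul] at he
  have h2 : x * g ∈ K := by
    apply hK
    rw [← hP, mem_normalizer_iff_conj_smul_eq]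
    exact eq_of_le_of_card_ge he (card_conj_smul _ _).ge
  refine PnAt.of_inv_mul (inv_mem hx) ⟨1, one_mem _, ?_⟩
  rw [inv_inv, conj_one_smul]
  exact mem_normalizer_iff_conj_smul_eq.1 (le_normalizer h2)

/-- If a Sylow `p`-subgroup is self-normalizing then so are its overgroups. -/
theorem normalizer_eq_of_selfNormalizing [Finite G] {p : ℕ} [Fact p.Prime] (P : Sylow p G)
    (hP : normalizer ((P : Subgroup G) : Set G) = P) {K : Subgroup G} (hK : (P : Subgroup G) ≤ K) :
    normalizer (K : Set G) = K := by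
  refine le_antisymm (fun g hg => ?_) le_normalizer
  obtain ⟨k, hk, he⟩ := H1.frattini_argument hK P.isPGroup'
    (fun hd => P.not_dvd_index (hd.trans (relIndex_dvd_index_of_le hK))) hg
  rw [hP] at he
  simpa using mul_mem (inv_mem hk) (hK he)

end Cfsg.Agent.H8
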