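import Mathlib

/-! Coordinates of a `ℚ`-algebra with respect to a pair of anticommuting square roots of `-1`. -/

set_option autoImplicit false

namespace Cfsg.Agent.H8

variable {R : Type*} [Ring R] [Algebra ℚ R]

set_option linter.unusedSectionVars false in
theorem lit_eq (n : ℕ) [n.AtLeastTwo] : (ofNat(n) : R) = (OfNat.ofNat n : ℕ) • (1 : R) := by
  simp only [nsmul_eq_mul, Nat.cast_ofNat, mul_one]

theorem eq_zero_of_nsmul (n : ℕ) (hn : n ≠ 0) {x : R} (h : n • x = 0) : x = 0 := by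
  rw [← Nat.cast_smul_eq_nsmul ℚ] at h
  exact (smul_eq_zero.1 h).resolve_left (by exact_mod_cast hn)

theorem eq_of_nsmul (n : ℕ) (hn : n ≠ 0) {x y : R} (h : n • x = n • y) : x = y :=
  sub_eq_zero.1 (eq_zero_of_nsmul n hn (by rw [smul_sub, h, sub_self]))

theorem false_of_nsmul_one [Nontrivial R] (n : ℕ) (hn : n ≠ 0) (h : n • (1 : R) = 0) : False :=
  one_ne_zero (eq_zero_of_nsmul n hn h)

/-- A pair of anticommuting square roots of `-1`. -/
structure QPair (I J : R) : Prop where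
  II : I * I = -1
  JJ : J * J = -1
  JI : J * I = -(I * J)

/-- The centralizer of the pair. -/
abbrev QE (I J : R) : Subalgebra ℚ R := Subalgebra.centralizer ℚ {I, J}

/-- The element with the given coordinates. -/
def qmk {I J : R} (e0 e1 e2 e3 : QE I J) : R :=
  (e0 : R) + (e1 : R) * I + (e2 : R) * J + (e3 : R) * (I * J)

variable {I J : R}

theorem QE.I_mul (e : QE I J) : I * (e : R) = e * I := e.2 I (by simp)

theorem QE.J_mul (e : QE I J) : J * (e : R) = e * J := e.2 J (by simp)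

theorem QE.I_mul' (e : QE I J) (x : R) : I * ((e : R) * x) = e * (I * x) := by
  rw [← mul_assoc, QE.I_mul, mul_assoc]

theorem QE.J_mul' (e : QE I J) (x : R) : J * ((e : R) * x) = e * (J * x) := by
  rw [← mul_assoc, QE.J_mul, mul_assoc]

omit [Algebra ℚ R] in
theorem QPair.II' (h : QPair I J) (x : R) : I * (I * x) = -x := by
  rw [← mul_assoc, h.II, neg_one_mul]

omit [Algebra ℚ R] in
theorem QPair.JJ' (h : QPair I J) (x : R) : J * (J * x) = -x := by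
  rw [← mul_assoc, h.JJ, neg_one_mul]

omit [Algebra ℚ R] in
theorem QPair.JI' (h : QPair I J) (x : R) : J * (I * x) = -(I * (J * x)) := by
  rw [← mul_assoc, h.JI, neg_mul, mul_assoc]

theorem qmk_mul (h : QPair I J) (e0 e1 e2 e3 f0 f1 f2 f3 : QE I J) :
    qmk e0 e1 e2 e3 * qmk f0 f1 f2 f3 =
      qmk (e0 * f0 - e1 * f1 - e2 * f2 - e3 * f3) (e0 * f1 + e1 * f0 + e2 * f3 - e3 * f2)
        (e0 * f2 - e1 * f3 + e2 * f0 + e3 * f1) (e0 * f3 + e1 * f2 - e2 * f1 + e3 * f0) := by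
  simp only [qmk, Subalgebra.coe_add, Subalgebra.coe_sub, Subalgebra.coe_mul]
  noncomm_ring [QE.I_mul, QE.J_mul, QE.I_mul', QE.J_mul', h.II, h.JJ, h.JI, h.II', h.JJ', h.JI']

theorem qmk_add (e0 e1 e2 e3 f0 f1 f2 f3 : QE I J) :
    qmk e0 e1 e2 e3 + qmk f0 f1 f2 f3 = qmk (e0 + f0) (e1 + f1) (e2 + f2) (e3 + f3) := by
  simp only [qmk, Subalgebra.coe_add]
  noncomm_ring

theorem qmk_neg (e0 e1 e2 e3 : QE I J) :
    -qmk e0 e1 e2 e3 = qmk (-e0) (-e1) (-e2) (-e3) := by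
  simp only [qmk, Subalgebra.coe_neg]
  noncomm_ring

theorem qmk_nsmul (n : ℕ) (e0 e1 e2 e3 : QE I J) :
    n • qmk e0 e1 e2 e3 = qmk (n • e0) (n • e1) (n • e2) (n • e3) := by
  simp only [qmk, AddSubmonoidClass.coe_nsmul, smul_add, smul_mul_assoc]

theorem qmk_scalar (e : QE I J) : qmk e 0 0 0 = e := by simp [qmk]

theorem qmk_I : (qmk (I := I) (J := J) 0 1 0 0 : R) = I := by simp [qmk]

theorem qmk_J : (qmk (I := I) (J := J) 0 0 1 0 : R) = J := by simp [qmk]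

theorem qmk_K : (qmk (I := I) (J := J) 0 0 0 1 : R) = I * J := by simp [qmk]

theorem qmk_eq_zero (h : QPair I J) {e0 e1 e2 e3 : QE I J} (he : qmk e0 e1 e2 e3 = 0) :
    e0 = 0 ∧ e1 = 0 ∧ e2 = 0 ∧ e3 = 0 := by
  have key : ∀ f0 f1 f2 f3 : QE I J, qmk f0 f1 f2 f3 = 0 → f0 = 0 := by
    intro f0 f1 f2 f3 hf
    apply Subtype.ext
    refine eq_zero_of_nsmul 4 (by norm_num) ?_
    have : 4 • (f0 : R) = qmk f0 f1 f2 f3 - I * qmk f0 f1 f2 f3 * I - J * qmk f0 f1 f2 f3 * J -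
        I * J * qmk f0 f1 f2 f3 * (I * J) := by
      simp only [qmk]
      noncomm_ring [QE.I_mul, QE.J_mul, QE.I_mul', QE.J_mul', h.II, h.JJ, h.JI, h.II', h.JJ',
        h.JI']
    rw [this, hf]
    simp
  have h1 := congrArg (· * qmk (I := I) (J := J) 0 1 0 0) he
  have h2 := congrArg (· * qmk (I := I) (J := J) 0 0 1 0) he
  have h3 := congrArg (· * qmk (I := I) (J := J) 0 0 0 1) he
  simp only [qmk_mul h, zero_mul] at h1 h2 h3
  exact ⟨key _ _ _ _ he, by simpa using key _ _ _ _ h1, by simpa using key _ _ _ _ h2,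
    by simpa using key _ _ _ _ h3⟩

theorem qmk_inj (h : QPair I J) {e0 e1 e2 e3 f0 f1 f2 f3 : QE I J}
    (he : qmk e0 e1 e2 e3 = qmk f0 f1 f2 f3) : e0 = f0 ∧ e1 = f1 ∧ e2 = f2 ∧ e3 = f3 := by
  rw [← sub_eq_zero, sub_eq_add_neg, qmk_neg, qmk_add] at he
  simpa only [← sub_eq_add_neg, sub_eq_zero] using qmk_eq_zero h he

theorem qmk_surj (h : QPair I J) (x : R) : ∃ e0 e1 e2 e3 : QE I J, x = qmk e0 e1 e2 e3 := by
  have key : ∀ y : R, y - I * y * I - J * y * J - I * J * y * (I * J) ∈ QE I J := by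
    intro y g hg
    rcases hg with rfl | rfl
    · noncomm_ring [h.II, h.JJ, h.JI, h.II', h.JJ', h.JI']
    · noncomm_ring [h.II, h.JJ, h.JI, h.II', h.JJ', h.JI']
  refine ⟨(1 / 4 : ℚ) • ⟨_, key x⟩, -((1 / 4 : ℚ) • ⟨_, key (x * I)⟩),
    -((1 / 4 : ℚ) • ⟨_, key (x * J)⟩), -((1 / 4 : ℚ) • ⟨_, key (x * (I * J))⟩), ?_⟩
  refine eq_of_nsmul 4 (by norm_num) ?_
  have h4 : ∀ e : QE I J, 4 • ((1 / 4 : ℚ) • e) = e := by
    intro e
    rw [← Nat.cast_smul_eq_nsmul ℚ, smul_smul]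
    norm_num
  rw [qmk_nsmul, smul_neg, smul_neg, smul_neg, h4, h4, h4, h4]
  simp only [qmk, Subalgebra.coe_neg]
  noncomm_ring [h.II, h.JJ, h.JI, h.II', h.JJ', h.JI']

end Cfsg.Agent.H8
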