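import Cfsg.Agent.H8.Quat
import Cfsg.Agent.H8.FpfComplex

/-! Elements of order three in a Frobenius complement: the basic relations. -/

set_option autoImplicit false

namespace Cfsg.Agent.H8

/-- The properties of a fixed-point-free complex representation that are used below. -/
structure ZHyp {A R : Type*} [Group A] [Ring R] (ρ : A →* R) : Prop where
  canc : ∀ a : A, a ≠ 1 → ∀ x : R, (ρ a - 1) * x = 0 → x = 0
  ord : ∀ a b : A, orderOf a = 3 → orderOf b = 3 →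
    orderOf (a * b) = 1 ∨ orderOf (a * b) = 3 ∨ orderOf (a * b) = 4 ∨ orderOf (a * b) = 6 ∨
      orderOf (a * b) = 10

universe u in
theorem IsFC.exists_zhyp {A : Type u} [Group A] [Finite A] (h : IsFC A) :
    ∃ (R : Type u) (_ : Ring R) (_ : Algebra ℚ R) (_ : Nontrivial R) (ρ : A →* R), ZHyp ρ := by
  obtain ⟨V, _, _, _, _, ρ, hρ⟩ := h.exists_complex
  exact ⟨Module.End ℂ V, inferInstance, Algebra.compHom _ (algebraMap ℚ ℂ), inferInstance, ρ,
    fun a ha x hx => eq_zero_of_sub_one_mul ρ hρ ha hx,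
    fun a b ha hb => orderOf_mul_of_orderOf_three ρ hρ ha hb⟩

variable {A R : Type*} [Group A] [Ring R] {ρ : A →* R}

/-- The trace zero part of an element of order three. -/
def zx (ρ : A →* R) (c : A) : R := 2 * ρ c + 1

theorem rho_mul_inv (g : A) : ρ g * ρ g⁻¹ = 1 := by rw [← map_mul, mul_inv_cancel, map_one]

theorem rho_inv_mul (g : A) : ρ g⁻¹ * ρ g = 1 := by rw [← map_mul, inv_mul_cancel, map_one]

theorem zx_conj (g c : A) : zx ρ (g * c * g⁻¹) = ρ g * zx ρ c * ρ g⁻¹ := by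
  rw [zx, zx, map_mul, map_mul]
  linear_combination (norm := noncomm_ring) -rho_mul_inv (ρ := ρ) g

namespace ZHyp

theorem eq_one [Nontrivial R] (H : ZHyp ρ) {g : A} (h : ρ g = 1) : g = 1 := by
  by_contra hg
  exact one_ne_zero (H.canc g hg 1 (by rw [h, sub_self, zero_mul]))

theorem inj [Nontrivial R] (H : ZHyp ρ) : Function.Injective ρ :=
  (injective_iff_map_eq_one ρ).2 fun _ => H.eq_one

theorem neg_one (H : ZHyp ρ) {g : A} (h : g * g = 1) (h1 : g ≠ 1) : ρ g = -1 := by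
  have h2 : ρ g * ρ g = 1 := by rw [← map_mul, h, map_one]
  have := H.canc g h1 (ρ g + 1) (by linear_combination (norm := noncomm_ring) h2)
  linear_combination (norm := noncomm_ring) this

theorem sq3 (H : ZHyp ρ) {a : A} (ha : orderOf a = 3) : ρ a * ρ a = -1 - ρ a := by
  have h1 : a ≠ 1 := by rintro rfl; simp at ha
  have h2 : ρ a * ρ a * ρ a = 1 := by
    rw [← map_mul, ← map_mul, ← map_one ρ, ← pow_orderOf_eq_one a, ha, pow_three']
  have := H.canc a h1 (ρ a * ρ a + ρ a + 1) (by linear_combination (norm := noncomm_ring) h2)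
  linear_combination (norm := noncomm_ring) this

theorem inv3 (H : ZHyp ρ) {a : A} (ha : orderOf a = 3) : ρ a⁻¹ = -1 - ρ a := by
  have h2 : a⁻¹ = a * a := by
    rw [inv_eq_iff_mul_eq_one, ← pow_orderOf_eq_one a, ha, pow_three]
  rw [h2, map_mul, H.sq3 ha]

theorem pow_half (H : ZHyp ρ) {g : A} {k : ℕ} (hk : k ≠ 0) (h : orderOf g = 2 * k) :
    ρ g ^ k = -1 := by
  rw [← map_pow]
  refine H.neg_one (by rw [← pow_add, ← two_mul, ← h, pow_orderOf_eq_one]) fun h1 => ?_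
  have := Nat.le_of_dvd (Nat.pos_of_ne_zero hk) (orderOf_dvd_of_pow_eq_one h1)
  omega

theorem sq4 (H : ZHyp ρ) {g : A} (h : orderOf g = 4) : ρ g * ρ g = -1 := by
  rw [← sq]; exact H.pow_half two_ne_zero h

theorem inv4 {g : A} (h : ρ g * ρ g = -1) : ρ g⁻¹ = -ρ g := by
  linear_combination (norm := noncomm_ring) h * ρ g⁻¹ - ρ g * rho_mul_inv (ρ := ρ) g

theorem sum6 (H : ZHyp ρ) {g : A} (h : orderOf g = 6) : ρ g + ρ g⁻¹ = 1 := by
  have h1 : ρ g ^ 3 = -1 := H.pow_half three_ne_zero h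
  have h2 := H.sq3 (a := g ^ 2) (by rw [orderOf_pow' _ two_ne_zero, h]; rfl)
  rw [map_pow] at h2
  have h3 : ρ g * ρ g - ρ g + 1 = 0 := by
    linear_combination (norm := noncomm_ring) h2 - h1 * ρ g
  linear_combination (norm := noncomm_ring) h3 * ρ g⁻¹ - ρ g * rho_mul_inv (ρ := ρ) g +
    rho_mul_inv (ρ := ρ) g

theorem sum10 (H : ZHyp ρ) {g : A} (h : orderOf g = 10) :
    (ρ g + ρ g⁻¹) * (ρ g + ρ g⁻¹) = (ρ g + ρ g⁻¹) + 1 := by
  have h1 : ρ g ^ 5 = -1 := H.pow_half (by norm_num) h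
  have h0 : g ^ 2 ≠ 1 := fun e => by
    have := Nat.le_of_dvd two_pos (orderOf_dvd_of_pow_eq_one e)
    omega
  have h2 := H.canc _ h0 (ρ g ^ 4 - ρ g ^ 3 + ρ g ^ 2 - ρ g + 1) (by
    rw [map_pow]
    linear_combination (norm := noncomm_ring) h1 * ρ g - h1)
  have h3 : ρ g⁻¹ = -ρ g ^ 4 := by
    linear_combination (norm := noncomm_ring) h1 * ρ g⁻¹ - ρ g ^ 4 * rho_mul_inv (ρ := ρ) g
  rw [h3]
  linear_combination (norm := noncomm_ring) h2 + ρ g ^ 3 * h1 - h1 - h1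

theorem zx_sq [Algebra ℚ R] (H : ZHyp ρ) {c : A} (hc : orderOf c = 3) : zx ρ c * zx ρ c = -3 := by
  rw [zx]
  linear_combination (norm := noncomm_ring [lit_eq]) 4 * H.sq3 hc

theorem zx_inv [Algebra ℚ R] (H : ZHyp ρ) {c : A} (hc : orderOf c = 3) : zx ρ c⁻¹ = -zx ρ c := by
  rw [zx, zx, H.inv3 hc]
  noncomm_ring [lit_eq]

theorem zx_inj [Algebra ℚ R] [Nontrivial R] (H : ZHyp ρ) {c c' : A} (h : zx ρ c = zx ρ c') :
    c = c' := by
  refine H.inj (eq_of_nsmul 2 two_ne_zero ?_)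
  rw [zx, zx] at h
  linear_combination (norm := noncomm_ring [lit_eq]) h

theorem zx_symm [Algebra ℚ R] (H : ZHyp ρ) {c c' : A} (hc : orderOf c = 3) (hc' : orderOf c' = 3) :
    zx ρ c * zx ρ c' + zx ρ c' * zx ρ c = 4 * (ρ (c * c') + ρ (c * c')⁻¹) - 2 := by
  rw [zx, zx, mul_inv_rev, map_mul, map_mul, H.inv3 hc, H.inv3 hc']
  noncomm_ring [lit_eq]

theorem tri [Algebra ℚ R] [Nontrivial R] (H : ZHyp ρ) {c c' : A} (hc : orderOf c = 3)
    (hc' : orderOf c' = 3) :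
    c' = c ∨ c' = c⁻¹ ∨ zx ρ c * zx ρ c' + zx ρ c' * zx ρ c = 2 ∨
      zx ρ c * zx ρ c' + zx ρ c' * zx ρ c = -2 ∨
      (zx ρ c * zx ρ c' + zx ρ c' * zx ρ c) * (zx ρ c * zx ρ c' + zx ρ c' * zx ρ c) = 20 := by
  rw [H.zx_symm hc hc']
  rcases H.ord c c' hc hc' with h | h | h | h | h
  · exact Or.inr (Or.inl (eq_inv_of_mul_eq_one_right (orderOf_eq_one_iff.1 h)))
  · left
    have h1 := H.inv3 h
    rw [mul_inv_rev, map_mul, map_mul, H.inv3 hc, H.inv3 hc'] at h1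
    have h2 : ρ (c * c'⁻¹) + ρ (c * c'⁻¹)⁻¹ = 2 := by
      rw [mul_inv_rev, inv_inv, map_mul, map_mul, H.inv3 hc, H.inv3 hc']
      linear_combination (norm := noncomm_ring [lit_eq]) -h1
    have h3 : c * c'⁻¹ = 1 := by
      by_contra hne
      have h4 := H.canc _ hne (ρ (c * c'⁻¹)⁻¹ - 1) (by
        linear_combination (norm := noncomm_ring [lit_eq]) rho_mul_inv (ρ := ρ) (c * c'⁻¹) - h2)
      exact hne (inv_eq_one.1 (H.eq_one (sub_eq_zero.1 h4)))
    exact (mul_inv_eq_one.1 h3).symm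
  · refine Or.inr (Or.inr (Or.inr (Or.inl ?_)))
    rw [inv4 (H.sq4 h)]
    noncomm_ring
  · refine Or.inr (Or.inr (Or.inl ?_))
    rw [H.sum6 h]
    noncomm_ring [lit_eq]
  · refine Or.inr (Or.inr (Or.inr (Or.inr ?_)))
    linear_combination (norm := noncomm_ring [lit_eq]) 16 * H.sum10 h

end ZHyp

/-- A copy of `SL₂(3)` generated by `a`, `i`, `j`. -/
structure Frame (ρ : A →* R) (a i j : A) : Prop where
  pair : QPair (ρ i) (ρ j)
  ha : orderOf a = 3
  hx : zx ρ a = ρ i + ρ j + ρ i * ρ j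

theorem ZHyp.exists_frame_of_neg_two [Algebra ℚ R] (H : ZHyp ρ) {a b : A} (ha : orderOf a = 3)
    (hb : orderOf b = 3) (h : zx ρ a * zx ρ b + zx ρ b * zx ρ a = -2) :
    Frame ρ a (b⁻¹ * a * b⁻¹) (b⁻¹ * a⁻¹) := by
  have h1 := H.sq3 ha
  have h2 := H.sq3 hb
  have h3 : ρ b * ρ a = -1 - ρ a - ρ b - ρ a * ρ b := by
    refine eq_of_nsmul 4 (by norm_num) ?_
    rw [zx, zx] at h
    linear_combination (norm := noncomm_ring [lit_eq]) h
  have h1' : ∀ x, ρ a * (ρ a * x) = -x - ρ a * x := fun x => by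
    rw [← mul_assoc, h1]; noncomm_ring
  have h2' : ∀ x, ρ b * (ρ b * x) = -x - ρ b * x := fun x => by
    rw [← mul_assoc, h2]; noncomm_ring
  have h3' : ∀ x, ρ b * (ρ a * x) = -x - ρ a * x - ρ b * x - ρ a * (ρ b * x) := fun x => by
    rw [← mul_assoc, h3]; noncomm_ring
  have hi : ρ (b⁻¹ * a * b⁻¹) = ρ a - ρ b := by
    rw [map_mul, map_mul, H.inv3 hb]
    noncomm_ring [h1, h2, h3, h1', h2', h3']
  have hj : ρ (b⁻¹ * a⁻¹) = -(ρ a * ρ b) := by
    rw [map_mul, H.inv3 hb, H.inv3 ha]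
    noncomm_ring [h1, h2, h3, h1', h2', h3']
  refine ⟨⟨?_, ?_, ?_⟩, ha, ?_⟩
  · rw [hi]; noncomm_ring [h1, h2, h3, h1', h2', h3']
  · rw [hj]; noncomm_ring [h1, h2, h3, h1', h2', h3']
  · rw [hi, hj]; noncomm_ring [h1, h2, h3, h1', h2', h3']
  · rw [hi, hj, zx]; noncomm_ring [h1, h2, h3, h1', h2', h3']

/-- Two different subgroups of order three give a frame whose members are products of elements of
order three. -/
theorem ZHyp.exists_frame [Algebra ℚ R] [Nontrivial R] (H : ZHyp ρ) {c c' : A}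
    (hc : orderOf c = 3) (hc' : orderOf c' = 3) (h1 : c' ≠ c) (h2 : c' ≠ c⁻¹) :
    ∃ a b : A, orderOf b = 3 ∧ Frame ρ a (b⁻¹ * a * b⁻¹) (b⁻¹ * a⁻¹) := by
  rcases H.tri hc hc' with h | h | h | h | h
  · exact absurd h h1
  · exact absurd h h2
  · have hc'' : orderOf c'⁻¹ = 3 := by rw [orderOf_inv, hc']
    refine ⟨c, c'⁻¹, hc'', H.exists_frame_of_neg_two hc hc'' ?_⟩
    rw [H.zx_inv hc']
    linear_combination (norm := noncomm_ring) -h
  · exact ⟨c, c', hc', H.exists_frame_of_neg_two hc hc' h⟩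
  · have hd : orderOf (c * c' * c⁻¹) = 3 := ((MulAut.conj c).orderOf_eq c').trans hc'
    refine ⟨c', _, hd, H.exists_frame_of_neg_two hc' hd ?_⟩
    rw [zx_conj, H.inv3 hc]
    refine eq_of_nsmul 4 (by norm_num) ?_
    have e1 : ∀ x y : R, 4 • (y * (ρ c * y * (-1 - ρ c)) + ρ c * y * (-1 - ρ c) * y) =
        -(y * ((zx ρ c - 1) * y * (zx ρ c + 1)) + (zx ρ c - 1) * y * (zx ρ c + 1) * y) := by
      intro x y
      rw [zx]; noncomm_ring [lit_eq]
    rw [e1 0]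
    have hx := H.zx_sq hc
    have hy := H.zx_sq hc'
    generalize zx ρ c = x at *
    generalize zx ρ c' = y at *
    have hx' : ∀ z, x * (x * z) = -3 * z := fun z => by rw [← mul_assoc, hx]
    have hy' : ∀ z, y * (y * z) = -3 * z := fun z => by rw [← mul_assoc, hy]
    linear_combination (norm := noncomm_ring [lit_eq, hx, hy, hx', hy']) -h

end Cfsg.Agent.H8
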