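import Cfsg.Agent.H8.Zass1

/-! Elements of order three in a Frobenius complement: coordinates relative to a frame. -/

set_option autoImplicit false

namespace Cfsg.Agent.H8

section ringlemmas

variable {E : Type*} [Ring E] [Algebra ℚ E] [Nontrivial E]

theorem four_cases {u1 u2 u3 u4 : E} (hs : u1 * u1 + u2 * u2 + u3 * u3 + u4 * u4 = 12)
    (h1 : (u1 = 1 ∨ u1 = -1) ∨ u1 * u1 = 5) (h2 : (u2 = 1 ∨ u2 = -1) ∨ u2 * u2 = 5)
    (h3 : (u3 = 1 ∨ u3 = -1) ∨ u3 * u3 = 5) (h4 : (u4 = 1 ∨ u4 = -1) ∨ u4 * u4 = 5) :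
    (u1 * u1 = 5 ∧ u2 * u2 = 5 ∧ (u3 = 1 ∨ u3 = -1) ∧ (u4 = 1 ∨ u4 = -1)) ∨
    (u3 * u3 = 5 ∧ u4 * u4 = 5 ∧ (u1 = 1 ∨ u1 = -1) ∧ (u2 = 1 ∨ u2 = -1)) ∨
    (u1 * u1 = 5 ∧ u3 * u3 = 5 ∧ (u4 = 1 ∨ u4 = -1) ∧ (u2 = 1 ∨ u2 = -1)) ∨
    (u4 * u4 = 5 ∧ u2 * u2 = 5 ∧ (u1 = 1 ∨ u1 = -1) ∧ (u3 = 1 ∨ u3 = -1)) ∨
    (u1 * u1 = 5 ∧ u4 * u4 = 5 ∧ (u2 = 1 ∨ u2 = -1) ∧ (u3 = 1 ∨ u3 = -1)) ∨
    (u2 * u2 = 5 ∧ u3 * u3 = 5 ∧ (u1 = 1 ∨ u1 = -1) ∧ (u4 = 1 ∨ u4 = -1)) := by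
  have key : ∀ u : E, (u = 1 ∨ u = -1) → u * u = 1 := by
    rintro u (rfl | rfl) <;> simp
  rcases h1 with h1 | h1 <;> rcases h2 with h2 | h2 <;> rcases h3 with h3 | h3 <;>
    rcases h4 with h4 | h4
  · exact (false_of_nsmul_one (R := E) 8 (by norm_num) (by
      linear_combination (norm := noncomm_ring [lit_eq])
        key _ h1 + key _ h2 + key _ h3 + key _ h4 - hs)).elim
  · exact (false_of_nsmul_one (R := E) 4 (by norm_num) (by
      linear_combination (norm := noncomm_ring [lit_eq])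
        key _ h1 + key _ h2 + key _ h3 + h4 - hs)).elim
  · exact (false_of_nsmul_one (R := E) 4 (by norm_num) (by
      linear_combination (norm := noncomm_ring [lit_eq])
        key _ h1 + key _ h2 + h3 + key _ h4 - hs)).elim
  · exact Or.inr (Or.inl ⟨h3, h4, h1, h2⟩)
  · exact (false_of_nsmul_one (R := E) 4 (by norm_num) (by
      linear_combination (norm := noncomm_ring [lit_eq])
        key _ h1 + h2 + key _ h3 + key _ h4 - hs)).elim
  · exact Or.inr (Or.inr (Or.inr (Or.inl ⟨h4, h2, h1, h3⟩)))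
  · exact Or.inr (Or.inr (Or.inr (Or.inr (Or.inr ⟨h2, h3, h1, h4⟩))))
  · exact (false_of_nsmul_one (R := E) 4 (by norm_num) (by
      linear_combination (norm := noncomm_ring [lit_eq]) hs - key _ h1 - h2 - h3 - h4)).elim
  · exact (false_of_nsmul_one (R := E) 4 (by norm_num) (by
      linear_combination (norm := noncomm_ring [lit_eq])
        h1 + key _ h2 + key _ h3 + key _ h4 - hs)).elim
  · exact Or.inr (Or.inr (Or.inr (Or.inr (Or.inl ⟨h1, h4, h2, h3⟩))))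
  · exact Or.inr (Or.inr (Or.inl ⟨h1, h3, h4, h2⟩))
  · exact (false_of_nsmul_one (R := E) 4 (by norm_num) (by
      linear_combination (norm := noncomm_ring [lit_eq]) hs - h1 - key _ h2 - h3 - h4)).elim
  · exact Or.inl ⟨h1, h2, h3, h4⟩
  · exact (false_of_nsmul_one (R := E) 4 (by norm_num) (by
      linear_combination (norm := noncomm_ring [lit_eq]) hs - h1 - h2 - key _ h3 - h4)).elim
  · exact (false_of_nsmul_one (R := E) 4 (by norm_num) (by
      linear_combination (norm := noncomm_ring [lit_eq]) hs - h1 - h2 - h3 - key _ h4)).elim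
  · exact (false_of_nsmul_one (R := E) 8 (by norm_num) (by
      linear_combination (norm := noncomm_ring [lit_eq]) hs - h1 - h2 - h3 - h4)).elim

theorem nf_of_sq {y1 y2 y3 : E} (h1 : (y1 + y2 + y3) * (y1 + y2 + y3) = 5)
    (h2 : (y1 - y2 - y3) * (y1 - y2 - y3) = 5) (h3 : -y1 + y2 - y3 = 1 ∨ -y1 + y2 - y3 = -1)
    (h4 : -y1 - y2 + y3 = 1 ∨ -y1 - y2 + y3 = -1) :
    y1 = 0 ∧ ((y2 * y2 = y2 + 1 ∧ y3 = y2 - 1) ∨ (-y2 * -y2 = -y2 + 1 ∧ -y3 = -y2 - 1)) := by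
  rcases h3 with h3 | h3 <;> rcases h4 with h4 | h4
  · have e1 : y1 = -1 := eq_of_nsmul 2 two_ne_zero (by
      linear_combination (norm := noncomm_ring) -h3 - h4)
    have e2 : y3 = y2 := eq_of_nsmul 2 two_ne_zero (by
      linear_combination (norm := noncomm_ring) h4 - h3)
    subst e1 e2
    have e3 : y3 = 0 := eq_zero_of_nsmul 8 (by norm_num) (by
      linear_combination (norm := noncomm_ring) h2 - h1)
    subst e3
    exact (false_of_nsmul_one (R := E) 4 (by norm_num) (by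
      linear_combination (norm := noncomm_ring [lit_eq]) -h1)).elim
  · have e1 : y1 = 0 := eq_zero_of_nsmul 2 two_ne_zero (by
      linear_combination (norm := noncomm_ring) -h3 - h4)
    subst e1
    have e2 : y3 = y2 - 1 := by linear_combination (norm := noncomm_ring) -h3
    subst e2
    exact ⟨rfl, Or.inl ⟨eq_of_nsmul 4 (by norm_num) (by
      linear_combination (norm := noncomm_ring [lit_eq]) h1), rfl⟩⟩
  · have e1 : y1 = 0 := eq_zero_of_nsmul 2 two_ne_zero (by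
      linear_combination (norm := noncomm_ring) -h3 - h4)
    subst e1
    have e2 : y3 = y2 + 1 := by linear_combination (norm := noncomm_ring) -h3
    subst e2
    exact ⟨rfl, Or.inr ⟨eq_of_nsmul 4 (by norm_num) (by
      linear_combination (norm := noncomm_ring [lit_eq]) h1), by noncomm_ring⟩⟩
  · have e1 : y1 = 1 := eq_of_nsmul 2 two_ne_zero (by
      linear_combination (norm := noncomm_ring) -h3 - h4)
    have e2 : y3 = y2 := eq_of_nsmul 2 two_ne_zero (by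
      linear_combination (norm := noncomm_ring) h4 - h3)
    subst e1 e2
    have e3 : y3 = 0 := eq_zero_of_nsmul 8 (by norm_num) (by
      linear_combination (norm := noncomm_ring) h1 - h2)
    subst e3
    exact (false_of_nsmul_one (R := E) 4 (by norm_num) (by
      linear_combination (norm := noncomm_ring [lit_eq]) -h1)).elim

end ringlemmas

variable {A R : Type*} [Group A] [Ring R] [Algebra ℚ R] {ρ : A →* R} {a i j : A}

/-- `c` has order three and its trace zero part has the given coordinates. -/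
def Co (ρ : A →* R) (i j c : A) (p y1 y2 y3 : QE (ρ i) (ρ j)) : Prop :=
  orderOf c = 3 ∧ zx ρ c = qmk p y1 y2 y3

theorem Frame.exists_co (F : Frame ρ a i j) {c : A} (hc : orderOf c = 3) :
    ∃ p y1 y2 y3, Co ρ i j c p y1 y2 y3 := by
  obtain ⟨p, y1, y2, y3, h⟩ := qmk_surj F.pair (zx ρ c)
  exact ⟨p, y1, y2, y3, hc, h⟩

theorem Frame.co_a (F : Frame ρ a i j) : Co ρ i j a 0 1 1 1 := ⟨F.ha, by rw [F.hx]; simp [qmk]⟩

section

variable {c c' : A} {p y1 y2 y3 q z1 z2 z3 : QE (ρ i) (ρ j)}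

theorem Co.inv (H : ZHyp ρ) (h : Co ρ i j c p y1 y2 y3) : Co ρ i j c⁻¹ (-p) (-y1) (-y2) (-y3) :=
  ⟨by rw [orderOf_inv, h.1], by rw [H.zx_inv h.1, h.2, qmk_neg]⟩

theorem Co.conj_i (F : Frame ρ a i j) (h : Co ρ i j c p y1 y2 y3) :
    Co ρ i j (i * c * i⁻¹) p y1 (-y2) (-y3) := by
  refine ⟨((MulAut.conj i).orderOf_eq c).trans h.1, ?_⟩
  rw [zx_conj, ZHyp.inv4 F.pair.II, h.2]
  have := qmk_I (I := ρ i) (J := ρ j)
  calc ρ i * qmk p y1 y2 y3 * -ρ i = qmk 0 1 0 0 * qmk p y1 y2 y3 * -qmk 0 1 0 0 := by rw [this]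
    _ = _ := by rw [qmk_neg, qmk_mul F.pair, qmk_mul F.pair]; simp

theorem Co.conj_j (F : Frame ρ a i j) (h : Co ρ i j c p y1 y2 y3) :
    Co ρ i j (j * c * j⁻¹) p (-y1) y2 (-y3) := by
  refine ⟨((MulAut.conj j).orderOf_eq c).trans h.1, ?_⟩
  rw [zx_conj, ZHyp.inv4 F.pair.JJ, h.2]
  have := qmk_J (I := ρ i) (J := ρ j)
  calc ρ j * qmk p y1 y2 y3 * -ρ j = qmk 0 0 1 0 * qmk p y1 y2 y3 * -qmk 0 0 1 0 := by rw [this]
    _ = _ := by rw [qmk_neg, qmk_mul F.pair, qmk_mul F.pair]; simp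

theorem Co.conj_a (H : ZHyp ρ) (F : Frame ρ a i j) (h : Co ρ i j c p y1 y2 y3) :
    Co ρ i j (a * c * a⁻¹) p y2 y3 y1 := by
  refine ⟨((MulAut.conj a).orderOf_eq c).trans h.1, eq_of_nsmul 4 (by norm_num) ?_⟩
  have h1 : 2 • ρ a = qmk (I := ρ i) (J := ρ j) (-1) 1 1 1 := by
    have := F.hx
    rw [zx] at this
    simp only [qmk, Subalgebra.coe_neg, Subalgebra.coe_one]
    linear_combination (norm := noncomm_ring) this
  have h2 : 2 • ρ a⁻¹ = qmk (I := ρ i) (J := ρ j) (-1) (-1) (-1) (-1) := by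
    have := F.hx
    rw [zx] at this
    rw [H.inv3 F.ha]
    simp only [qmk, Subalgebra.coe_neg, Subalgebra.coe_one]
    linear_combination (norm := noncomm_ring) -this
  rw [zx_conj, h.2, show 4 • (ρ a * qmk p y1 y2 y3 * ρ a⁻¹) =
    (2 • ρ a) * qmk p y1 y2 y3 * (2 • ρ a⁻¹) by noncomm_ring, h1, h2, qmk_mul F.pair,
    qmk_mul F.pair, qmk_nsmul]
  congr 1 <;> noncomm_ring

theorem Co.sq (H : ZHyp ρ) (F : Frame ρ a i j) (h : Co ρ i j c p y1 y2 y3) :
    p * p - y1 * y1 - y2 * y2 - y3 * y3 = -3 ∧ p * y1 + y1 * p + y2 * y3 - y3 * y2 = 0 ∧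
      p * y2 - y1 * y3 + y2 * p + y3 * y1 = 0 ∧ p * y3 + y1 * y2 - y2 * y1 + y3 * p = 0 := by
  have := H.zx_sq h.1
  rw [h.2, qmk_mul F.pair, show (-3 : R) = qmk (I := ρ i) (J := ρ j) (-3) 0 0 0 by
    rw [qmk_scalar]; rfl] at this
  exact qmk_inj F.pair this

theorem Co.unique (F : Frame ρ a i j) (h : Co ρ i j c p y1 y2 y3) (h' : Co ρ i j c q z1 z2 z3) :
    q = p ∧ z1 = y1 ∧ z2 = y2 ∧ z3 = y3 := qmk_inj F.pair (h'.2.symm.trans h.2)

theorem Co.eq [Nontrivial R] (H : ZHyp ρ) (h : Co ρ i j c p y1 y2 y3)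
    (h' : Co ρ i j c' p y1 y2 y3) : c = c' := H.zx_inj (h.2.trans h'.2.symm)

theorem Co.tri [Nontrivial R] (H : ZHyp ρ) (F : Frame ρ a i j) (h : Co ρ i j c p y1 y2 y3)
    (h' : Co ρ i j c' q z1 z2 z3) {b0 b1 b2 b3 : QE (ρ i) (ρ j)}
    (e0 : p * q - y1 * z1 - y2 * z2 - y3 * z3 + (q * p - z1 * y1 - z2 * y2 - z3 * y3) = b0)
    (e1 : p * z1 + y1 * q + y2 * z3 - y3 * z2 + (q * y1 + z1 * p + z2 * y3 - z3 * y2) = b1)
    (e2 : p * z2 - y1 * z3 + y2 * q + y3 * z1 + (q * y2 - z1 * y3 + z2 * p + z3 * y1) = b2)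
    (e3 : p * z3 + y1 * z2 - y2 * z1 + y3 * q + (q * y3 + z1 * y2 - z2 * y1 + z3 * p) = b3) :
    c' = c ∨ c' = c⁻¹ ∨ ((b0 = 2 ∨ b0 = -2) ∧ b1 = 0 ∧ b2 = 0 ∧ b3 = 0) ∨
      (b0 * b0 - b1 * b1 - b2 * b2 - b3 * b3 = 20 ∧ b0 * b1 + b1 * b0 + b2 * b3 - b3 * b2 = 0 ∧
        b0 * b2 - b1 * b3 + b2 * b0 + b3 * b1 = 0 ∧ b0 * b3 + b1 * b2 - b2 * b1 + b3 * b0 = 0) := by
  have hB : zx ρ c * zx ρ c' + zx ρ c' * zx ρ c = qmk b0 b1 b2 b3 := by
    rw [h.2, h'.2, qmk_mul F.pair, qmk_mul F.pair, qmk_add, e0, e1, e2, e3]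
  rcases H.tri h.1 h'.1 with e | e | e | e | e
  · exact Or.inl e
  · exact Or.inr (Or.inl e)
  · rw [hB, show (2 : R) = qmk (I := ρ i) (J := ρ j) 2 0 0 0 by rw [qmk_scalar]; rfl] at e
    obtain ⟨a0, a1⟩ := qmk_inj F.pair e
    exact Or.inr (Or.inr (Or.inl ⟨Or.inl a0, a1⟩))
  · rw [hB, show (-2 : R) = qmk (I := ρ i) (J := ρ j) (-2) 0 0 0 by rw [qmk_scalar]; rfl] at e
    obtain ⟨a0, a1⟩ := qmk_inj F.pair e
    exact Or.inr (Or.inr (Or.inl ⟨Or.inr a0, a1⟩))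
  · rw [hB, qmk_mul F.pair,
      show (20 : R) = qmk (I := ρ i) (J := ρ j) 20 0 0 0 by rw [qmk_scalar]; rfl] at e
    exact Or.inr (Or.inr (Or.inr (qmk_inj F.pair e)))

/-- No element of order three has coordinates `p + y i` with `p ^ 2 = -1`, `y ^ 2 = 2`. -/
theorem Co.false_of_line [Nontrivial R] (H : ZHyp ρ) (F : Frame ρ a i j)
    (h : Co ρ i j c p y1 0 0) (hp : p * p = -1) (hy : y1 * y1 = 2) (hpy : y1 * p = -(p * y1)) :
    False := by
  have h' := (h.conj_j F).inv H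
  have hp' : ∀ x, p * (p * x) = -x := fun x => by rw [← mul_assoc, hp, neg_one_mul]
  have hy' : ∀ x, y1 * (y1 * x) = 2 * x := fun x => by rw [← mul_assoc, hy]
  have hpy' : ∀ x, y1 * (p * x) = -(p * (y1 * x)) := fun x => by
    rw [← mul_assoc, hpy, neg_mul, mul_assoc]
  have h1 : 2 • ρ (c * (j * c * j⁻¹)⁻¹ * i) = (y1 - p * y1 : QE (ρ i) (ρ j)) := by
    refine eq_of_nsmul 2 two_ne_zero ?_
    have e1 : 2 • ρ c = qmk (p - 1) y1 0 0 := by
      have := h.2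
      simp only [zx, qmk, Subalgebra.coe_sub, Subalgebra.coe_one] at this ⊢
      linear_combination (norm := noncomm_ring) this
    have e2 : 2 • ρ (j * c * j⁻¹)⁻¹ = qmk (-p - 1) y1 0 0 := by
      have := h'.2
      simp only [zx, qmk, Subalgebra.coe_sub, Subalgebra.coe_one, neg_neg, neg_zero] at this ⊢
      linear_combination (norm := noncomm_ring) this
    have e3 := qmk_I (I := ρ i) (J := ρ j)
    calc 2 • 2 • ρ (c * (j * c * j⁻¹)⁻¹ * i) = (2 • ρ c) * (2 • ρ (j * c * j⁻¹)⁻¹) * ρ i := by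
          rw [map_mul, map_mul]; noncomm_ring
      _ = qmk (p - 1) y1 0 0 * qmk (-p - 1) y1 0 0 * qmk 0 1 0 0 := by rw [e1, e2, e3]
      _ = _ := by
        rw [qmk_mul F.pair, qmk_mul F.pair, ← qmk_scalar, qmk_nsmul]
        congr 1 <;> noncomm_ring [lit_eq, hp, hy, hpy]
  have h2 : (y1 - p * y1) * (y1 - p * y1) = 4 := by
    noncomm_ring [lit_eq, hp, hy, hpy, hp', hy', hpy']
  generalize c * (j * c * j⁻¹)⁻¹ * i = g at h1
  have h3 : g * g = 1 := by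
    refine H.eq_one (eq_of_nsmul 4 (by norm_num) ?_)
    rw [map_mul, show 4 • (ρ g * ρ g) = (2 • ρ g) * (2 • ρ g) by noncomm_ring, h1,
      ← Subalgebra.coe_mul, h2, nsmul_one]
    rfl
  have h4 : y1 - p * y1 = 2 ∨ y1 - p * y1 = -2 := by
    by_cases hg : g = 1
    · left
      apply Subtype.ext
      rw [← h1, hg, map_one, nsmul_one]; rfl
    · right
      apply Subtype.ext
      rw [← h1, H.neg_one h3 hg, smul_neg, nsmul_one]; rfl
  have h5 : y1 = p + 1 ∨ y1 = -(p + 1) := by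
    rcases h4 with h4 | h4
    · left
      refine eq_of_nsmul 2 two_ne_zero ?_
      linear_combination (norm := noncomm_ring [lit_eq, hp']) (p + 1) * h4
    · right
      refine eq_of_nsmul 2 two_ne_zero ?_
      linear_combination (norm := noncomm_ring [lit_eq, hp']) (p + 1) * h4
  have h6 : p = 1 := by
    refine eq_of_nsmul 2 two_ne_zero ?_
    rcases h5 with rfl | rfl
    · linear_combination (norm := noncomm_ring [lit_eq]) hy - hp
    · linear_combination (norm := noncomm_ring [lit_eq]) hy - hp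
  subst h6
  exact false_of_nsmul_one (R := QE (ρ i) (ρ j)) 2 two_ne_zero (by
    linear_combination (norm := noncomm_ring) hp)

end

end Cfsg.Agent.H8
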