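import Cfsg.Agent.H8.Zass2

/-! Elements of order three in a Frobenius complement: classification relative to a frame. -/

set_option autoImplicit false

namespace Cfsg.Agent.H8

variable {A R : Type*} [Group A] [Ring R] [Algebra ℚ R] [Nontrivial R] {ρ : A →* R} {a i j : A}

section

variable {c c' : A} {p y1 y2 y3 : QE (ρ i) (ρ j)}

theorem Co.tri_a (H : ZHyp ρ) (F : Frame ρ a i j) (h : Co ρ i j c p y1 y2 y3) :
    (a = c ∨ a = c⁻¹) ∨ (p = 0 ∧ (y1 + y2 + y3 = 1 ∨ y1 + y2 + y3 = -1)) ∨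
      ((y1 + y2 + y3) * (y1 + y2 + y3) = 5 + 3 * (p * p) ∧
        (y1 + y2 + y3) * p + p * (y1 + y2 + y3) = 0) := by
  rcases h.tri H F F.co_a (b0 := -2 * (y1 + y2 + y3)) (b1 := 2 * p) (b2 := 2 * p) (b3 := 2 * p)
    (by noncomm_ring [lit_eq]) (by noncomm_ring [lit_eq]) (by noncomm_ring [lit_eq])
    (by noncomm_ring [lit_eq]) with e | e | ⟨e0, e1, -⟩ | ⟨e0, e1, -⟩
  · exact Or.inl (Or.inl e)
  · exact Or.inl (Or.inr e)
  · refine Or.inr (Or.inl ⟨eq_zero_of_nsmul 2 two_ne_zero (by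
      linear_combination (norm := noncomm_ring [lit_eq]) e1), ?_⟩)
    rcases e0 with e0 | e0
    · exact Or.inr (eq_of_nsmul 2 two_ne_zero (by
        linear_combination (norm := noncomm_ring [lit_eq]) -e0))
    · exact Or.inl (eq_of_nsmul 2 two_ne_zero (by
        linear_combination (norm := noncomm_ring [lit_eq]) -e0))
  · exact Or.inr (Or.inr ⟨eq_of_nsmul 4 (by norm_num) (by
      linear_combination (norm := noncomm_ring [lit_eq]) e0), eq_zero_of_nsmul 4 (by norm_num) (by
      linear_combination (norm := noncomm_ring [lit_eq]) -e1)⟩)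

/-- The relations satisfied by the coordinates when the scalar coordinate does not vanish. -/
structure Odd3 {E : Type*} [Ring E] (p y1 y2 y3 : E) : Prop where
  pp : p * p = -1
  h1 : y1 * p = -(p * y1)
  h2 : y2 * p = -(p * y2)
  h3 : y3 * p = -(p * y3)
  z12 : y1 * y2 = 0
  z21 : y2 * y1 = 0
  z13 : y1 * y3 = 0
  z31 : y3 * y1 = 0
  z23 : y2 * y3 = 0
  z32 : y3 * y2 = 0
  ss : y1 * y1 + y2 * y2 + y3 * y3 = 2

theorem Odd3.rot {E : Type*} [Ring E] {p y1 y2 y3 : E} (h : Odd3 p y1 y2 y3) : Odd3 p y2 y3 y1 :=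
  ⟨h.pp, h.h2, h.h3, h.h1, h.z23, h.z32, h.z21, h.z12, h.z31, h.z13, by
    rw [← h.ss]; abel⟩

theorem Co.two_zero (H : ZHyp ρ) (F : Frame ρ a i j) (h : Co ρ i j c p y1 y2 y3)
    (o : Odd3 p y1 y2 y3) : y2 = 0 ∨ (y1 = 0 ∧ y3 = 0) := by
  have hc : y2 * y2 * y2 = 2 * y2 := by
    linear_combination (norm := noncomm_ring [lit_eq]) o.ss * y2 - y1 * o.z12 - y3 * o.z32
  have key : y2 * y2 = 1 → False := fun e => by
    have e1 : y2 = 0 := by linear_combination (norm := noncomm_ring [lit_eq]) e * y2 - hc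
    rw [e1, mul_zero] at e
    exact zero_ne_one e
  rcases h.tri H F (h.conj_j F) (b0 := 2 - 4 * (y2 * y2)) (b1 := 0) (b2 := 0) (b3 := 0)
    (by linear_combination (norm := noncomm_ring [lit_eq]) 2 * o.pp + 2 * o.ss)
    (by noncomm_ring)
    (by linear_combination (norm := noncomm_ring [lit_eq]) 2 * o.h2 + 2 * o.z13 - 2 * o.z31)
    (by noncomm_ring) with e | e | ⟨e0, -⟩ | ⟨e0, -⟩
  · have h' := h.conj_j F
    rw [e] at h'
    obtain ⟨-, e1, -, e3⟩ := h.unique F h'
    exact Or.inr ⟨eq_zero_of_nsmul 2 two_ne_zero (by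
      linear_combination (norm := noncomm_ring) -e1), eq_zero_of_nsmul 2 two_ne_zero (by
      linear_combination (norm := noncomm_ring) -e3)⟩
  · have h' := h.conj_j F
    rw [e] at h'
    obtain ⟨e1, -⟩ := (h.inv H).unique F h'
    have e2 : p = 0 := eq_zero_of_nsmul 2 two_ne_zero (by
      linear_combination (norm := noncomm_ring) e1)
    have := o.pp
    rw [e2, mul_zero] at this
    exact absurd this.symm (neg_ne_zero.2 one_ne_zero)
  · rcases e0 with e0 | e0
    · have e1 : y2 * y2 = 0 := eq_zero_of_nsmul 4 (by norm_num) (by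
        linear_combination (norm := noncomm_ring [lit_eq]) -e0)
      exact Or.inl (eq_zero_of_nsmul 2 two_ne_zero (by
        linear_combination (norm := noncomm_ring [lit_eq]) e1 * y2 - hc))
    · exact (key (eq_of_nsmul 4 (by norm_num) (by
        linear_combination (norm := noncomm_ring [lit_eq]) -e0))).elim
  · exact (key (eq_of_nsmul 16 (by norm_num) (by
      linear_combination (norm := noncomm_ring [lit_eq]) e0 - 16 * hc * y2))).elim

theorem Co.false_of_odd3 (H : ZHyp ρ) (F : Frame ρ a i j) (h : Co ρ i j c p y1 y2 y3)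
    (o : Odd3 p y1 y2 y3) : False := by
  have key : ∀ {c : A} {y1 y2 y3 : QE (ρ i) (ρ j)}, Co ρ i j c p y1 y2 y3 → Odd3 p y1 y2 y3 →
      y2 = 0 → y3 = 0 → False := by
    intro c y1 y2 y3 h o e2 e3
    subst e2 e3
    exact h.false_of_line H F o.pp (by simpa using o.ss) o.h1
  rcases h.two_zero H F o with e | ⟨e1, e3⟩
  · rcases (h.conj_a H F).two_zero H F o.rot with e' | ⟨-, e'⟩
    · exact key h o e e'
    · exact key ((h.conj_a H F).conj_a H F) o.rot.rot e' e
  · exact key (h.conj_a H F) o.rot e3 e1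

end

/-- `c` has the normal form of an element of order three outside the frame. -/
def NF (ρ : A →* R) (i j c : A) (φ : QE (ρ i) (ρ j)) : Prop :=
  Co ρ i j c 0 0 φ (φ - 1) ∧ φ * φ = φ + 1

theorem Co.nf_of_sq {c : A} {y1 y2 y3 : QE (ρ i) (ρ j)} (H : ZHyp ρ)
    (h : Co ρ i j c 0 y1 y2 y3) (h1 : (y1 + y2 + y3) * (y1 + y2 + y3) = 5)
    (h2 : (y1 - y2 - y3) * (y1 - y2 - y3) = 5) (h3 : -y1 + y2 - y3 = 1 ∨ -y1 + y2 - y3 = -1)
    (h4 : -y1 - y2 + y3 = 1 ∨ -y1 - y2 + y3 = -1) :
    ∃ φ, NF ρ i j c φ ∨ NF ρ i j c⁻¹ φ := by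
  obtain ⟨rfl, ⟨e1, rfl⟩ | ⟨e1, e2⟩⟩ := H8.nf_of_sq h1 h2 h3 h4
  · exact ⟨y2, Or.inl ⟨h, e1⟩⟩
  · have := h.inv H
    rw [neg_zero, e2] at this
    exact ⟨-y2, Or.inr ⟨this, e1⟩⟩

theorem Frame.classify (H : ZHyp ρ) (F : Frame ρ a i j) {c : A} (hc : orderOf c = 3) :
    c ∈ Subgroup.closure {a, i, j} ∨ ∃ g ∈ Subgroup.closure {a, i, j}, ∃ φ,
      NF ρ i j (g * c * g⁻¹) φ ∨ NF ρ i j (g * c * g⁻¹)⁻¹ φ := by
  by_cases hL : c ∈ Subgroup.closure {a, i, j}
  · exact Or.inl hL
  right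
  have ha : a ∈ Subgroup.closure ({a, i, j} : Set A) := Subgroup.subset_closure (by simp)
  have hi : i ∈ Subgroup.closure ({a, i, j} : Set A) := Subgroup.subset_closure (by simp)
  have hj : j ∈ Subgroup.closure ({a, i, j} : Set A) := Subgroup.subset_closure (by simp)
  have hne : ∀ g ∈ Subgroup.closure ({a, i, j} : Set A),
      ¬ (a = g * c * g⁻¹ ∨ a = (g * c * g⁻¹)⁻¹) := by
    intro g hg e
    have : g * c * g⁻¹ ∈ Subgroup.closure ({a, i, j} : Set A) := by
      rcases e with e | e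
      · exact e ▸ ha
      · exact inv_mem_iff.1 (e ▸ ha)
    exact hL (by simpa [mul_assoc] using mul_mem (mul_mem (inv_mem hg) this) hg)
  obtain ⟨p, y1, y2, y3, h⟩ := F.exists_co hc
  have t1 := (h.tri_a H F).resolve_left (by simpa using hne 1 (one_mem _))
  have t2 := ((h.conj_i F).tri_a H F).resolve_left (hne i hi)
  have t3 := ((h.conj_j F).tri_a H F).resolve_left (hne j hj)
  have t4 := (((h.conj_j F).conj_i F).tri_a H F).resolve_left (by
    simpa [mul_assoc] using hne (i * j) (mul_mem hi hj))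
  rw [show y1 + -y2 + -y3 = y1 - y2 - y3 by abel] at t2
  rw [show -y1 + y2 + -y3 = -y1 + y2 - y3 by abel] at t3
  rw [show -y1 + -y2 + - -y3 = -y1 - y2 + y3 by abel] at t4
  obtain ⟨s0, s1, s2, s3⟩ := h.sq H F
  by_cases hp : p = 0
  · subst hp
    simp only [true_and, mul_zero, add_zero, zero_mul, and_true] at t1 t2 t3 t4
    rcases four_cases (by linear_combination (norm := noncomm_ring [lit_eq]) -4 * s0) t1 t2 t3 t4
      with ⟨u1, u2, u3, u4⟩ | ⟨u1, u2, u3, u4⟩ | ⟨u1, u2, u3, u4⟩ | ⟨u1, u2, u3, u4⟩ |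
        ⟨u1, u2, u3, u4⟩ | ⟨u1, u2, u3, u4⟩
    · exact ⟨1, one_mem _, by simpa using h.nf_of_sq H u1 u2 u3 u4⟩
    · exact ⟨j, hj, (h.conj_j F).nf_of_sq H (by convert u1 using 2 <;> abel)
        (by convert u2 using 2 <;> abel) (by convert u3 using 2 <;> abel)
        (by convert u4 using 2 <;> abel)⟩
    · exact ⟨a, ha, (h.conj_a H F).nf_of_sq H (by convert u1 using 2 <;> abel)
        (by convert u2 using 2 <;> abel) (by convert u3 using 2 <;> abel)
        (by convert u4 using 2 <;> abel)⟩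
    · refine ⟨j * a, mul_mem hj ha, ?_⟩
      rw [show j * a * c * (j * a)⁻¹ = j * (a * c * a⁻¹) * j⁻¹ by group]
      exact ((h.conj_a H F).conj_j F).nf_of_sq H (by convert u1 using 2 <;> abel)
        (by convert u2 using 2 <;> abel) (by convert u3 using 2 <;> abel)
        (by convert u4 using 2 <;> abel)
    · refine ⟨a * a, mul_mem ha ha, ?_⟩
      rw [show a * a * c * (a * a)⁻¹ = a * (a * c * a⁻¹) * a⁻¹ by group]
      exact ((h.conj_a H F).conj_a H F).nf_of_sq H (by convert u1 using 2 <;> abel)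
        (by convert u2 using 2 <;> abel) (by convert u3 using 2 <;> abel)
        (by convert u4 using 2 <;> abel)
    · refine ⟨j * a * a, mul_mem (mul_mem hj ha) ha, ?_⟩
      rw [show j * a * a * c * (j * a * a)⁻¹ = j * (a * (a * c * a⁻¹) * a⁻¹) * j⁻¹ by group]
      exact (((h.conj_a H F).conj_a H F).conj_j F).nf_of_sq H (by convert u1 using 2 <;> abel)
        (by convert u2 using 2 <;> abel) (by convert u3 using 2 <;> abel)
        (by convert u4 using 2 <;> abel)
  · obtain ⟨u1, v1⟩ := t1.resolve_left fun e => hp e.1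
    obtain ⟨u2, v2⟩ := t2.resolve_left fun e => hp e.1
    obtain ⟨u3, v3⟩ := t3.resolve_left fun e => hp e.1
    obtain ⟨u4, v4⟩ := t4.resolve_left fun e => hp e.1
    have pp : p * p = -1 := eq_of_nsmul 8 (by norm_num) (by
      linear_combination (norm := noncomm_ring [lit_eq]) -u1 - u2 - u3 - u4 - 4 * s0)
    have h1 : y1 * p = -(p * y1) := eq_of_nsmul 2 two_ne_zero (by
      linear_combination (norm := noncomm_ring) v1 + v2)
    have h2 : y2 * p = -(p * y2) := eq_of_nsmul 2 two_ne_zero (by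
      linear_combination (norm := noncomm_ring) v1 + v3)
    have h3 : y3 * p = -(p * y3) := eq_of_nsmul 2 two_ne_zero (by
      linear_combination (norm := noncomm_ring) v1 + v4)
    have q12 : y1 * y2 + y2 * y1 = 0 := eq_zero_of_nsmul 4 (by norm_num) (by
      linear_combination (norm := noncomm_ring [lit_eq]) u1 - u2 - u3 + u4)
    have q13 : y1 * y3 + y3 * y1 = 0 := eq_zero_of_nsmul 4 (by norm_num) (by
      linear_combination (norm := noncomm_ring [lit_eq]) u1 - u2 + u3 - u4)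
    have q23 : y2 * y3 + y3 * y2 = 0 := eq_zero_of_nsmul 4 (by norm_num) (by
      linear_combination (norm := noncomm_ring [lit_eq]) u1 + u2 - u3 - u4)
    exact (h.false_of_odd3 H F ⟨pp, h1, h2, h3,
      eq_zero_of_nsmul 2 two_ne_zero (by linear_combination (norm := noncomm_ring) q12 + s3 - h3),
      eq_zero_of_nsmul 2 two_ne_zero (by linear_combination (norm := noncomm_ring) q12 - s3 + h3),
      eq_zero_of_nsmul 2 two_ne_zero (by linear_combination (norm := noncomm_ring) q13 - s2 + h2),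
      eq_zero_of_nsmul 2 two_ne_zero (by linear_combination (norm := noncomm_ring) q13 + s2 - h2),
      eq_zero_of_nsmul 2 two_ne_zero (by linear_combination (norm := noncomm_ring) q23 + s1 - h1),
      eq_zero_of_nsmul 2 two_ne_zero (by linear_combination (norm := noncomm_ring) q23 - s1 + h1),
      by linear_combination (norm := noncomm_ring [lit_eq]) pp - s0⟩).elim

theorem NF.unique {c c' : A} {φ ψ : QE (ρ i) (ρ j)} (H : ZHyp ρ) (F : Frame ρ a i j)
    (h : NF ρ i j c φ) (h' : NF ρ i j c' ψ) : φ = ψ := by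
  obtain ⟨h, hφ⟩ := h
  obtain ⟨h', hψ⟩ := h'
  by_contra hne
  have hφ' : ∀ x, φ * (φ * x) = φ * x + x := fun x => by rw [← mul_assoc, hφ, add_mul, one_mul]
  have hψ' : ∀ x, ψ * (ψ * x) = ψ * x + x := fun x => by rw [← mul_assoc, hψ, add_mul, one_mul]
  obtain ⟨D, hD⟩ : ∃ D, D = 4 * (φ * ψ + ψ * φ) - 4 * φ - 4 * ψ + 2 := ⟨_, rfl⟩
  have hC : D = -6 → φ * ψ - ψ * φ = 0 → False := fun e1 e2 => by
    have e3 : (2 * φ - 1) * (2 * ψ - 1) = -3 := eq_of_nsmul 2 two_ne_zero (by
      linear_combination (norm := noncomm_ring [lit_eq]) e1 - hD + 4 * e2)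
    have e4 : (2 * ψ - 1) * (2 * φ - 1) = -3 := eq_of_nsmul 2 two_ne_zero (by
      linear_combination (norm := noncomm_ring [lit_eq]) e1 - hD - 4 * e2)
    have e5 : (2 * φ - 1) * (2 * ψ - 1) * ((2 * ψ - 1) * (2 * φ - 1)) = 25 := by
      noncomm_ring [lit_eq, hφ, hψ, hφ', hψ']
    rw [e3, e4] at e5
    exact false_of_nsmul_one (R := QE (ρ i) (ρ j)) 16 (by norm_num) (by
      linear_combination (norm := noncomm_ring [lit_eq]) -e5)
  have hD1 : D = -6 ∨ D = 2 ∨ (2 + D) * (2 + D) = 80 := by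
    rcases h.tri H F h' (b0 := -(φ * ψ + ψ * φ + (φ - 1) * (ψ - 1) + (ψ - 1) * (φ - 1)))
      (b1 := 0) (b2 := 0) (b3 := 0) (by noncomm_ring) (by noncomm_ring) (by noncomm_ring)
      (by noncomm_ring) with e | e | ⟨e0, -⟩ | ⟨e0, -⟩
    · subst e
      exact absurd (h.unique F h').2.2.1.symm hne
    · subst e
      obtain ⟨-, -, e1, e2⟩ := (h.inv H).unique F h'
      exact (false_of_nsmul_one (R := QE (ρ i) (ρ j)) 2 two_ne_zero (by
        linear_combination (norm := noncomm_ring) e1 - e2)).elim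
    · rcases e0 with e0 | e0
      · exact Or.inl (by linear_combination (norm := noncomm_ring [lit_eq]) hD - 2 * e0)
      · exact Or.inr (Or.inl (by linear_combination (norm := noncomm_ring [lit_eq]) hD - 2 * e0))
    · refine Or.inr (Or.inr ?_)
      rw [hD]
      linear_combination (norm := noncomm_ring [lit_eq]) 4 * e0
  have hD2 : D * D - 4 * D - 60 = 0 := by
    rcases h.tri H F (h'.conj_j F) (b0 := -(2 * φ + 2 * ψ - 2)) (b1 := -2 * (φ * ψ - ψ * φ))
      (b2 := 0) (b3 := 0) (by noncomm_ring [lit_eq]) (by noncomm_ring [lit_eq]) (by noncomm_ring)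
      (by noncomm_ring) with e | e | ⟨e0, e1, -⟩ | ⟨e0, -⟩
    · have h'' := h'.conj_j F
      rw [e] at h''
      exact absurd (h.unique F h'').2.2.1.symm hne
    · have h'' := h'.conj_j F
      rw [e] at h''
      have e1 := ((h.inv H).unique F h'').2.2.2
      exact absurd (by linear_combination (norm := noncomm_ring) e1) hne
    · have e2 : (2 * φ + 2 * ψ - 2) * (2 * φ + 2 * ψ - 2) = 4 := by
        rcases e0 with e0 | e0
        · rw [neg_eq_iff_eq_neg.1 e0]; noncomm_ring [lit_eq]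
        · rw [neg_inj.1 e0]; noncomm_ring [lit_eq]
      exact (hC (by linear_combination (norm := noncomm_ring [lit_eq, hφ, hψ]) hD + e2)
        (eq_zero_of_nsmul 2 two_ne_zero (by
          linear_combination (norm := noncomm_ring [lit_eq]) -e1))).elim
    · rw [hD]
      linear_combination (norm := noncomm_ring [lit_eq, hφ, hψ, hφ', hψ']) -4 * e0
  have hD3 : D = -6 := by
    rcases hD1 with e | e | e
    · exact e
    · rw [e] at hD2
      exact (false_of_nsmul_one (R := QE (ρ i) (ρ j)) 64 (by norm_num) (by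
        linear_combination (norm := noncomm_ring [lit_eq]) -hD2)).elim
    · have e1 : D = 2 := eq_of_nsmul 8 (by norm_num) (by
        linear_combination (norm := noncomm_ring [lit_eq]) e - hD2)
      rw [e1] at hD2
      exact (false_of_nsmul_one (R := QE (ρ i) (ρ j)) 64 (by norm_num) (by
        linear_combination (norm := noncomm_ring [lit_eq]) -hD2)).elim
  have hψ1 : ψ - 1 ≠ 0 := fun e => by
    rw [sub_eq_zero.1 e] at hψ
    simp at hψ
  refine hC hD3 ?_
  rcases h.tri H F ((h'.conj_a H F).conj_a H F) (b0 := -((φ - 1) * ψ + ψ * (φ - 1)))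
    (b1 := φ * ψ - ψ * φ) (b2 := φ * ψ - ψ * φ) (b3 := -(φ * ψ - ψ * φ)) (by noncomm_ring)
    (by noncomm_ring) (by noncomm_ring) (by noncomm_ring) with e | e | ⟨-, e1, -⟩ | ⟨-, e1, -⟩
  · have h'' := (h'.conj_a H F).conj_a H F
    rw [e] at h''
    exact absurd (h.unique F h'').2.1 hψ1
  · have h'' := (h'.conj_a H F).conj_a H F
    rw [e] at h''
    exact absurd (((h.inv H).unique F h'').2.1.trans neg_zero) hψ1
  · exact e1
  · have e2 : -((φ - 1) * ψ + ψ * (φ - 1)) = 2 - (φ - ψ) := eq_of_nsmul 4 (by norm_num) (by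
      linear_combination (norm := noncomm_ring [lit_eq]) hD - hD3)
    rw [e2] at e1
    exact eq_zero_of_nsmul 4 (by norm_num) (by
      linear_combination (norm := noncomm_ring [lit_eq, hφ, hψ, hφ', hψ']) e1)

end Cfsg.Agent.H8
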